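import Cfsg.Agent.Lib.MaxSub.OFrame

/-!
Reflections as isometries: a product of two reflections at vectors of the same value lies in the commutator
subgroup, and is a Siegel transformation when the two vectors span a degenerate plane.
-/

set_option autoImplicit false
set_option linter.unusedSectionVars false

namespace CfsgLib.MaxSub.ORefl

open scoped commutatorElement
open CfsgLib.Classical CfsgLib.Geom CfsgLib.Geom.OrthSub CfsgLib.MaxSub
open QuadraticMap (polar)

variable {F V : Type*} [Field F] [AddCommGroup V] [Module F V] (Q : QuadraticForm F V)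

open scoped _root_.Classical in
/-- the reflection at an anisotropic vector, as an element of the isometry group -/
noncomputable def rs (v : V) : quadIsoms Q :=
  if h : Q v = 0 then 1 else ⟨reflEquiv Q v h, reflEquiv_mem Q v h⟩

variable {Q}

theorem rs_apply {v : V} (hv : Q v ≠ 0) (z : V) :
    (rs Q v).1 z = z - ((Q v)⁻¹ * polar Q v z) • v := by
  rw [rs, dif_neg hv]; exact reflEquiv_apply Q v hv z

theorem rs_fix {v z : V} (h : polar Q v z = 0) : (rs Q v).1 z = z := by
  by_cases hv : Q v = 0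
  · rw [rs, dif_pos hv]; rfl
  · rw [rs_apply hv, h, mul_zero, zero_smul, sub_zero]

theorem rs_self {v : V} (hv : Q v ≠ 0) : (rs Q v).1 v = -v := by
  rw [rs, dif_neg hv]; exact reflEquiv_self Q v hv

theorem rs_mul_self (v : V) : rs Q v * rs Q v = 1 := by
  by_cases hv : Q v = 0
  · rw [rs, dif_pos hv, one_mul]
  · rw [rs, dif_neg hv]; exact Subtype.ext (reflEquiv_mul_self Q v hv)

theorem rs_inv (v : V) : (rs Q v)⁻¹ = rs Q v := inv_eq_of_mul_eq_one_right (rs_mul_self v)

theorem rs_rs (v z : V) : (rs Q v).1 ((rs Q v).1 z) = z :=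
  congrArg (fun g : quadIsoms Q => g.1 z) (rs_mul_self v)

theorem rs_zero {v : V} (hv : Q v = 0) : rs Q v = 1 := by rw [rs, dif_pos hv]

theorem rs_coe {v : V} (hv : Q v ≠ 0) :
    rs Q v = ⟨reflEquiv Q v hv, reflEquiv_mem Q v hv⟩ := by rw [rs, dif_neg hv]

theorem rs_conj (g : quadIsoms Q) (v : V) : g * rs Q v * g⁻¹ = rs Q (g.1 v) := by
  by_cases hv : Q v = 0
  · rw [rs_zero hv, rs_zero (v := g.1 v) (by rwa [g.2])]; group
  · rw [rs_coe hv, rs_coe (v := g.1 v) (by rwa [g.2])]
    exact Subtype.ext (conj_reflEquiv Q g.2 v hv)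

theorem rs_smul {v : V} {a : F} (ha : a ≠ 0) : rs Q (a • v) = rs Q v := by
  by_cases hv : Q v = 0
  · rw [rs_zero hv, rs_zero (by rw [quad_smul, hv, mul_zero])]
  · have hav : Q (a • v) ≠ 0 := by rw [quad_smul]; exact mul_ne_zero (mul_ne_zero ha ha) hv
    refine quadIsoms_ext Q fun z => ?_
    rw [rs_apply hav, rs_apply hv, quad_smul, QuadraticMap.polar_smul_left, smul_smul, smul_eq_mul]
    congr 2
    field_simp

theorem rs_neg (v : V) : rs Q (-v) = rs Q v := by
  rw [← neg_one_smul F v]; exact rs_smul (neg_ne_zero.2 one_ne_zero)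

/-- the conjugate product of two reflections -/
theorem rs_conj_pair (g : quadIsoms Q) (a b : V) :
    g * (rs Q a * rs Q b) * g⁻¹ = rs Q (g.1 a) * rs Q (g.1 b) := by
  rw [← rs_conj g a, ← rs_conj g b]; group

theorem rs_pair_mem_commutator [FiniteDimensional F V] (hsep : ∀ x, (∀ y, polar Q x y = 0) → x = 0)
    {a b : V} (ha : Q a ≠ 0) (h : Q a = Q b) : rs Q a * rs Q b ∈ commutator (quadIsoms Q) := by
  obtain ⟨g, hg, hgab⟩ := exists_isom_vector Q hsep (x := a) (y := b) (fun e => ha (by simp [e]))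
    (fun e => ha (by simp [h, e])) h
  have h1 := Subgroup.commutator_mem_commutator (Subgroup.mem_top (rs Q a))
    (Subgroup.mem_top (⟨g, hg⟩ : quadIsoms Q))
  have e : (⁅rs Q a, (⟨g, hg⟩ : quadIsoms Q)⁆ : quadIsoms Q) = rs Q a * rs Q b := by
    show rs Q a * ⟨g, hg⟩ * (rs Q a)⁻¹ * (⟨g, hg⟩ : quadIsoms Q)⁻¹ = _
    rw [rs_inv, ← hgab, ← rs_conj ⟨g, hg⟩ a]
    group
  exact e ▸ h1

/-- two reflections whose vectors differ by a singular vector -/
theorem rs_mul_rs {a n : V} (ha : Q a ≠ 0) (hn : Q n = 0) (han : polar Q a n = 0) :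
    rs Q a * rs Q (a + n) = siegel Q n ((Q a)⁻¹ • a) := by
  have hb : Q (a + n) = Q a := by
    rw [QuadraticMap.map_add (Q : QuadraticMap F V F), hn, han, add_zero, add_zero]
  have hw : polar Q n ((Q a)⁻¹ • a) = 0 := by
    rw [QuadraticMap.polar_smul_right, QuadraticMap.polar_comm, han, smul_zero]
  refine quadIsoms_ext Q fun z => ?_
  show (rs Q a).1 ((rs Q (a + n)).1 z) = _
  rw [rs_apply (v := a + n) (by rw [hb]; exact ha), rs_apply ha, hb, siegel_apply Q hn hw,
    QuadraticMap.polar_sub_right, QuadraticMap.polar_smul_right, QuadraticMap.polar_add_left,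
    QuadraticMap.polar_add_right, polar_self_two, han, QuadraticMap.polar_smul_left, quad_smul]
  simp only [smul_eq_mul, add_zero]
  match_scalars <;> field_simp <;> ring

/-- Moving both vectors of a pair along a singular vector changes the product by a Siegel transformation. -/
theorem rs_shift {a b δ : V} (ha : Q a ≠ 0) (hab : Q a = Q b) (hδ : Q δ = 0) (haδ : polar Q a δ = 0)
    (hbδ : polar Q b δ = 0) (x y : F) :
    rs Q (a + x • δ) * rs Q (b + y • δ) = rs Q a * rs Q b *
      siegel Q δ ((Q a)⁻¹ • (x • (rs Q b).1 a + y • b)) := by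
  have hb : Q b ≠ 0 := hab ▸ ha
  have one : ∀ {v : V}, Q v ≠ 0 → polar Q v δ = 0 → ∀ s : F,
      rs Q (v + s • δ) = rs Q v * siegel Q δ (((Q v)⁻¹ * s) • v) := by
    intro v hv hvδ s
    have h := rs_mul_rs hv (n := s • δ) (by rw [quad_smul, hδ, mul_zero])
      (by rw [QuadraticMap.polar_smul_right, hvδ, smul_zero])
    rw [siegel_smul Q hδ (by rw [QuadraticMap.polar_smul_right, QuadraticMap.polar_comm, hvδ, smul_zero]),
      smul_smul, mul_comm s] at h
    rw [← h, ← mul_assoc, rs_mul_self, one_mul]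
  have hδb : (rs Q b).1 δ = δ := rs_fix hbδ
  rw [one ha haδ, one hb hbδ, ← hab]
  have hconj : rs Q b * siegel Q δ (((Q a)⁻¹ * x) • a) * rs Q b =
      siegel Q δ (((Q a)⁻¹ * x) • (rs Q b).1 a) := by
    have h := siegel_conj Q (rs Q b) δ (((Q a)⁻¹ * x) • a)
    rw [rs_inv, hδb, map_smul] at h
    exact h
  have hw : polar Q δ ((rs Q b).1 a) = 0 := by
    conv_lhs => rw [← hδb]
    rw [polar_map, QuadraticMap.polar_comm, haδ]
  rw [show rs Q a * siegel Q δ (((Q a)⁻¹ * x) • a) * (rs Q b * siegel Q δ (((Q a)⁻¹ * y) • b)) =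
    rs Q a * rs Q b * ((rs Q b)⁻¹ * siegel Q δ (((Q a)⁻¹ * x) • a) * rs Q b * siegel Q δ (((Q a)⁻¹ * y) • b))
    by group, rs_inv, hconj, ← siegel_add Q hδ, smul_add, smul_smul, smul_smul]
  · rw [QuadraticMap.polar_smul_right, hw, smul_zero]
  · rw [QuadraticMap.polar_smul_right, QuadraticMap.polar_comm, hbδ, smul_zero]

end CfsgLib.MaxSub.ORefl
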