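import Cfsg.Agent.Lib.MaxSub.ORefl.Basic

/-!
Anisotropic vectors outside two subspaces, and additive groups of a quadratic space invariant under all
reflections.
-/

set_option autoImplicit false
set_option linter.unusedSectionVars false

namespace CfsgLib.MaxSub.ORefl

open CfsgLib.Classical CfsgLib.Geom CfsgLib.MaxSub
open CfsgLib.MaxSub.OFrame (NdOn)
open QuadraticMap (polar)

variable {F V : Type*} [Field F] [AddCommGroup V] [Module F V] {Q : QuadraticForm F V}

/-- the shapes of pieces that are covered -/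
def Rich (Q : QuadraticForm F V) (E : Submodule F V) : Prop :=
  5 ≤ Nat.card F ∨ (4 ≤ Nat.card F ∧ 3 ≤ Module.finrank F E) ∨ 5 ≤ Module.finrank F E ∨
    ∀ z ∈ E, Q z = 0 → z = 0

variable [Finite F] [FiniteDimensional F V]

omit [Finite F] in
/-- a subspace on which the polar form vanishes has at most half the dimension -/
theorem isotropic_finrank {E K : Submodule F V} (hE : NdOn Q E) (hKE : K ≤ E)
    (hK : ∀ x ∈ K, ∀ y ∈ K, polar Q x y = 0) : 2 * Module.finrank F K ≤ Module.finrank F E := by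
  obtain ⟨B, hBdef⟩ : ∃ B : LinearMap.BilinForm F E, ∀ x y : E, B x y = polar Q (x : V) (y : V) :=
    ⟨(QuadraticMap.polarBilin Q).compl₁₂ E.subtype E.subtype, fun x y => rfl⟩
  have hB : B.Nondegenerate :=
    ⟨fun x hx => Subtype.ext (hE x x.2 fun y hy => by rw [← hBdef x ⟨y, hy⟩]; exact hx _),
      fun y hy => Subtype.ext (hE y y.2 fun x hx => by
        rw [QuadraticMap.polar_comm, ← hBdef ⟨x, hx⟩ y]; exact hy _)⟩
  obtain ⟨R, hR⟩ : ∃ R : Submodule F E, R = K.comap E.subtype := ⟨_, rfl⟩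
  have hle : R ≤ B.orthogonal R := fun y hy => by
    rw [LinearMap.BilinForm.mem_orthogonal_iff]
    intro x hx
    show B x y = 0
    subst hR
    rw [hBdef]; exact hK _ hx _ hy
  have h1 := LinearMap.BilinForm.finrank_orthogonal hB R
  have h2 := Submodule.finrank_mono hle
  have h3 : Module.finrank F R = Module.finrank F K := by
    subst hR; exact (Submodule.comapSubtypeEquivOfLe hKE).finrank_eq
  have h4 := R.finrank_le
  omega

/-- an element of the field outside an exceptional set of size three -/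
theorem exists_param (hq : 4 ≤ Nat.card F) (r₁ r₂ r₃ : F) :
    ∃ s : F, s ≠ r₁ ∧ s ≠ r₂ ∧ s ≠ r₃ := by
  classical
  haveI := Fintype.ofFinite F
  rw [Nat.card_eq_fintype_card] at hq
  obtain ⟨s, -, hs⟩ := Finset.exists_mem_notMem_of_card_lt_card (s := ({r₁, r₂, r₃} : Finset F))
    (t := Finset.univ) (lt_of_le_of_lt Finset.card_le_three (by rw [Finset.card_univ]; omega))
  simp only [Finset.mem_insert, Finset.mem_singleton, not_or] at hs
  exact ⟨s, hs.1, hs.2.1, hs.2.2⟩

omit [Finite F] [FiniteDimensional F V] in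
/-- two proper subspaces do not cover a subspace -/
theorem exists_outside {A B E : Submodule F V} (hA : ¬ E ≤ A) (hB : ¬ E ≤ B) :
    ∃ z ∈ E, z ∉ A ∧ z ∉ B := by
  obtain ⟨a, ha, ha'⟩ := SetLike.not_le_iff_exists.1 hA
  obtain ⟨b, hb, hb'⟩ := SetLike.not_le_iff_exists.1 hB
  by_cases hab : a ∈ B
  · by_cases hba : b ∈ A
    · exact ⟨a + b, add_mem ha hb, fun h => ha' (by simpa using sub_mem h hba),
        fun h => hb' (by simpa using sub_mem h hab)⟩
    · exact ⟨b, hb, hba, hb'⟩
  · exact ⟨a, ha, ha', hab⟩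

/-- anisotropic vectors outside two proper subspaces -/
theorem exists_aniso_outside {E : Submodule F V} (hE : NdOn Q E) (hR : Rich Q E) {A B : Submodule F V}
    (hA : ¬ E ≤ A) (hB : ¬ E ≤ B) : ∃ u ∈ E, Q u ≠ 0 ∧ u ∉ A ∧ u ∉ B := by
  obtain ⟨z, hz, hzA, hzB⟩ := exists_outside hA hB
  by_contra hno
  push Not at hno
  -- every vector outside the two subspaces is singular
  have hsing : ∀ y ∈ E, y ∉ A → y ∉ B → Q y = 0 := fun y hy h1 h2 => by
    by_contra h; exact h2 (hno y hy h h1)
  have hQz := hsing z hz hzA hzB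
  by_cases hq : 4 ≤ Nat.card F
  · obtain ⟨a, haE, hQa⟩ : ∃ a ∈ E, Q a ≠ 0 := by
      by_contra hh
      push Not at hh
      have hz0 : z = 0 := hE z hz fun y hy => polar_of_singular (A := E) hh hz hy
      exact hzA (hz0 ▸ zero_mem A)
    have haAB : a ∈ A ∨ a ∈ B := by
      by_contra h; push Not at h; exact hQa (hsing a haE h.1 h.2)
    -- the line through `z` in the direction of `a` leaves the other subspace at most once
    have key : ∀ (A' B' : Submodule F V), a ∈ A' → z ∉ A' → z ∉ B' →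
        (∀ y ∈ E, y ∉ A' → y ∉ B' → Q y = 0) → False := by
      intro A' B' haA hzA' hzB' hs
      obtain ⟨r₁, hr₁⟩ : ∃ r₁ : F, ∀ s : F, s ≠ r₁ → z + s • a ∉ B' := by
        by_cases h : ∃ r : F, z + r • a ∈ B'
        · obtain ⟨r, hr⟩ := h
          refine ⟨r, fun s hs h' => hzB' ?_⟩
          have h1 : a ∈ B' := by
            have := sub_mem h' hr
            rw [show z + s • a - (z + r • a) = (s - r) • a by module] at this
            exact (Submodule.smul_mem_iff _ (sub_ne_zero.2 hs)).1 this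
          simpa using sub_mem hr (B'.smul_mem r h1)
        · exact ⟨0, fun s _ h' => h ⟨s, h'⟩⟩
      obtain ⟨r₂, hr₂⟩ : ∃ r₂ : F, r₂ = -polar Q z a / Q a := ⟨_, rfl⟩
      obtain ⟨s, h1, h2, h3⟩ := exists_param hq r₁ r₂ 0
      have h0 := hs (z + s • a) (add_mem hz (E.smul_mem _ haE))
        (fun h => hzA' (by simpa using sub_mem h (A'.smul_mem s haA))) (hr₁ s h1)
      rw [quad_map_add_smul, hQz] at h0
      refine h2 ?_
      rw [hr₂, eq_div_iff hQa]
      refine mul_left_cancel₀ h3 ?_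
      linear_combination h0
    rcases haAB with h | h
    · exact key A B h hzA hzB hsing
    · exact key B A h hzB hzA fun y hy h1 h2 => hsing y hy h2 h1
  rcases hR with h | ⟨h, -⟩ | hk | haniso
  · omega
  · omega
  swap
  · exact hzA ((haniso z hz hQz) ▸ zero_mem A)
  obtain ⟨φ, hφA, hφz⟩ : ∃ φ : V →ₗ[F] F, A ≤ LinearMap.ker φ ∧ φ z ≠ 0 := by
    obtain ⟨φ, h1, h2⟩ := Submodule.exists_le_ker_of_notMem hzA
    exact ⟨φ, h2, h1⟩
  obtain ⟨ψ, hψB, hψz⟩ : ∃ ψ : V →ₗ[F] F, B ≤ LinearMap.ker ψ ∧ ψ z ≠ 0 := by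
    obtain ⟨φ, h1, h2⟩ := Submodule.exists_le_ker_of_notMem hzB
    exact ⟨φ, h2, h1⟩
  obtain ⟨K, hKdef⟩ : ∃ K : Submodule F V, K = E ⊓ LinearMap.ker (φ.prod ψ) := ⟨_, rfl⟩
  have hlin : ∀ y ∈ K, Q y = -polar Q z y := by
    intro y hy
    rw [hKdef, Submodule.mem_inf, LinearMap.mem_ker] at hy
    have hy1 : φ y = 0 := congrArg Prod.fst hy.2
    have hy2 : ψ y = 0 := congrArg Prod.snd hy.2
    have h0 := hsing (z + y) (add_mem hz hy.1)
      (fun h => hφz (by simpa [hy1] using LinearMap.mem_ker.1 (hφA h)))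
      (fun h => hψz (by simpa [hy2] using LinearMap.mem_ker.1 (hψB h)))
    rw [QuadraticMap.map_add (Q : QuadraticMap F V F), hQz] at h0
    linear_combination h0
  have hiso : ∀ x ∈ K, ∀ y ∈ K, polar Q x y = 0 := fun x hx y hy => by
    rw [QuadraticMap.polar, hlin _ (add_mem hx hy), hlin x hx, hlin y hy, QuadraticMap.polar_add_right]
    ring
  have h1 := isotropic_finrank hE (by rw [hKdef]; exact inf_le_left) hiso
  have h2 : Module.finrank F E ≤ Module.finrank F K + 2 := by
    have h3 := LinearMap.finrank_range_add_finrank_ker ((φ.prod ψ).comp E.subtype)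
    have h4 := (LinearMap.range ((φ.prod ψ).comp E.subtype)).finrank_le
    rw [Module.finrank_prod, Module.finrank_self] at h4
    have h5 : Module.finrank F (LinearMap.ker ((φ.prod ψ).comp E.subtype)) = Module.finrank F K := by
      rw [LinearMap.ker_comp, hKdef, ← Submodule.map_comap_subtype,
        Submodule.finrank_map_subtype_eq]
    omega
  omega

/-- two subfields with many elements -/
theorem subring_full (K : Subring F) (R : Finset F) (hR : ∀ x ∈ R, x ∈ K)
    (hq : Nat.card F < R.card * R.card) : ∀ x : F, x ∈ K := by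
  classical
  letI : Field K := (Finite.isField_of_domain K).toField
  have hle : R.card ≤ Nat.card K := by
    calc R.card = Nat.card (R : Set F) := by simp
      _ ≤ Nat.card K := Nat.card_mono (Set.toFinite _) (fun x hx => hR x hx)
  have h1 := Module.natCard_eq_pow_finrank (K := K) (V := F)
  have h2 : Module.finrank K F < 2 := by
    by_contra h
    push Not at h
    have h3 : Nat.card K ^ 2 ≤ Nat.card K ^ Module.finrank K F := Nat.pow_le_pow_right Nat.card_pos h
    rw [← h1, sq] at h3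
    exact absurd (lt_of_lt_of_le hq (le_trans (Nat.mul_le_mul hle hle) h3)) (lt_irrefl _)
  have h4 : 0 < Module.finrank K F := Module.finrank_pos
  rw [show Module.finrank K F = 1 by omega, pow_one] at h1
  intro x
  have h5 : (K : Set F) = Set.univ := Set.eq_of_subset_of_ncard_le (Set.subset_univ _) (by
    rw [Set.ncard_univ]; exact h1.le) (Set.toFinite _)
  show x ∈ (K : Set F)
  rw [h5]; exact Set.mem_univ x

omit [Finite F] [FiniteDimensional F V] in
theorem quadratic_roots (a b c : F) (ha : a ≠ 0) (s : Finset F)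
    (hs : ∀ x ∈ s, a * x ^ 2 + b * x + c = 0) : s.card ≤ 2 := by
  classical
  by_contra h
  push Not at h
  obtain ⟨x, y, z, hx, hy, hz, hxy, hxz, hyz⟩ := Finset.two_lt_card_iff.1 h
  have key : ∀ {u v : F}, u ∈ s → v ∈ s → u ≠ v → a * (u + v) + b = 0 := by
    intro u v hu hv huv
    refine mul_left_cancel₀ (sub_ne_zero.2 huv) ?_
    linear_combination hs u hu - hs v hv
  exact hyz (mul_left_cancel₀ ha (by linear_combination key hx hy hxy - key hx hz hxz))

/-- many ratios on a nondegenerate plane through `u` -/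
theorem exists_ratios {E : Submodule F V} (hE : NdOn Q E) (hdim : 2 ≤ Module.finrank F E) {u : V} (hu : u ∈ E)
    (hQu : Q u ≠ 0) : ∃ R : Finset F, Nat.card F ≤ 2 * R.card ∧
      ((∀ z ∈ E, Q z = 0 → z = 0) → Nat.card F + 2 ≤ 2 * R.card) ∧
      ∀ r ∈ R, ∃ v ∈ E, Q v ≠ 0 ∧ r = polar Q v u ^ 2 / (Q u * Q v) := by
  classical
  haveI := Fintype.ofFinite F
  obtain ⟨v₀, hv₀, hD⟩ : ∃ v₀ ∈ E, polar Q u v₀ ^ 2 - 4 * (Q u * Q v₀) ≠ 0 := by
    by_contra hh
    push Not at hh
    have hpol : ∀ v ∈ E, ∀ w ∈ E, 2 * (polar Q u v * polar Q u w) = 4 * (Q u * polar Q v w) := by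
      intro v hv w hw
      have h := hh (v + w) (add_mem hv hw)
      rw [QuadraticMap.polar_add_right, QuadraticMap.map_add (Q : QuadraticMap F V F)] at h
      linear_combination h - hh v hv - hh w hw
    by_cases h2 : (2 : F) = 0
    · refine hQu ?_
      have h0 : u = 0 := hE u hu fun y hy => by
        have h := hh y hy
        rw [show (4 : F) = 2 * 2 by norm_num, h2, zero_mul, zero_mul, sub_zero] at h
        exact pow_eq_zero_iff two_ne_zero |>.1 h
      rw [h0]; exact map_zero Q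
    · obtain ⟨y, hy0, hyu⟩ : ∃ y : E, y ≠ 0 ∧ polar Q u (y : V) = 0 := by
        have h3 := LinearMap.finrank_range_add_finrank_ker ((QuadraticMap.polarBilin Q u).comp E.subtype)
        have h4 := (LinearMap.range ((QuadraticMap.polarBilin Q u).comp E.subtype)).finrank_le
        rw [Module.finrank_self] at h4
        have h5 : LinearMap.ker ((QuadraticMap.polarBilin Q u).comp E.subtype) ≠ ⊥ := by
          intro e; rw [e, finrank_bot] at h3; omega
        obtain ⟨y, hy, hy0⟩ := Submodule.exists_mem_ne_zero_of_ne_bot h5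
        exact ⟨y, hy0, hy⟩
      refine hy0 (Subtype.ext (hE y y.2 fun w hw => ?_))
      have h := hpol y y.2 w hw
      rw [hyu, zero_mul, mul_zero] at h
      have h4 : (4 : F) ≠ 0 := by rw [show (4 : F) = 2 * 2 by norm_num]; exact mul_ne_zero h2 h2
      exact (mul_eq_zero.1 ((mul_eq_zero.1 h.symm).resolve_left h4)).resolve_left hQu
  obtain ⟨N, hN⟩ : ∃ N : F → F, ∀ τ, N τ = Q (v₀ + τ • u) := ⟨_, fun _ => rfl⟩
  have hN' : ∀ τ, N τ = Q v₀ + τ * polar Q u v₀ + τ * τ * Q u := fun τ => by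
    rw [hN, quad_map_add_smul, QuadraticMap.polar_comm _ v₀ u]; ring
  have hB : ∀ τ, polar Q (v₀ + τ • u) u = polar Q u v₀ + 2 * τ * Q u := fun τ => by
    rw [QuadraticMap.polar_add_left, QuadraticMap.polar_smul_left, polar_self_two, smul_eq_mul,
      QuadraticMap.polar_comm _ v₀ u]
    ring
  obtain ⟨T, hT⟩ : ∃ T : Finset F, T = Finset.univ.filter (fun τ => N τ ≠ 0) := ⟨_, rfl⟩
  obtain ⟨f, hf⟩ : ∃ f : F → F, ∀ τ, f τ = (polar Q u v₀ + 2 * τ * Q u) ^ 2 / (Q u * N τ) :=
    ⟨_, fun _ => rfl⟩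
  have hTc : Fintype.card F ≤ T.card + 2 := by
    have h1 : (Finset.univ.filter (fun τ => ¬ N τ ≠ 0)).card ≤ 2 := quadratic_roots (Q u) (polar Q u v₀) (Q v₀)
      hQu _ fun τ hτ => by
        have := (Finset.mem_filter.1 hτ).2
        rw [not_ne_iff, hN'] at this
        linear_combination this
    have h2 := Finset.card_filter_add_card_filter_not (s := (Finset.univ : Finset F)) (fun τ => N τ ≠ 0)
    rw [Finset.card_univ, ← hT] at h2
    omega
  have h4mem : (4 : F) ∉ T.image f := by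
    intro h
    obtain ⟨τ, hτ, e⟩ := Finset.mem_image.1 h
    have hτ' : N τ ≠ 0 := by rw [hT] at hτ; exact (Finset.mem_filter.1 hτ).2
    rw [hf, div_eq_iff (mul_ne_zero hQu hτ'), hN'] at e
    exact hD (by linear_combination e)
  have hfib : ∀ ρ ∈ T.image f, (T.filter fun τ => f τ = ρ).card ≤ 2 := by
    intro ρ hρ
    have hρ4 : ρ ≠ 4 := fun e => h4mem (e ▸ hρ)
    refine quadratic_roots ((4 - ρ) * Q u ^ 2) ((4 - ρ) * (polar Q u v₀ * Q u))
      (polar Q u v₀ ^ 2 - ρ * (Q u * Q v₀)) (mul_ne_zero (sub_ne_zero.2 (Ne.symm hρ4)) (pow_ne_zero 2 hQu)) _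
      fun τ hτ => ?_
    obtain ⟨hτT, e⟩ := Finset.mem_filter.1 hτ
    have hτ' : N τ ≠ 0 := by rw [hT] at hτT; exact (Finset.mem_filter.1 hτT).2
    rw [hf, div_eq_iff (mul_ne_zero hQu hτ'), hN'] at e
    linear_combination e
  refine ⟨insert 4 (T.image f), ?_, fun han => ?_, fun r hr => ?_⟩
  swap
  · have hall : T = Finset.univ := by
      rw [hT, Finset.filter_eq_self]
      intro τ _ h
      rw [hN] at h
      have h0 := han _ (add_mem hv₀ (E.smul_mem _ hu)) h
      refine hD ?_
      rw [show v₀ = -(τ • u) from eq_neg_of_add_eq_zero_left h0, QuadraticMap.polar_neg_right,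
        QuadraticMap.polar_smul_right, polar_self_two, QuadraticMap.map_neg, quad_smul, smul_eq_mul]
      ring
    have h1 : T.card ≤ 2 * (T.image f).card := Finset.card_le_mul_card_image T 2 hfib
    rw [hall, Finset.card_univ] at h1
    rw [Finset.card_insert_of_notMem h4mem, Nat.card_eq_fintype_card]
    rw [hall]
    omega
  · have h1 : T.card ≤ 2 * (T.image f).card := Finset.card_le_mul_card_image T 2 hfib
    rw [Finset.card_insert_of_notMem h4mem, Nat.card_eq_fintype_card]
    omega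
  · rcases Finset.mem_insert.1 hr with rfl | hr
    · refine ⟨u, hu, hQu, ?_⟩
      rw [eq_div_iff (mul_ne_zero hQu hQu), polar_self_two]
      ring
    · obtain ⟨τ, hτ, rfl⟩ := Finset.mem_image.1 hr
      have hτ' : N τ ≠ 0 := by rw [hT] at hτ; exact (Finset.mem_filter.1 hτ).2
      exact ⟨v₀ + τ • u, add_mem hv₀ (E.smul_mem _ hu), by rw [← hN]; exact hτ', by rw [hf, hB, hN]⟩

/-- with four scalars, a plane through `u` gives a ratio outside the prime field -/
theorem exists_ratio_four {E : Submodule F V} (hE : NdOn Q E) (hq : Nat.card F = 4)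
    (hsh : 3 ≤ Module.finrank F E ∨ ∀ z ∈ E, Q z = 0 → z = 0) {u : V} (hu : u ∈ E) (hQu : Q u ≠ 0) :
    ∃ v ∈ E, Q v ≠ 0 ∧ polar Q v u ^ 2 / (Q u * Q v) ≠ 0 ∧ polar Q v u ^ 2 / (Q u * Q v) ≠ 1 := by
  classical
  haveI := Fintype.ofFinite F
  rw [Nat.card_eq_fintype_card] at hq
  have h2 : (2 : F) = 0 := by
    have h := Nat.cast_card_eq_zero F
    rw [hq] at h
    have h4 : (2 : F) * 2 = 0 := by norm_num; exact_mod_cast h
    exact (mul_self_eq_zero).1 h4
  obtain ⟨s, hs0, hs1, -⟩ := exists_param (F := F) (by rw [Nat.card_eq_fintype_card]; omega) 0 1 0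
  have hpow : ∀ x : F, x ^ 4 = x := fun x => hq ▸ FiniteField.pow_card x
  have hs : s ^ 2 + s + 1 = 0 := by
    refine mul_left_cancel₀ (mul_ne_zero hs0 (sub_ne_zero.2 hs1)) ?_
    linear_combination hpow s
  obtain ⟨v₀, hv₀, huv₀⟩ := hE.exists_partner hu (fun h => hQu (by rw [h]; exact map_zero Q))
  have fin : ∀ v ∈ E, polar Q v u = 1 → Q u * Q v ≠ 0 → Q u * Q v ≠ 1 →
      ∃ v ∈ E, Q v ≠ 0 ∧ polar Q v u ^ 2 / (Q u * Q v) ≠ 0 ∧ polar Q v u ^ 2 / (Q u * Q v) ≠ 1 := by
    intro v hv hvu h0 h1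
    refine ⟨v, hv, fun h => h0 (by rw [h, mul_zero]), ?_, ?_⟩
    · rw [hvu, one_pow]; exact one_div_ne_zero h0
    · rw [hvu, one_pow]; intro e; exact h1 ((div_eq_one_iff_eq h0).1 e).symm
  have hv₀u : polar Q v₀ u = 1 := by rw [QuadraticMap.polar_comm]; exact huv₀
  by_cases hgood : Q u * Q v₀ ≠ 0 ∧ Q u * Q v₀ ≠ 1
  · exact fin v₀ hv₀ hv₀u hgood.1 hgood.2
  rcases hsh with hsh | han
  · obtain ⟨e, he, heu, hev, hQe⟩ : ∃ e ∈ E, polar Q u e = 0 ∧ polar Q v₀ e = 0 ∧ Q e ≠ 0 := by
      by_contra hh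
      push Not at hh
      have h3 := LinearMap.finrank_range_add_finrank_ker
        (((QuadraticMap.polarBilin Q u).prod (QuadraticMap.polarBilin Q v₀)).comp E.subtype)
      have h4 := (LinearMap.range
        (((QuadraticMap.polarBilin Q u).prod (QuadraticMap.polarBilin Q v₀)).comp E.subtype)).finrank_le
      rw [Module.finrank_prod, Module.finrank_self] at h4
      have h5 : LinearMap.ker
          (((QuadraticMap.polarBilin Q u).prod (QuadraticMap.polarBilin Q v₀)).comp E.subtype) ≠ ⊥ := by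
        intro e; rw [e, finrank_bot] at h3; omega
      obtain ⟨e, he, he0⟩ := Submodule.exists_mem_ne_zero_of_ne_bot h5
      rw [LinearMap.mem_ker] at he
      have he1 : polar Q u (e : V) = 0 := congrArg Prod.fst he
      have he2 : polar Q v₀ (e : V) = 0 := congrArg Prod.snd he
      refine he0 (Subtype.ext (hE e e.2 fun y hy => ?_))
      have hu2 : polar Q u u = 0 := by rw [polar_self_two, h2, zero_mul]
      have hv2 : polar Q v₀ v₀ = 0 := by rw [polar_self_two, h2, zero_mul]
      obtain ⟨y', hy'⟩ : ∃ y', y' = y - polar Q u y • v₀ - polar Q v₀ y • u := ⟨_, rfl⟩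
      have hy'E : y' ∈ E := hy' ▸ sub_mem (sub_mem hy (E.smul_mem _ hv₀)) (E.smul_mem _ hu)
      have hy'u : polar Q u y' = 0 := by
        rw [hy', QuadraticMap.polar_sub_right, QuadraticMap.polar_sub_right, QuadraticMap.polar_smul_right,
          QuadraticMap.polar_smul_right, hu2, huv₀]
        simp
      have hy'v : polar Q v₀ y' = 0 := by
        rw [hy', QuadraticMap.polar_sub_right, QuadraticMap.polar_sub_right, QuadraticMap.polar_smul_right,
          QuadraticMap.polar_smul_right, hv2, hv₀u]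
        simp
      have h0 : polar Q (e : V) y' = 0 := by
        rw [QuadraticMap.polar, hh _ (add_mem e.2 hy'E)
          (by rw [QuadraticMap.polar_add_right, he1, hy'u, add_zero])
          (by rw [QuadraticMap.polar_add_right, he2, hy'v, add_zero]), hh _ e.2 he1 he2, hh _ hy'E hy'u hy'v]
        simp
      rw [hy', QuadraticMap.polar_sub_right, QuadraticMap.polar_sub_right, QuadraticMap.polar_smul_right,
        QuadraticMap.polar_smul_right, QuadraticMap.polar_comm _ (e : V) v₀, he2,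
        QuadraticMap.polar_comm _ (e : V) u, he1] at h0
      simpa using h0
    obtain ⟨μ, hμ⟩ : ∃ μ : F, μ * μ * (Q u * Q e) = s - Q u * Q v₀ := by
      refine ⟨((s - Q u * Q v₀) / (Q u * Q e)) ^ 2, ?_⟩
      have h := hpow ((s - Q u * Q v₀) / (Q u * Q e))
      rw [show ((s - Q u * Q v₀) / (Q u * Q e)) ^ 2 * ((s - Q u * Q v₀) / (Q u * Q e)) ^ 2 =
        ((s - Q u * Q v₀) / (Q u * Q e)) ^ 4 by ring, h, div_mul_cancel₀ _ (mul_ne_zero hQu hQe)]
    have hval : Q u * Q (v₀ + μ • e) = s := by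
      rw [quad_map_add_smul, hev]; linear_combination hμ
    refine fin (v₀ + μ • e) (add_mem hv₀ (E.smul_mem _ he)) ?_ (hval ▸ hs0) (hval ▸ hs1)
    rw [QuadraticMap.polar_add_left, QuadraticMap.polar_smul_left, hv₀u, QuadraticMap.polar_comm, heu]
    simp
  · exfalso
    have hne : ∀ τ : F, Q (v₀ + τ • u) ≠ 0 := fun τ h => by
      have h' := han _ (add_mem hv₀ (E.smul_mem _ hu)) h
      have : polar Q (v₀ + τ • u) u = 1 := by
        rw [QuadraticMap.polar_add_left, QuadraticMap.polar_smul_left, hv₀u, polar_self_two, h2]; simp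
      rw [h', QuadraticMap.polar_zero_left] at this
      exact zero_ne_one this
    have hQ0 : Q u * Q v₀ ≠ 0 := mul_ne_zero hQu (by simpa using hne 0)
    have h1 : Q u * Q v₀ = 1 := by
      by_contra h; exact hgood ⟨hQ0, h⟩
    refine hne (s / Q u) ?_
    rw [quad_map_add_smul, hv₀u]
    field_simp
    linear_combination h1 + hs

/-- the scalars which keep the multiples of `u` inside `L` form all of `F` -/
theorem line_full {E : Submodule F V} (hE : NdOn Q E) (hR : Rich Q E) (hdim : 2 ≤ Module.finrank F E)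
    (L : AddSubgroup V) (hinv : ∀ u ∈ E, Q u ≠ 0 → ∀ x ∈ E, x ∈ L → (rs Q u).1 x ∈ L) {u : V} (hu : u ∈ E)
    (hQu : Q u ≠ 0) {τ : F} (hτ : τ ≠ 0) (hτu : τ • u ∈ L) (s : F) : s • u ∈ L := by
  classical
  obtain ⟨K, hK⟩ : ∃ K : Subring F, ∀ r, r ∈ K ↔ ∀ x : F, x • u ∈ L → (r * x) • u ∈ L :=
    ⟨{ carrier := {r | ∀ x : F, x • u ∈ L → (r * x) • u ∈ L}
       mul_mem' := fun {a b} ha hb x hx => by rw [mul_assoc]; exact ha _ (hb _ hx)
       one_mem' := fun x hx => by rwa [one_mul]
       add_mem' := fun {a b} ha hb x hx => by rw [add_mul, add_smul]; exact add_mem (ha _ hx) (hb _ hx)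
       zero_mem' := fun x _ => by rw [zero_mul, zero_smul]; exact zero_mem L
       neg_mem' := fun {a} ha x hx => by rw [neg_mul, neg_smul]; exact neg_mem (ha _ hx) }, fun r => Iff.rfl⟩
  have step : ∀ u₁ ∈ E, Q u₁ ≠ 0 → ∀ x ∈ E, x ∈ L → ((Q u₁)⁻¹ * polar Q u₁ x) • u₁ ∈ L := by
    intro u₁ hu₁ hQ₁ x hx hxL
    have h := sub_mem hxL (hinv u₁ hu₁ hQ₁ x hx hxL)
    rwa [rs_apply hQ₁, sub_sub_cancel] at h
  have hrat : ∀ v ∈ E, Q v ≠ 0 → polar Q v u ^ 2 / (Q u * Q v) ∈ K := by
    intro v hv hQv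
    rw [hK]
    intro x hx
    have h1 := step v hv hQv _ (E.smul_mem _ hu) hx
    have h2 := step u hu hQu _ (E.smul_mem _ hv) h1
    rw [QuadraticMap.polar_smul_right, QuadraticMap.polar_smul_right, QuadraticMap.polar_comm _ u v] at h2
    convert h2 using 2
    simp only [smul_eq_mul]
    field_simp
  have hall : ∀ r : F, r ∈ K := by
    by_cases h4 : Nat.card F ≤ 3
    · refine subring_full K {0, 1} ?_ (by rw [Finset.card_pair zero_ne_one]; omega)
      intro r hr
      rcases Finset.mem_insert.1 hr with rfl | hr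
      · exact zero_mem K
      · rw [Finset.mem_singleton.1 hr]; exact one_mem K
    by_cases h5 : 5 ≤ Nat.card F
    · obtain ⟨R, hRc, -, hRv⟩ := exists_ratios hE hdim hu hQu
      refine subring_full K R (fun r hr => ?_) ?_
      · obtain ⟨v, hv, hQv, rfl⟩ := hRv r hr
        exact hrat v hv hQv
      · nlinarith
    · have hsh : 3 ≤ Module.finrank F E ∨ ∀ z ∈ E, Q z = 0 → z = 0 := by
        rcases hR with h | ⟨-, h⟩ | h | h
        · omega
        · exact Or.inl h
        · exact Or.inl (by omega)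
        · exact Or.inr h
      obtain ⟨v, hv, hQv, h0, h1⟩ := exists_ratio_four hE (by omega) hsh hu hQu
      refine subring_full K {0, 1, polar Q v u ^ 2 / (Q u * Q v)} ?_ ?_
      · intro r hr
        simp only [Finset.mem_insert, Finset.mem_singleton] at hr
        rcases hr with rfl | rfl | rfl
        · exact zero_mem K
        · exact one_mem K
        · exact hrat v hv hQv
      · rw [Finset.card_insert_of_notMem (by simp [Ne.symm h0]),
          Finset.card_insert_of_notMem (by simp [Ne.symm h1]), Finset.card_singleton]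
        omega
  have h := (hK _).1 (hall (s / τ)) τ hτu
  rwa [div_mul_cancel₀ s hτ] at h

/-- an additive group meeting a piece and invariant under its reflections contains it -/
theorem le_of_refl_invariant {E : Submodule F V} (hE : NdOn Q E) (hR : Rich Q E)
    (hdim : 2 ≤ Module.finrank F E) (L : AddSubgroup V)
    (hinv : ∀ u ∈ E, Q u ≠ 0 → ∀ x ∈ E, x ∈ L → (rs Q u).1 x ∈ L) {δ : V} (hδE : δ ∈ E) (hδL : δ ∈ L)
    (hδ : δ ≠ 0) : ∀ x ∈ E, x ∈ L := by
  have key : ∀ u ∈ E, Q u ≠ 0 → ∀ x ∈ E, x ∈ L → polar Q x u ≠ 0 → ∀ s : F, s • u ∈ L := by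
    intro u hu hQu x hx hxL hxu s
    have h := sub_mem hxL (hinv u hu hQu x hx hxL)
    rw [rs_apply hQu, sub_sub_cancel] at h
    exact line_full hE hR hdim L hinv hu hQu
      (mul_ne_zero (inv_ne_zero hQu) (by rwa [QuadraticMap.polar_comm])) h s
  obtain ⟨W, hW⟩ : ∃ W : Submodule F V, ∀ x, x ∈ W ↔ ∀ s : F, s • x ∈ L :=
    ⟨{ carrier := {x | ∀ s : F, s • x ∈ L}
       add_mem' := fun {a b} ha hb s => by rw [smul_add]; exact add_mem (ha s) (hb s)
       zero_mem' := fun s => by rw [smul_zero]; exact zero_mem L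
       smul_mem' := fun r x hx s => by rw [smul_smul]; exact hx _ }, fun x => Iff.rfl⟩
  have hproper : ∀ x ∈ E, x ≠ 0 → ¬ E ≤ LinearMap.ker (QuadraticMap.polarBilin Q x) :=
    fun x hx hx0 h => hx0 (hE x hx fun y hy => h hy)
  suffices hEW : E ≤ W by
    intro x hx
    simpa using (hW x).1 (hEW hx) 1
  by_contra hEW
  obtain ⟨u, hu, hQu, huW, -⟩ := exists_aniso_outside hE hR hEW hEW
  obtain ⟨w, hw, hQw, hwδ, hwu⟩ := exists_aniso_outside hE hR (hproper δ hδE hδ)
    (hproper u hu fun h => hQu (by rw [h]; exact map_zero Q))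
  have h1 := key w hw hQw δ hδE hδL hwδ
  refine huW ((hW u).2 fun s => key u hu hQu w hw (by simpa using h1 1) ?_ s)
  rw [QuadraticMap.polar_comm]
  exact hwu

end CfsgLib.MaxSub.ORefl
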