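import Cfsg.Agent.Lib.MaxSub.ORefl.Refl

/-!
Overgroups of the stabiliser of an orthogonal decomposition, any characteristic and any piece dimension: the
reflection classes, the sets of vectors whose reflection is linked with the reflection at a frame vector.
-/

set_option autoImplicit false
set_option linter.unusedSectionVars false

namespace CfsgLib.MaxSub.ORefl

open CfsgLib.Classical CfsgLib.Geom CfsgLib.Geom.OrthSub CfsgLib.MaxSub
open CfsgLib.MaxSub.OFrame (Stab InW NdOn wSub mem_wSub)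
open QuadraticMap (polar)

variable {F V : Type*} [Field F] [AddCommGroup V] [Module F V] {Q : QuadraticForm F V} {t : ℕ}

/-- an overgroup of the stabiliser of an orthogonal decomposition -/
structure Setting (Q : QuadraticForm F V) (D : Fin t → Submodule F V) (p : Fin t → V →ₗ[F] V) (k : ℕ)
    (M : Subgroup (quadIsoms Q)) : Prop where
  sep : ∀ x, (∀ y, polar Q x y = 0) → x = 0
  five : 5 ≤ Module.finrank F V
  kge : 2 ≤ k
  dim : ∀ i, Module.finrank F (D i) = k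
  orth : ∀ i j, i ≠ j → ∀ x ∈ D i, ∀ y ∈ D j, polar Q x y = 0
  nd : ∀ i, NdOn Q (D i)
  mem : ∀ i x, p i x ∈ D i
  sum : ∀ x, ∑ i, p i x = x
  iso : ∀ i j, ∃ e : D i ≃ₗ[F] D j, ∀ x : D i, Q ((e x : D j) : V) = Q (x : V)
  extend : ∀ g ∈ commutator (quadIsoms Q), Stab D g → g ∈ M
  shape : (k = 2 ∧ 5 ≤ t ∧ (7 ≤ Nat.card F ∨ (Nat.card F ≠ 3 ∧ ∀ i, ∀ z ∈ D i, Q z = 0 → z = 0))) ∨
    (4 ≤ k ∧ 2 ≤ t ∧ (2 : F) = 0 ∧ (5 ≤ k ∨ 4 ≤ Nat.card F))

/-- the vectors of value `c` whose reflection is linked with the reflection at a frame vector of value `c` -/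
def InK (D : Fin t → Submodule F V) (M : Subgroup (quadIsoms Q)) (c : F) (a : V) : Prop :=
  Q a = c ∧ ∃ i, ∃ f ∈ D i, Q f = c ∧ rs Q a * rs Q f ∈ M

namespace Setting

variable [FiniteDimensional F V] [Finite F] {D : Fin t → Submodule F V} {p : Fin t → V →ₗ[F] V} {k : ℕ}
  {M : Subgroup (quadIsoms Q)} (st : Setting Q D p k M)
include st

theorem polar_p {i : Fin t} (x : V) {y : V} (hy : y ∈ D i) : polar Q (p i x) y = polar Q x y := by
  conv_rhs => rw [← st.sum x]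
  have h : polar Q (∑ j, p j x) y = ∑ j, polar Q (p j x) y := by
    show QuadraticMap.polarBilin Q (∑ j, p j x) y = _
    rw [map_sum, LinearMap.sum_apply]; rfl
  rw [h, Finset.sum_eq_single i (fun j _ hj => st.orth j i hj _ (st.mem j x) _ hy) (by simp)]

theorem p_self {i : Fin t} {x : V} (hx : x ∈ D i) : p i x = x := by
  refine sub_eq_zero.1 (st.nd i _ (sub_mem (st.mem i x) hx) fun y hy => ?_)
  rw [QuadraticMap.polar_sub_left, st.polar_p x hy, sub_self]

theorem p_other {i j : Fin t} (hij : j ≠ i) {x : V} (hx : x ∈ D i) : p j x = 0 :=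
  st.nd j _ (st.mem j x) fun y hy => by rw [st.polar_p x hy]; exact st.orth i j (Ne.symm hij) x hx y hy

theorem disjoint {i j : Fin t} (hij : i ≠ j) {x : V} (hi : x ∈ D i) (hj : x ∈ D j) : x = 0 := by
  rw [← st.p_self hi]; exact st.p_other hij hj

theorem block_eq {i j : Fin t} {x : V} (hi : x ∈ D i) (hj : x ∈ D j) (hx : x ≠ 0) : i = j :=
  by_contra fun h => hx (st.disjoint h hi hj)

theorem siegel_stab {i : Fin t} {u w : V} (hu : u ∈ D i) (hQu : Q u = 0) (hw : w ∈ D i)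
    (huw : polar Q u w = 0) : Stab D (siegel Q u w) := fun j => ⟨j, fun z hz => by
  rw [siegel_apply Q hQu huw]
  rcases eq_or_ne i j with rfl | hij
  · exact sub_mem (add_mem hz ((D i).smul_mem _ hw)) ((D i).smul_mem _ hu)
  · rw [st.orth i j hij u hu z hz, st.orth i j hij w hw z hz]
    simpa using hz⟩

theorem siegel_mem {i : Fin t} {u w : V} (hu : u ∈ D i) (hQu : Q u = 0) (hw : w ∈ D i)
    (huw : polar Q u w = 0) : siegel Q u w ∈ M :=
  st.extend _ (siegel_mem_commutator st.sep st.five u w) (st.siegel_stab hu hQu hw huw)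

theorem inW_block {i : Fin t} {u w : V} (hu : u ∈ D i) (hQu : Q u = 0) (hw : w ∈ D i)
    (huw : polar Q u w = 0) : InW M u w := ⟨huw, st.siegel_mem hu hQu hw huw⟩

theorem inW_zero (w : V) : InW M 0 w := by
  refine ⟨QuadraticMap.polar_zero_left Q w, ?_⟩
  have h : siegel Q 0 w = 1 := quadIsoms_ext Q fun z => by
    rw [siegel_apply Q (map_zero Q) (QuadraticMap.polar_zero_left Q w)]; simp
  rw [h]; exact one_mem M

theorem exists_swap' {a l : Fin t} (hal : a ≠ l) (e : D a ≃ₗ[F] D l)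
    (he : ∀ x : D a, Q ((e x : D l) : V) = Q (x : V)) : ∃ s : quadIsoms Q, s * s = 1 ∧
    (∀ x : D a, s.1 (x : V) = (e x : D l)) ∧ (∀ x : D l, s.1 (x : V) = (e.symm x : D a)) ∧
    ∀ i, i ≠ a → i ≠ l → ∀ x ∈ D i, s.1 x = x := by
  obtain ⟨A, hA⟩ : ∃ A : V →ₗ[F] V, ∀ x, A x = (e ⟨p a x, st.mem a x⟩ : D l) :=
    ⟨(D l).subtype ∘ₗ e.toLinearMap ∘ₗ (p a).codRestrict (D a) (st.mem a), fun x => rfl⟩
  obtain ⟨B, hB⟩ : ∃ B : V →ₗ[F] V, ∀ x, B x = (e.symm ⟨p l x, st.mem l x⟩ : D a) :=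
    ⟨(D a).subtype ∘ₗ e.symm.toLinearMap ∘ₗ (p l).codRestrict (D l) (st.mem l), fun x => rfl⟩
  obtain ⟨L, hL⟩ : ∃ L : V →ₗ[F] V, ∀ x, L x = x - p a x - p l x + A x + B x :=
    ⟨LinearMap.id - p a - p l + A + B, fun x => rfl⟩
  have hAm : ∀ x, A x ∈ D l := fun x => by rw [hA]; exact Subtype.coe_prop _
  have hBm : ∀ x, B x ∈ D a := fun x => by rw [hB]; exact Subtype.coe_prop _
  have hA0 : ∀ x, p a x = 0 → A x = 0 := fun x h => by
    rw [hA, show (⟨p a x, st.mem a x⟩ : D a) = 0 from Subtype.ext h, map_zero]; rfl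
  have hB0 : ∀ x, p l x = 0 → B x = 0 := fun x h => by
    rw [hB, show (⟨p l x, st.mem l x⟩ : D l) = 0 from Subtype.ext h, map_zero]; rfl
  have hLa : ∀ x ∈ D a, L x = A x := fun x hx => by
    rw [hL, st.p_self hx, st.p_other (Ne.symm hal) hx, hB0 x (st.p_other (Ne.symm hal) hx)]; abel
  have hLl : ∀ x ∈ D l, L x = B x := fun x hx => by
    rw [hL, st.p_self hx, st.p_other hal hx, hA0 x (st.p_other hal hx)]; abel
  have hAA : ∀ x, B (A x) = p a x := fun x => by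
    rw [hB, show (⟨p l (A x), st.mem l _⟩ : D l) = e ⟨p a x, st.mem a x⟩ from
      Subtype.ext ((st.p_self (hAm x)).trans (hA x)), LinearEquiv.symm_apply_apply]
  have hBB : ∀ x, A (B x) = p l x := fun x => by
    rw [hA, show (⟨p a (B x), st.mem a _⟩ : D a) = e.symm ⟨p l x, st.mem l x⟩ from
      Subtype.ext ((st.p_self (hBm x)).trans (hB x)), LinearEquiv.apply_symm_apply]
  have hrest : ∀ x, p a (x - p a x - p l x) = 0 ∧ p l (x - p a x - p l x) = 0 := fun x => by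
    simp only [map_sub, st.p_self (st.mem a x), st.p_self (st.mem l x), st.p_other hal (st.mem l x),
      st.p_other (Ne.symm hal) (st.mem a x)]
    constructor <;> abel
  have hLL : ∀ x, L (L x) = x := fun x => by
    have h0 : L (x - p a x - p l x) = x - p a x - p l x := by
      rw [hL, (hrest x).1, (hrest x).2, hA0 _ (hrest x).1, hB0 _ (hrest x).2]; abel
    rw [hL x, map_add, map_add, h0, hLl _ (hAm x), hLa _ (hBm x), hAA, hBB]; abel
  have hQ : ∀ x, Q (L x) = Q x := by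
    intro x
    obtain ⟨r, hr⟩ : ∃ r, r = x - p a x - p l x := ⟨_, rfl⟩
    have hra : ∀ y ∈ D a, polar Q r y = 0 := fun y hy => by
      rw [← st.polar_p r hy, hr, (hrest x).1, QuadraticMap.polar_zero_left]
    have hrl : ∀ y ∈ D l, polar Q r y = 0 := fun y hy => by
      rw [← st.polar_p r hy, hr, (hrest x).2, QuadraticMap.polar_zero_left]
    have key : ∀ y ∈ D a, ∀ z ∈ D l, Q (r + y + z) = Q r + Q y + Q z := fun y hy z hz => by
      rw [QuadraticMap.map_add (Q : QuadraticMap F V F) (r + y), QuadraticMap.polar_add_left, hrl z hz,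
        st.orth a l hal y hy z hz, QuadraticMap.map_add (Q : QuadraticMap F V F) r, hra y hy]
      ring
    have e1 : L x = r + B x + A x := by rw [hL, hr]; abel
    have e2 : x = r + p a x + p l x := by rw [hr]; abel
    rw [e1, key _ (hBm x) _ (hAm x)]
    conv_rhs => rw [e2, key _ (st.mem a x) _ (st.mem l x)]
    have e3 : Q (A x) = Q (p a x) := by rw [hA]; exact he _
    have e4 : Q (B x) = Q (p l x) := by
      rw [hB]
      have := he (e.symm ⟨p l x, st.mem l x⟩)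
      rw [LinearEquiv.apply_symm_apply] at this
      exact this.symm
    rw [e3, e4]; ring
  refine ⟨⟨LinearEquiv.ofLinearMap L L (LinearMap.ext hLL) (LinearMap.ext hLL), mem_quadIsoms.2 hQ⟩,
    quadIsoms_ext Q hLL, fun x => ?_, fun x => ?_, fun i hia hil x hx => ?_⟩
  · show L (x : V) = _
    rw [hLa _ x.2, hA]
    congr 2
    exact Subtype.ext (st.p_self x.2)
  · show L (x : V) = _
    rw [hLl _ x.2, hB]
    congr 2
    exact Subtype.ext (st.p_self x.2)
  · show L x = x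
    have e1 := st.p_other (Ne.symm hia) hx
    have e2 := st.p_other (Ne.symm hil) hx
    rw [hL, e1, e2, hA0 x e1, hB0 x e2]; abel

theorem exists_swap {a l : Fin t} (hal : a ≠ l) : ∃ s : quadIsoms Q, s * s = 1 ∧
    (∀ x ∈ D a, s.1 x ∈ D l) ∧ (∀ x ∈ D l, s.1 x ∈ D a) ∧
    ∀ i, i ≠ a → i ≠ l → ∀ x ∈ D i, s.1 x = x := by
  obtain ⟨e, he⟩ := st.iso a l
  obtain ⟨s, hs, h1, h2, h3⟩ := st.exists_swap' hal e he
  refine ⟨s, hs, fun x hx => ?_, fun x hx => ?_, h3⟩
  · rw [h1 ⟨x, hx⟩]; exact Subtype.coe_prop _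
  · rw [h2 ⟨x, hx⟩]; exact Subtype.coe_prop _

/-- a three-cycle of pieces with prescribed maps -/
theorem exists_cycle' {a l j : Fin t} (hal : a ≠ l) (haj : a ≠ j) (hlj : l ≠ j)
    (e₁ : D a ≃ₗ[F] D l) (he₁ : ∀ x : D a, Q ((e₁ x : D l) : V) = Q (x : V))
    (e₂ : D l ≃ₗ[F] D j) (he₂ : ∀ x : D l, Q ((e₂ x : D j) : V) = Q (x : V)) :
    ∃ g ∈ M, g ∈ commutator (quadIsoms Q) ∧ Stab D g ∧ (∀ x : D a, g.1 (x : V) = (e₂ (e₁ x) : D j)) ∧
      (∀ x : D l, g.1 (x : V) = (e₁.symm x : D a)) ∧ (∀ x : D j, g.1 (x : V) = (e₂.symm x : D l)) ∧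
      ∀ i, i ≠ a → i ≠ l → i ≠ j → ∀ x ∈ D i, g.1 x = x := by
  obtain ⟨s₁, hs₁, h1a, h1l, h1o⟩ := st.exists_swap' hal e₁ he₁
  obtain ⟨s₂, hs₂, h2l, h2j, h2o⟩ := st.exists_swap' hlj e₂ he₂
  have ha : ∀ x : D a, (s₁ * s₂ * (s₁ * s₂)).1 (x : V) = (e₂ (e₁ x) : D j) := fun x => by
    show s₁.1 (s₂.1 (s₁.1 (s₂.1 (x : V)))) = _
    rw [h2o a hal haj _ x.2, h1a, h2l, h1o j (Ne.symm haj) (Ne.symm hlj) _ (Subtype.coe_prop _)]
  have hl : ∀ x : D l, (s₁ * s₂ * (s₁ * s₂)).1 (x : V) = (e₁.symm x : D a) := fun x => by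
    show s₁.1 (s₂.1 (s₁.1 (s₂.1 (x : V)))) = _
    rw [h2l, h1o j (Ne.symm haj) (Ne.symm hlj) _ (Subtype.coe_prop _), h2j, LinearEquiv.symm_apply_apply, h1l]
  have hj : ∀ x : D j, (s₁ * s₂ * (s₁ * s₂)).1 (x : V) = (e₂.symm x : D l) := fun x => by
    show s₁.1 (s₂.1 (s₁.1 (s₂.1 (x : V)))) = _
    rw [h2j, h1l, h2o a hal haj _ (Subtype.coe_prop _), h1a, LinearEquiv.apply_symm_apply]
  have ho : ∀ i, i ≠ a → i ≠ l → i ≠ j → ∀ x ∈ D i, (s₁ * s₂ * (s₁ * s₂)).1 x = x :=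
    fun i hia hil hij x hx => by
      show s₁.1 (s₂.1 (s₁.1 (s₂.1 x))) = x
      rw [h2o i hil hij x hx, h1o i hia hil x hx, h2o i hil hij x hx, h1o i hia hil x hx]
  have hc : s₁ * s₂ * (s₁ * s₂) ∈ commutator (quadIsoms Q) := by
    have e1 : s₁⁻¹ = s₁ := inv_eq_of_mul_eq_one_right hs₁
    have e2 : s₂⁻¹ = s₂ := inv_eq_of_mul_eq_one_right hs₂
    have e : s₁ * s₂ * (s₁ * s₂) = s₁ * s₂ * s₁⁻¹ * s₂⁻¹ := by rw [e1, e2, mul_assoc (s₁ * s₂)]
    rw [e]
    exact Subgroup.commutator_mem_commutator (Subgroup.mem_top s₁) (Subgroup.mem_top s₂)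
  have hst : Stab D (s₁ * s₂ * (s₁ * s₂)) := fun i => by
    rcases eq_or_ne i a with rfl | hia
    · exact ⟨j, fun x hx => by rw [ha ⟨x, hx⟩]; exact Subtype.coe_prop _⟩
    rcases eq_or_ne i l with rfl | hil
    · exact ⟨a, fun x hx => by rw [hl ⟨x, hx⟩]; exact Subtype.coe_prop _⟩
    rcases eq_or_ne i j with rfl | hij
    · exact ⟨l, fun x hx => by rw [hj ⟨x, hx⟩]; exact Subtype.coe_prop _⟩
    exact ⟨i, fun x hx => by rw [ho i hia hil hij x hx]; exact hx⟩
  exact ⟨_, st.extend _ hc hst, hc, hst, ha, hl, hj, ho⟩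

theorem rs_stab {i : Fin t} {v : V} (hv : v ∈ D i) : Stab D (rs Q v) := fun j => ⟨j, fun z hz => by
  by_cases hQv : Q v = 0
  · rw [rs_zero hQv]; exact hz
  rcases eq_or_ne i j with rfl | hij
  · rw [rs_apply hQv]; exact sub_mem hz ((D i).smul_mem _ hv)
  · rw [rs_fix (st.orth i j hij v hv z hz)]; exact hz⟩

omit st in
theorem stab_mul {g h : quadIsoms Q} (hg : Stab D g) (hh : Stab D h) : Stab D (g * h) := fun i => by
  obtain ⟨j, hj⟩ := hh i
  obtain ⟨l, hl⟩ := hg j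
  exact ⟨l, fun x hx => hl _ (hj x hx)⟩

/-- frame vectors of the same value give linked reflections -/
theorem frame_pair {i j : Fin t} {f f' : V} (hf : f ∈ D i) (hf' : f' ∈ D j) (hc : Q f ≠ 0)
    (h : Q f = Q f') : rs Q f * rs Q f' ∈ M :=
  st.extend _ (rs_pair_mem_commutator st.sep hc h) (stab_mul (st.rs_stab hf) (st.rs_stab hf'))

theorem inK_frame {c : F} (hc : c ≠ 0) {i : Fin t} {f : V} (hf : f ∈ D i) (hQf : Q f = c) : InK D M c f :=
  ⟨hQf, i, f, hf, hQf, by rw [rs_mul_self]; exact one_mem M⟩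

variable {c : F}

theorem inK_pair (hc : c ≠ 0) {a b : V} (ha : InK D M c a) (hb : InK D M c b) : rs Q a * rs Q b ∈ M := by
  obtain ⟨-, i, f, hf, hQf, h1⟩ := ha
  obtain ⟨-, j, f', hf', hQf', h2⟩ := hb
  have h3 := st.frame_pair hf hf' (hQf ▸ hc) (hQf.trans hQf'.symm)
  have h := mul_mem (mul_mem h1 h3) (inv_mem h2)
  rwa [show rs Q a * rs Q f * (rs Q f * rs Q f') * (rs Q b * rs Q f')⁻¹ =
    rs Q a * (rs Q f * rs Q f) * (rs Q f' * (rs Q f')⁻¹) * (rs Q b)⁻¹ by group, rs_mul_self,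
    mul_inv_cancel, mul_one, mul_one, rs_inv] at h

/-- a reflection class is closed under its own reflections -/
theorem inK_refl (hc : c ≠ 0) {a b : V} (ha : InK D M c a) (hb : InK D M c b) :
    InK D M c ((rs Q a).1 b) := by
  obtain ⟨hQa, i, f, hf, hQf, h1⟩ := id ha
  refine ⟨by rw [(rs Q a).2, hb.1], i, f, hf, hQf, ?_⟩
  rw [← rs_conj, rs_inv]
  have h := mul_mem (st.inK_pair hc ha hb) h1
  rwa [show rs Q a * rs Q b * (rs Q a * rs Q f) = rs Q a * rs Q b * rs Q a * rs Q f by group] at h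

theorem inK_neg {a : V} (ha : InK D M c a) : InK D M c (-a) :=
  ⟨by rw [QuadraticMap.map_neg, ha.1], by rw [rs_neg]; exact ha.2⟩

/-- an element of `M` mapping one member of a class into the class preserves it -/
theorem inK_map (hc : c ≠ 0) {g : quadIsoms Q} (hg : g ∈ M) {a : V} (ha : InK D M c a)
    (hga : InK D M c (g.1 a)) {b : V} (hb : InK D M c b) : InK D M c (g.1 b) := by
  obtain ⟨-, i, f, hf, hQf, h1⟩ := hga
  refine ⟨by rw [g.2, hb.1], i, f, hf, hQf, ?_⟩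
  have h := mul_mem (mul_mem (mul_mem hg (st.inK_pair hc hb ha)) (inv_mem hg)) h1
  rwa [rs_conj_pair, show rs Q (g.1 b) * rs Q (g.1 a) * (rs Q (g.1 a) * rs Q f) =
    rs Q (g.1 b) * (rs Q (g.1 a) * rs Q (g.1 a)) * rs Q f by group, rs_mul_self, mul_one] at h

theorem inK_stab (hc : c ≠ 0) {g : quadIsoms Q} (hg : g ∈ commutator (quadIsoms Q)) (hs : Stab D g)
    {a : V} (ha : InK D M c a) : InK D M c (g.1 a) := by
  obtain ⟨-, i, f, hf, hQf, -⟩ := id ha
  obtain ⟨j, hj⟩ := hs i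
  exact st.inK_map hc (st.extend g hg hs) (st.inK_frame hc hf hQf)
    (st.inK_frame hc (hj f hf) (by rw [g.2, hQf])) ha

/-- reflections at two vectors of equal value in pieces preserve each class -/
theorem inK_rs_rs (hc : c ≠ 0) {i j : Fin t} {v v' : V} (hv : v ∈ D i) (hv' : v' ∈ D j) (hQv : Q v ≠ 0)
    (h : Q v = Q v') {a : V} (ha : InK D M c a) : InK D M c ((rs Q v).1 ((rs Q v').1 a)) :=
  st.inK_stab (g := rs Q v * rs Q v') hc (rs_pair_mem_commutator st.sep hQv h)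
    (stab_mul (st.rs_stab hv) (st.rs_stab hv')) ha

/-- two members with singular difference give a Siegel transformation -/
theorem inW_of_sub (hc : c ≠ 0) {a b : V} (ha : InK D M c a) (hb : InK D M c b)
    (hn : Q (b - a) = 0) : InW M (b - a) (c⁻¹ • a) := by
  have han : polar Q a (b - a) = 0 := by
    have h := QuadraticMap.map_add (Q : QuadraticMap F V F) a (b - a)
    rw [add_sub_cancel, hn, hb.1, ha.1] at h
    linear_combination -h
  refine ⟨by rw [QuadraticMap.polar_smul_right, QuadraticMap.polar_comm, han, smul_zero], ?_⟩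
  have h := rs_mul_rs (Q := Q) (a := a) (ha.1.symm ▸ hc) hn han
  rw [add_sub_cancel, ha.1] at h
  rw [← h]
  exact st.inK_pair hc ha hb

theorem smul_inW {u w : V} {a : F} (hu : Q u = 0) (h : InW M (a • u) w) (ha : a ≠ 0) :
    InW M u (a • w) := by
  have huw : polar Q u w = 0 := by
    have := h.1
    rw [QuadraticMap.polar_smul_left, smul_eq_mul] at this
    exact (mul_eq_zero.1 this).resolve_left ha
  refine ⟨by rw [QuadraticMap.polar_smul_right, huw, smul_zero], ?_⟩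
  rw [← siegel_smul Q hu huw]
  exact h.2

end Setting

end CfsgLib.MaxSub.ORefl
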