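import Cfsg.Agent.Lib.MaxSub.ORefl.Second

/-!
A linked singular vector generates the commutator subgroup.
-/

set_option autoImplicit false
set_option linter.unusedSectionVars false

namespace CfsgLib.MaxSub.ORefl

open CfsgLib.Classical CfsgLib.Geom CfsgLib.Geom.OrthSub CfsgLib.MaxSub
open CfsgLib.MaxSub.OFrame (Stab InW NdOn wSub mem_wSub)
open QuadraticMap (polar)

variable {F V : Type*} [Field F] [AddCommGroup V] [Module F V] {Q : QuadraticForm F V} {t : ℕ}

namespace Setting

variable [FiniteDimensional F V] [Finite F] {D : Fin t → Submodule F V} {p : Fin t → V →ₗ[F] V} {k : ℕ}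
  {M : Subgroup (quadIsoms Q)} (st : Setting Q D p k M)
include st

theorem inW_swap {n d : V} (hn : Q n = 0) (hd : Q d = 0) (h : InW M n d) : InW M d (-n) := by
  have hdn : polar Q d n = 0 := by rw [QuadraticMap.polar_comm]; exact h.1
  refine ⟨by rw [QuadraticMap.polar_neg_right, hdn, neg_zero], ?_⟩
  rw [← siegel_swap hd hn hdn]
  exact h.2

/-- planes: every piece outside the support of a linked vector lies in its parameters -/
theorem out (hk : k = 2) {i j : Fin t} {n w : V} (hn : Q n = 0) (hmem : n ∈ D i ⊔ D j) (hw : InW M n w)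
    (hout : ∃ l, l ≠ i ∧ l ≠ j ∧ p l w ≠ 0) {e : Fin t} (hei : e ≠ i) (hej : e ≠ j) :
    ∀ d ∈ D e, InW M n d := by
  classical
  have ht := st.five_t hk
  have third : ∀ a b c d : Fin t, ∃ m, m ≠ a ∧ m ≠ b ∧ m ≠ c ∧ m ≠ d := fun a b c d => by
    obtain ⟨m, -, hm⟩ := Finset.exists_mem_notMem_of_card_lt_card (s := ({a, b, c, d} : Finset (Fin t)))
      (t := Finset.univ) (lt_of_le_of_lt Finset.card_le_four (by rw [Finset.card_univ, Fintype.card_fin]; omega))
    simp only [Finset.mem_insert, Finset.mem_singleton, not_or] at hm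
    exact ⟨m, hm.1, hm.2.1, hm.2.2.1, hm.2.2.2⟩
  have full : ∀ {e : Fin t}, e ≠ i → e ≠ j → ∀ {w' : V}, InW M n w' → p e w' ≠ 0 → ∀ d ∈ D e, InW M n d := by
    intro e hei hej w' hw' hwe
    refine st.inW_piece hn hw' (st.p_sup hei hej hmem) hwe fun u hu hQu => ?_
    obtain ⟨m, hmi, hmj, hme, -⟩ := third i j e e
    obtain ⟨u', hu', hQ'⟩ := st.value_exists hu m
    exact ⟨m, hme, u', hu', hQ', by
      rw [QuadraticMap.polar_comm, ← st.polar_p n hu', st.p_sup hmi hmj hmem, QuadraticMap.polar_zero_left]⟩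
  obtain ⟨l, hli, hlj, hl⟩ := hout
  rcases eq_or_ne e l with rfl | hel
  · exact full hei hej hw hl
  obtain ⟨m, hmi, hmj, hme, hml⟩ := third i j e l
  obtain ⟨e₁, he₁⟩ := st.iso l m
  obtain ⟨e₂, he₂⟩ := st.iso m e
  obtain ⟨g, hg, -, -, hga, -, -, hgo⟩ := st.exists_cycle' (a := l) (l := m) (j := e) (Ne.symm hml) (Ne.symm hel)
    hme e₁ he₁ e₂ he₂
  have hgn : g.1 n = n := by
    obtain ⟨a, ha, b, hb, rfl⟩ := Submodule.mem_sup.1 hmem
    rw [map_add, hgo i (Ne.symm hli) (Ne.symm hmi) (Ne.symm hei) a ha,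
      hgo j (Ne.symm hlj) (Ne.symm hmj) (Ne.symm hej) b hb]
  have h := (full hli hlj hw hl _ (st.mem l w)).conj hg
  rw [hgn, hga ⟨_, st.mem l w⟩] at h
  refine full hei hej h ?_
  rw [st.p_self (Subtype.coe_prop _)]
  intro h0
  exact hl (congrArg Subtype.val (e₁.injective (e₂.injective (a₁ := e₁ ⟨p l w, st.mem l w⟩) (a₂ := e₁ 0)
    (Subtype.ext (by rw [h0, map_zero, map_zero]; rfl)))))

theorem sup_ndOn {a b : Fin t} (hab : a ≠ b) : NdOn Q (D a ⊔ D b) := fun x hx h => by
  obtain ⟨y, hy, z, hz, rfl⟩ := Submodule.mem_sup.1 hx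
  have h1 : y = 0 := st.nd a y hy fun u hu => by
    have := h u (Submodule.mem_sup_left hu)
    rwa [QuadraticMap.polar_add_left, st.orth b a (Ne.symm hab) z hz u hu, add_zero] at this
  have h2 : z = 0 := st.nd b z hz fun u hu => by
    have := h u (Submodule.mem_sup_right hu)
    rwa [QuadraticMap.polar_add_left, st.orth a b hab y hy u hu, zero_add] at this
  rw [h1, h2, add_zero]

theorem sup_finrank {a b : Fin t} (hab : a ≠ b) : Module.finrank F ↥(D a ⊔ D b) = k + k := by
  have hinf : D a ⊓ D b = ⊥ := (Submodule.eq_bot_iff _).2 fun x hx => st.disjoint hab hx.1 hx.2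
  have h := Submodule.finrank_sup_add_finrank_inf_eq (D a) (D b)
  rw [hinf, finrank_bot, st.dim, st.dim, add_zero] at h
  exact h

/-- planes: one link generates -/
theorem le_of_linked_two (hk : k = 2) (hL : Linked D p k M) : commutator (quadIsoms Q) ≤ M := by
  classical
  obtain ⟨i, j, n, w, hn0, hn, hmem, -, hw, hout⟩ := hL
  have ht := st.five_t hk
  obtain ⟨T, hT⟩ : ∃ T : Finset (Fin t), T = Finset.univ \ {i, j} := ⟨_, rfl⟩
  have hTc : 2 < T.card := by
    rw [hT, Finset.card_sdiff_of_subset (Finset.subset_univ _), Finset.card_univ, Fintype.card_fin]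
    have := Finset.card_le_two (a := i) (b := j)
    omega
  obtain ⟨a, b, m, ha, hb, hm, hab, ham, hbm⟩ := Finset.two_lt_card_iff.1 hTc
  simp only [hT, Finset.mem_sdiff, Finset.mem_univ, true_and, Finset.mem_insert, Finset.mem_singleton,
    not_or] at ha hb hm
  have hnD : ∀ e, e ≠ i → e ≠ j → ∀ d ∈ D e, d ∈ wSub M hn := fun e h1 h2 d hd =>
    mem_wSub.2 (st.out hk hn hmem hw hout h1 h2 d hd)
  obtain ⟨o, hoi, ho⟩ : ∃ o, (o = i ∨ o = j) ∧ p o n ≠ 0 := by
    by_contra hh
    push Not at hh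
    refine hn0 ?_
    rw [← st.sum n]
    refine Finset.sum_eq_zero fun e _ => ?_
    rcases eq_or_ne e i with rfl | hei
    · exact hh e (Or.inl rfl)
    rcases eq_or_ne e j with rfl | hej
    · exact hh e (Or.inr rfl)
    exact st.p_sup hei hej hmem
  -- the parameters of a singular vector of two outer pieces
  have link : ∀ v ∈ D a ⊔ D b, Q v = 0 → ∀ e, e ≠ a → e ≠ b → ∀ d ∈ D e, InW M v d := by
    intro v hv hQv e hea heb
    have hvn : InW M n v := mem_wSub.1 (by
      obtain ⟨y, hy, z, hz, rfl⟩ := Submodule.mem_sup.1 hv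
      exact add_mem (hnD a ha.1 ha.2 y hy) (hnD b hb.1 hb.2 z hz))
    refine st.out hk hQv hv (st.inW_swap hn hQv hvn) ⟨o, ?_, ?_, ?_⟩ hea heb
    · rcases hoi with rfl | rfl
      · exact Ne.symm ha.1
      · exact Ne.symm ha.2
    · rcases hoi with rfl | rfl
      · exact Ne.symm hb.1
      · exact Ne.symm hb.2
    · rw [map_neg]; exact neg_ne_zero.2 ho
  have hfull : ∀ v ∈ D a ⊔ D b, Q v = 0 → v ≠ 0 → Full M v := by
    intro v hv hQv hv0
    obtain ⟨v', hv', hv'0, hQv'⟩ := exists_singular_in (Q := Q) (W := D m ⊔ D i)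
      (by rw [st.sup_finrank hm.1, hk]; omega)
    obtain ⟨r, hr, hrv⟩ : ∃ r, (r = m ∨ r = i) ∧ p r v' ≠ 0 := by
      by_contra hh
      push Not at hh
      refine hv'0 ?_
      rw [← st.sum v']
      refine Finset.sum_eq_zero fun e _ => ?_
      rcases eq_or_ne e m with rfl | hem
      · exact hh e (Or.inl rfl)
      rcases eq_or_ne e i with rfl | hei
      · exact hh e (Or.inr rfl)
      exact st.p_sup hem hei hv'
    have hra : r ≠ a ∧ r ≠ b := by
      rcases hr with rfl | rfl
      · exact ⟨Ne.symm ham, Ne.symm hbm⟩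
      · exact ⟨Ne.symm ha.1, Ne.symm hb.1⟩
    have hv'W : v' ∈ wSub M hQv := by
      obtain ⟨y, hy, z, hz, rfl⟩ := Submodule.mem_sup.1 hv'
      exact add_mem (mem_wSub.2 (link v hv hQv m (Ne.symm ham) (Ne.symm hbm) y hy))
        (mem_wSub.2 (link v hv hQv i (Ne.symm ha.1) (Ne.symm hb.1) z hz))
    have hv'n := st.inW_swap hQv hQv' (mem_wSub.1 hv'W)
    have hv'out : ∃ l, l ≠ m ∧ l ≠ i ∧ p l (-v) ≠ 0 := by
      by_contra hh
      push Not at hh
      refine hv0 ?_
      rw [← st.sum v]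
      refine Finset.sum_eq_zero fun e _ => ?_
      rcases eq_or_ne e m with rfl | hem
      · exact st.p_sup (Ne.symm ham) (Ne.symm hbm) hv
      rcases eq_or_ne e i with rfl | hei
      · exact st.p_sup (Ne.symm ha.1) (Ne.symm hb.1) hv
      simpa using hh e hem hei
    have hscale : ∀ s : F, s • v' ∈ wSub M hQv := fun s => by
      obtain ⟨y, hy, z, hz, rfl⟩ := Submodule.mem_sup.1 hv'
      rw [smul_add]
      exact add_mem (mem_wSub.2 (link v hv hQv m (Ne.symm ham) (Ne.symm hbm) _ ((D m).smul_mem s hy)))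
        (mem_wSub.2 (link v hv hQv i (Ne.symm ha.1) (Ne.symm hb.1) _ ((D i).smul_mem s hz)))
    intro z hz
    have hz' : z ∈ wSub M hQv := by
      obtain ⟨y, hy⟩ : ∃ y, y = p a z + p b z := ⟨_, rfl⟩
      have hsplit : z = y + ∑ e ∈ Finset.univ \ {a, b}, p e z := by
        rw [hy, ← Finset.sum_pair hab (f := fun e => p e z), add_comm,
          Finset.sum_sdiff (Finset.subset_univ _), st.sum]
      rw [hsplit]
      refine add_mem ?_ (sum_mem fun e he => ?_)
      swap
      · simp only [Finset.mem_sdiff, Finset.mem_univ, true_and, Finset.mem_insert, Finset.mem_singleton,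
          not_or] at he
        exact mem_wSub.2 (link v hv hQv e he.1 he.2 _ (st.mem e z))
      -- the part inside the two pieces, from a conjugate of an outer parameter
      obtain ⟨d, hd, hd1⟩ := (st.nd r).exists_partner (st.mem r v') hrv
      rw [st.polar_p v' hd] at hd1
      have hyv : InW M v' y := by
        suffices h : y ∈ wSub M hQv' from mem_wSub.1 h
        rw [hy]
        exact add_mem (mem_wSub.2 (st.out hk hQv' hv' hv'n hv'out (e := a) ham ha.1 _ (st.mem a z)))
          (mem_wSub.2 (st.out hk hQv' hv' hv'n hv'out (e := b) hbm hb.1 _ (st.mem b z)))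
      have hv'v : polar Q v' v = 0 := by
        have := (mem_wSub.1 hv'W).1
        rwa [QuadraticMap.polar_comm] at this
      have hyz : polar Q y v = 0 := by
        obtain ⟨v₁, hv₁, v₂, hv₂, rfl⟩ := Submodule.mem_sup.1 hv
        rw [hy, QuadraticMap.polar_add_left, QuadraticMap.polar_add_right, QuadraticMap.polar_add_right,
          st.polar_p z hv₁, st.polar_p z hv₂, st.orth a b hab _ (st.mem a z) v₂ hv₂,
          st.orth b a (Ne.symm hab) _ (st.mem b z) v₁ hv₁]
        rw [QuadraticMap.polar_comm, QuadraticMap.polar_add_right] at hz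
        rw [add_zero, zero_add]
        exact hz
      have hfix : (siegel Q v' y).1 v = v := by
        rw [siegel_apply Q hQv' hyv.1, hv'v, hyz]; simp
      have h := (link v hv hQv r hra.1 hra.2 d hd).conj hyv.2
      rw [hfix, siegel_apply Q hQv' hyv.1, hd1, one_smul] at h
      have hmem' : _ ∈ wSub M hQv := mem_wSub.2 h
      have h' := sub_mem (add_mem hmem' (hscale (polar Q y d + Q y * 1)))
        (mem_wSub.2 (link v hv hQv r hra.1 hra.2 d hd))
      convert h' using 1
      abel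
    exact (mem_wSub.1 hz').2
  obtain ⟨v, hv, hv0, hQv⟩ := exists_singular_in (Q := Q) (W := D a ⊔ D b)
    (by rw [st.sup_finrank hab, hk]; omega)
  obtain ⟨v₂, hv₂, hQv₂, hvv⟩ := (st.sup_ndOn hab).exists_opposite hv hv0 hQv
  exact commutator_le_of_pair st.sep st.five (hfull v hv hQv hv0)
    (hfull v₂ hv₂ hQv₂ (fun h => by rw [h, QuadraticMap.polar_zero_right] at hvv; exact zero_ne_one hvv))
    hQv hQv₂ (by rw [hvv]; exact one_ne_zero)

/-- dimension at least four: a piece met by the parameters of a singular vector of another piece -/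
theorem spread_one (hk : 4 ≤ k) (h2 : (2 : F) = 0) {a l : Fin t} (hla : l ≠ a) {u w : V} (hu : u ∈ D a)
    (hQu : Q u = 0) (hw : InW M u w) (hwl : p l w ≠ 0) : ∀ d ∈ D l, InW M u d := by
  refine st.inW_piece hQu hw (st.p_other hla hu) hwl fun v hv hQv => ?_
  obtain ⟨f, hf, hfu, hQf⟩ : ∃ f ∈ D a, polar Q u f = 0 ∧ Q f ≠ 0 := by
    by_contra hh
    push Not at hh
    obtain ⟨K, hK⟩ : ∃ K : Submodule F V, K = D a ⊓ LinearMap.ker (QuadraticMap.polarBilin Q u) := ⟨_, rfl⟩
    have hKz : ∀ y ∈ K, Q y = 0 := fun y hy => by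
      rw [hK] at hy; exact hh y hy.1 hy.2
    have h1 := isotropic_finrank (st.nd a) (hK ▸ inf_le_left)
      (fun x hx y hy => polar_of_singular (A := K) hKz hx hy)
    have h3 := LinearMap.finrank_range_add_finrank_ker ((QuadraticMap.polarBilin Q u).comp (D a).subtype)
    have h4 := (LinearMap.range ((QuadraticMap.polarBilin Q u).comp (D a).subtype)).finrank_le
    rw [Module.finrank_self] at h4
    rw [LinearMap.ker_comp, ← Submodule.finrank_map_subtype_eq, Submodule.map_comap_subtype, ← hK, st.dim] at h3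
    rw [st.dim] at h1
    omega
  obtain ⟨s, hs⟩ := isSquare_of_two h2 (Q v / Q f)
  refine ⟨a, Ne.symm hla, s • f, (D a).smul_mem _ hf, ?_, ?_⟩
  · rw [quad_smul, ← hs, div_mul_cancel₀ _ hQf]
  · rw [QuadraticMap.polar_smul_left, QuadraticMap.polar_comm, hfu, smul_zero]

/-- all of `D l` is in the parameters of every singular point of `D a` -/
def Spread (_ : Setting Q D p k M) (a l : Fin t) : Prop :=
  ∀ u ∈ D a, Q u = 0 → ∀ w ∈ D l, InW M u w

theorem spread_pair (hk : 4 ≤ k) (h2 : (2 : F) = 0) {a l : Fin t} (hal : a ≠ l) {u w : V} (hu : u ∈ D a)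
    (hu0 : u ≠ 0) (hQu : Q u = 0) (hw : InW M u w) (hwl : p l w ≠ 0) : st.Spread a l ∧ st.Spread l a := by
  have h1 := st.spread_one hk h2 (Ne.symm hal) hu hQu hw hwl
  have hla : st.Spread l a := fun s hs hQs d hd => by
    rcases eq_or_ne s 0 with rfl | hs0
    · exact st.inW_zero d
    exact st.spread_one hk h2 hal hs hQs (st.inW_swap hQu hQs (h1 s hs))
      (by rw [map_neg, st.p_self hu]; exact neg_ne_zero.2 hu0) d hd
  refine ⟨fun u₁ hu₁ hQu₁ d hd => ?_, hla⟩
  obtain ⟨s, hs, hs0, hQs⟩ := exists_singular_in (Q := Q) (W := D l) (by rw [st.dim]; omega)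
  exact st.spread_one hk h2 (Ne.symm hal) hu₁ hQu₁ (st.inW_swap hQs hQu₁ (hla s hs hQs u₁ hu₁))
    (by rw [map_neg, st.p_self hs]; exact neg_ne_zero.2 hs0) d hd

/-- dimension at least four: one link generates -/
theorem le_of_linked_four (hk : 4 ≤ k) (h2 : (2 : F) = 0) (hL : Linked D p k M) :
    commutator (quadIsoms Q) ≤ M := by
  obtain ⟨i, j, u, w, hu0, hQu, hmem, hij, hw, l, hli, -, hwl⟩ := hL
  obtain rfl := hij (by omega)
  rw [sup_idem] at hmem
  have hR := st.spread_pair hk h2 (Ne.symm hli) hmem hu0 hQu hw hwl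
  have hall : ∀ e, e ≠ i → st.Spread i e := by
    intro e hei
    rcases eq_or_ne e l with rfl | hel
    · exact hR.1
    obtain ⟨e₁, he₁⟩ := st.iso i l
    obtain ⟨e₂, he₂⟩ := st.iso l e
    obtain ⟨g, hg, -, -, ga, gl, -, -⟩ := st.exists_cycle' (Ne.symm hli) (Ne.symm hei) (Ne.symm hel) e₁ he₁ e₂ he₂
    obtain ⟨w', hw', hw'0, -⟩ := exists_singular_in (Q := Q) (W := D l) (by rw [st.dim]; omega)
    refine (st.spread_pair hk h2 hei (u := g.1 u) (w := g.1 w') ?_ (fun h => hu0 ?_) (by rw [g.2, hQu])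
      ((hR.1 u hmem hQu w' hw').conj hg) ?_).2
    · rw [ga ⟨u, hmem⟩]; exact Subtype.coe_prop _
    · exact g.1.injective (h.trans (map_zero _).symm)
    · have hm : g.1 w' ∈ D i := by rw [gl ⟨w', hw'⟩]; exact Subtype.coe_prop _
      rw [st.p_self hm]
      exact fun h => hw'0 (g.1.injective (h.trans (map_zero _).symm))
  have hfull : ∀ x ∈ D i, Q x = 0 → Full M x := by
    intro x hx hQx z hz
    have h : z ∈ wSub M hQx := by
      rw [← st.sum z]
      refine sum_mem fun e _ => ?_
      rcases eq_or_ne e i with rfl | hei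
      · refine mem_wSub.2 (st.inW_block hx hQx (st.mem e z) ?_)
        rw [QuadraticMap.polar_comm, st.polar_p z hx, QuadraticMap.polar_comm, hz]
      · exact mem_wSub.2 (hall e hei x hx hQx _ (st.mem e z))
    exact (mem_wSub.1 h).2
  obtain ⟨v, hv, hQv, huv⟩ := (st.nd i).exists_opposite hmem hu0 hQu
  exact commutator_le_of_pair st.sep st.five (hfull u hmem hQu) (hfull v hv hQv) hQu hQv
    (by rw [huv]; exact one_ne_zero)

/-- an overgroup either stabilises the decomposition or contains the commutator subgroup -/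
theorem dichotomy {g : quadIsoms Q} (hg : g ∈ M) (hns : ¬ Stab D g) : commutator (quadIsoms Q) ≤ M := by
  have hL : Linked D p k M := (st.start hg hns).elim st.second id
  rcases st.shape with ⟨hk, -⟩ | ⟨hk, -, h2, -⟩
  · exact st.le_of_linked_two hk hL
  · exact st.le_of_linked_four hk h2 hL

end Setting

end CfsgLib.MaxSub.ORefl
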