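import Cfsg.Agent.Lib.MaxSub.ORefl.Main
import Cfsg.Agent.Lib.MaxSub.OFrameEven
import Cfsg.Agent.Lib.Geom.NondegMaxCases

/-!
All the maximal orthogonal decomposition stabilisers with pieces of dimension at least two.
-/

set_option autoImplicit false
set_option linter.unusedSectionVars false

namespace CfsgLib.MaxSub.ORefl

open Cfsg.Geo CfsgLib.Classical CfsgLib.Geom CfsgLib.Geom.OrthSub CfsgLib.MaxSub
open QuadraticMap (polar)

variable {ι : Type} [Fintype ι] [DecidableEq ι] {F : Type*} [Field F] [Fintype F] {t k : ℕ}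
  {f : (ι → F) → F} {D : Fin t → Submodule F (ι → F)}

/-- plus type passes between isometric members -/
theorem plus_iso (hD : IsOrthogonalMDecomposition f k D) {i : Fin t} (h : IsPlusTypeOn f (D i)) (j : Fin t) :
    IsPlusTypeOn f (D j) := by
  obtain ⟨U, hU, hts, hd⟩ := h
  obtain ⟨e, he⟩ := hD.isometric i j
  obtain ⟨L, hL⟩ : ∃ L : U →ₗ[F] (ι → F), ∀ u : U, L u = (e ⟨u.1, hU u.2⟩ : D j) :=
    ⟨(D j).subtype ∘ₗ e.toLinearMap ∘ₗ Submodule.inclusion hU, fun u => rfl⟩
  refine ⟨LinearMap.range L, ?_, ?_, ?_⟩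
  · rintro _ ⟨u, rfl⟩
    rw [hL]; exact Subtype.coe_prop _
  · rintro _ ⟨u, rfl⟩
    rw [hL, he]; exact hts _ u.2
  · rw [LinearMap.finrank_range_of_inj, hd, hD.decomp.decomp.finrank_eq, hD.decomp.decomp.finrank_eq]
    intro a b hab
    rw [hL, hL] at hab
    exact Subtype.ext (congrArg (fun x : D i => (x : ι → F)) (e.injective (Subtype.ext hab)))

/-- members of plus type make the whole space of plus type -/
theorem plus_top (Q : QuadraticForm F (ι → F)) (hf : ⇑Q = f) (hD : IsOrthogonalMDecomposition f k D)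
    (h : ∀ i, IsPlusTypeOn f (D i)) : IsPlusTypeOn f ⊤ := by
  classical
  subst hf
  choose U hU hts hd using h
  obtain ⟨L, hL⟩ : ∃ L : ((i : Fin t) → U i) →ₗ[F] (ι → F), ∀ u, L u = ∑ i, (u i : ι → F) :=
    ⟨∑ i, (U i).subtype ∘ₗ LinearMap.proj i, fun u => by simp⟩
  have hinj : Function.Injective L := by
    rw [← LinearMap.ker_eq_bot, LinearMap.ker_eq_bot']
    intro u hu
    rw [hL] at hu
    exact funext fun i => Subtype.ext ((iSupIndep_iff_finset_sum_eq_zero_imp_eq_zero D).1 hD.decomp.decomp.indep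
      Finset.univ (fun j => (u j : ι → F)) (fun j _ => hU j (u j).2) hu i (Finset.mem_univ i))
  have hsum : ∀ (u : (i : Fin t) → U i) (s : Finset (Fin t)), Q (∑ i ∈ s, (u i : ι → F)) = 0 := by
    intro u s
    induction s using Finset.induction with
    | empty => simp
    | insert a s has ih =>
      rw [Finset.sum_insert has, QuadraticMap.map_add (Q : QuadraticMap F (ι → F) F), ih, hts a _ (u a).2,
        zero_add, zero_add]
      show QuadraticMap.polarBilin Q _ _ = 0
      rw [map_sum]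
      refine Finset.sum_eq_zero fun j hj => ?_
      exact hD.decomp.orthogonal a j (fun e => has (e ▸ hj)) _ (hU a (u a).2) _ (hU j (u j).2)
  refine ⟨LinearMap.range L, le_top, ?_, ?_⟩
  · rintro _ ⟨u, rfl⟩
    rw [hL]; exact hsum u _
  · rw [LinearMap.finrank_range_of_inj hinj, finrank_top, Module.finrank_pi_fintype, Finset.mul_sum]
    obtain ⟨ψ, -⟩ := Decomp.exists_coord hD.decomp.decomp
    rw [ψ.finrank_eq, Module.finrank_pi_fintype, Module.finrank_fin_fun]
    exact Finset.sum_congr rfl fun i _ => by rw [hd i, hD.decomp.decomp.finrank_eq]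

/-- Decomposition stabilisers are maximal outside the listed exceptions. -/
theorem isMaximalIn_frame (Q : QuadraticForm F (ι → F)) (hf : ⇑Q = f)
    (hsep : ∀ x, (∀ y, polar Q x y = 0) → x = 0) (h5 : 5 ≤ Module.finrank F (ι → F))
    (hD : IsOrthogonalMDecomposition f k D) (hk : 2 ≤ k) (ht : k = 2 → 5 ≤ t)
    (hodd : Odd k → Odd (Fintype.card F))
    (hex2 : k = 2 → Fintype.card F ≠ 3 ∧
      ¬ ((∀ i, IsPlusTypeOn f (D i)) ∧ (Fintype.card F = 2 ∨ Fintype.card F = 4 ∨ Fintype.card F = 5)))
    (hex3 : k = 3 → Fintype.card F ≠ 3)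
    (hex4 : k = 4 → Fintype.card F = 2 → ¬ ∀ i, IsPlusTypeOn f (D i)) :
    Cfsg.Geo.IsMaximalIn (omegaGL f) (decompositionStabilizer D ⊓ omegaGL f) := by
  classical
  rcases eq_or_lt_of_le hk with hk2 | hk3
  · obtain ⟨h3, hplus⟩ := hex2 hk2.symm
    refine isMaximalIn_decomposition Q hf hsep h5 hD (Or.inl ⟨hk2.symm, ht hk2.symm, ?_⟩)
    by_cases h7 : 7 ≤ Fintype.card F
    · exact Or.inl h7
    refine Or.inr ⟨h3, fun i z hz hQz => ?_⟩
    by_contra hz0
    have hp : IsPlusTypeOn f (D i) := OrthSub.isPlusTypeOn_of_singular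
      (fun c v => by rw [← hf, quad_smul]; ring) (by rw [hD.decomp.decomp.finrank_eq, ← hk2]) ⟨z, hz, hz0, hQz⟩
    refine hplus ⟨plus_iso hD hp, ?_⟩
    have h1 : 1 < Fintype.card F := Fintype.one_lt_card
    have h6 : Fintype.card F ≠ 6 := fun h => by
      have h' := FiniteField.isPrimePow_card F
      rw [h, isPrimePow_nat_iff] at h'
      obtain ⟨a, n, ha, hn, he⟩ := h'
      have hd : a ∣ 6 := he ▸ dvd_pow_self a hn.ne'
      have h2 := Nat.le_of_dvd (by norm_num) hd
      have hcop : a = 2 ∨ a = 3 := by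
        interval_cases a <;> revert ha hd <;> norm_num
      rcases hcop with rfl | rfl
      · exact absurd (Nat.prime_three.dvd_of_dvd_pow (show 3 ∣ 2 ^ n from he ▸ ⟨2, rfl⟩)) (by norm_num)
      · exact absurd (Nat.prime_two.dvd_of_dvd_pow (show 2 ∣ 3 ^ n from he ▸ ⟨3, rfl⟩)) (by norm_num)
    omega
  by_cases h2 : (2 : F) = 0
  · have hqe : ¬ Odd (Fintype.card F) := fun h => CfsgLib.Classical.two_ne_zero_of_odd h h2
    have hk4 : 4 ≤ k := by
      by_contra h
      exact hqe (hodd (by rw [show k = 3 by omega]; decide))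
    by_cases hbig : 5 ≤ k ∨ 4 ≤ Fintype.card F
    · exact isMaximalIn_decomposition Q hf hsep h5 hD (Or.inr ⟨hk4, h2, hbig⟩)
    push Not at hbig
    obtain rfl : k = 4 := by omega
    have hq : Fintype.card F = 2 := by
      have h1 : 1 < Fintype.card F := Fintype.one_lt_card
      by_contra h
      exact hqe (by rw [show Fintype.card F = 3 by omega]; decide)
    refine OFrame.isMaximalIn_decomposition_four Q hf hsep h5 h2 hD fun i x hx y hy hQx hQy hxy hx0 => ?_
    by_contra hyx
    refine hex4 rfl hq (plus_iso hD (i := i) ⟨Submodule.span F {x, y}, ?_, fun w hw => ?_, ?_⟩)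
    · rw [Submodule.span_le, Set.insert_subset_iff, Set.singleton_subset_iff]; exact ⟨hx, hy⟩
    · obtain ⟨a, b, rfl⟩ := Submodule.mem_span_pair.1 hw
      rw [← hf, quad_map_add_smul, quad_smul, QuadraticMap.polar_smul_left, hxy, hQx, hQy]
      simp
    · have hli : LinearIndependent F ![x, y] :=
        (LinearIndependent.pair_iff' hx0).2 fun a ha => hyx (ha ▸ Submodule.mem_span_singleton.2 ⟨a, rfl⟩)
      have hfr := finrank_span_eq_card hli
      rw [Fintype.card_fin, Matrix.range_cons_cons_empty] at hfr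
      rw [hfr, hD.decomp.decomp.finrank_eq]
  · refine OFrame.isMaximalIn_decomposition Q hf hsep h5 h2 hk3 (fun h => ?_) hD
    rw [Nat.card_eq_fintype_card]
    have h1 : 1 < Fintype.card F := Fintype.one_lt_card
    have := hex3 h
    have h4 : Fintype.card F ≠ 4 := fun h4 => h2 (by
      have hc := FiniteField.cast_card_eq_zero F
      rw [h4] at hc
      exact mul_self_eq_zero.1 (by norm_num; exact_mod_cast hc))
    have h2' : Fintype.card F ≠ 2 := fun h4 => h2 (by
      have hc := FiniteField.cast_card_eq_zero F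
      rw [h4] at hc
      exact_mod_cast hc)
    omega

end CfsgLib.MaxSub.ORefl
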