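import Cfsg.Agent.Lib.MaxSub.ORefl.Aniso

/-!
The frame vectors of a fixed value: they span, and an isometry taking all of them into pieces permutes the
pieces.
-/

set_option autoImplicit false
set_option linter.unusedSectionVars false

namespace CfsgLib.MaxSub.ORefl

open CfsgLib.Classical CfsgLib.Geom CfsgLib.Geom.OrthSub CfsgLib.MaxSub
open CfsgLib.MaxSub.OFrame (Stab InW NdOn)
open QuadraticMap (polar)

variable {F V : Type*} [Field F] [AddCommGroup V] [Module F V] {Q : QuadraticForm F V} {t : ℕ}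

namespace Setting

variable [FiniteDimensional F V] [Finite F] {D : Fin t → Submodule F V} {p : Fin t → V →ₗ[F] V} {k : ℕ}
  {M : Subgroup (quadIsoms Q)} (st : Setting Q D p k M)
include st

theorem rich (i : Fin t) : Rich Q (D i) := by
  rcases st.shape with ⟨-, -, h | ⟨-, h⟩⟩ | ⟨hk, -, -, h | h⟩
  · exact Or.inl (by omega)
  · exact Or.inr (Or.inr (Or.inr (h i)))
  · exact Or.inr (Or.inr (Or.inl (by rw [st.dim]; exact h)))
  · exact Or.inr (Or.inl ⟨h, by rw [st.dim]; omega⟩)

theorem dim_two (i : Fin t) : 2 ≤ Module.finrank F (D i) := by rw [st.dim]; exact st.kge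

theorem value_exists {i : Fin t} {f : V} (hf : f ∈ D i) (j : Fin t) : ∃ f' ∈ D j, Q f' = Q f := by
  obtain ⟨e, he⟩ := st.iso i j
  exact ⟨(e ⟨f, hf⟩ : D j), Subtype.coe_prop _, he ⟨f, hf⟩⟩

/-- the vectors of a given value span each piece -/
theorem value_span {i : Fin t} {f : V} (hf : f ∈ D i) (hQf : Q f ≠ 0) :
    ∀ x ∈ D i, x ∈ Submodule.span F {v : V | v ∈ D i ∧ Q v = Q f} := by
  refine le_of_refl_invariant (st.nd i) (st.rich i) (st.dim_two i)
    (Submodule.span F {v : V | v ∈ D i ∧ Q v = Q f}).toAddSubgroup (fun u hu hQu x hxD hx => ?_) hf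
    (Submodule.subset_span ⟨hf, rfl⟩) (fun h => hQf (by rw [h]; exact map_zero Q))
  clear hxD
  induction hx using Submodule.span_induction with
  | mem v hv =>
    refine Submodule.subset_span ⟨?_, by rw [(rs Q u).2]; exact hv.2⟩
    rw [rs_apply hQu]
    exact sub_mem hv.1 ((D i).smul_mem _ hu)
  | zero => rw [map_zero]; exact zero_mem _
  | add a b _ _ ha hb => rw [map_add]; exact add_mem ha hb
  | smul r a _ ha => rw [map_smul]; exact Submodule.smul_mem _ r ha

/-- the frame vectors of a given value span -/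
theorem frame_span {i : Fin t} {f : V} (hf : f ∈ D i) (hQf : Q f ≠ 0) :
    Submodule.span F {v : V | (∃ j, v ∈ D j) ∧ Q v = Q f} = ⊤ := by
  refine eq_top_iff.2 fun x _ => ?_
  rw [← st.sum x]
  refine sum_mem fun j _ => ?_
  obtain ⟨f', hf', hQ'⟩ := st.value_exists hf j
  refine Submodule.span_mono ?_ (st.value_span hf' (hQ'.symm ▸ hQf) _ (st.mem j x))
  exact fun v hv => ⟨⟨j, hv.1⟩, hv.2.trans hQ'⟩

/-- in a plane of odd characteristic, two orthogonal vectors of one value give a mixed vector of this value -/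
theorem exists_mixed (hk : k = 2) (h2 : (2 : F) ≠ 0) {i : Fin t} {f b : V} (hf : f ∈ D i) (hb : b ∈ D i)
    (hQf : Q f ≠ 0) (hQb : Q b = Q f) (hfb : polar Q f b = 0) (hbf : ∀ r : F, b ≠ r • f) :
    ∃ y ∈ D i, Q y = Q f ∧ (∀ r : F, y ≠ r • f) ∧ polar Q f y ≠ 0 := by
  classical
  haveI := Fintype.ofFinite F
  have hq : 7 ≤ Nat.card F ∨ (Nat.card F ≠ 3 ∧ ∀ i, ∀ z ∈ D i, Q z = 0 → z = 0) := by
    rcases st.shape with ⟨-, -, h⟩ | ⟨h, -⟩
    · exact h
    · omega
  by_contra hno
  -- a reflection at a mixed vector gives a vector neither proportional nor orthogonal to `f`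
  have fin : ∀ s : F, s ≠ 0 → s * s ≠ 1 → 1 + s * s ≠ 0 → False := by
    intro s hs0 hs1 hs2
    have hQu : Q (f + s • b) = (1 + s * s) * Q f := by
      rw [quad_map_add_smul, hfb, hQb]; ring
    have hQu0 : Q (f + s • b) ≠ 0 := by rw [hQu]; exact mul_ne_zero hs2 hQf
    have huf : polar Q (f + s • b) f = 2 * Q f := by
      rw [QuadraticMap.polar_add_left, QuadraticMap.polar_smul_left, polar_self_two,
        QuadraticMap.polar_comm _ b, hfb, smul_zero, add_zero]
    have hy : (rs Q (f + s • b)).1 f = f - (2 / (1 + s * s)) • (f + s • b) := by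
      rw [rs_apply hQu0, huf, hQu]
      congr 2
      field_simp
    have hymem : (rs Q (f + s • b)).1 f ∈ D i := by
      rw [rs_apply hQu0]; exact sub_mem hf ((D i).smul_mem _ (add_mem hf ((D i).smul_mem _ hb)))
    refine hno ⟨_, hymem, (rs Q (f + s • b)).2 f, fun r hr => ?_, fun hperp => ?_⟩
    · rw [hy] at hr
      refine hbf (-((r - 1 + 2 / (1 + s * s)) / (2 / (1 + s * s) * s))) ?_
      have hd : 2 / (1 + s * s) * s ≠ 0 := mul_ne_zero (div_ne_zero h2 hs2) hs0
      have e : (2 / (1 + s * s) * s) • b = -((r - 1 + 2 / (1 + s * s)) • f) := by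
        have := sub_eq_zero.2 hr
        rw [eq_neg_iff_add_eq_zero, ← neg_eq_zero, ← this]
        module
      calc b = (2 / (1 + s * s) * s)⁻¹ • ((2 / (1 + s * s) * s) • b) := by
            rw [smul_smul, inv_mul_cancel₀ hd, one_smul]
        _ = _ := by rw [e, smul_neg, ← neg_smul, smul_smul]; congr 1; field_simp
    · rw [hy, QuadraticMap.polar_sub_right, QuadraticMap.polar_smul_right, QuadraticMap.polar_add_right,
        QuadraticMap.polar_smul_right, hfb, smul_zero, add_zero, polar_self_two, smul_eq_mul] at hperp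
      refine hs1 ?_
      field_simp at hperp
      have h := (mul_eq_zero.1 hperp).resolve_left (mul_ne_zero h2 hQf)
      rw [sub_eq_zero, eq_div_iff (by rwa [sq]), one_mul] at h
      linear_combination h
  rw [Nat.card_eq_fintype_card] at hq
  rcases Nat.lt_or_ge (Fintype.card F) 6 with hlt | hge
  · obtain ⟨h3, han⟩ := hq.resolve_left (by omega)
    have hcast := Nat.cast_card_eq_zero F
    have h1 : 1 < Fintype.card F := Fintype.one_lt_card
    interval_cases hc : Fintype.card F
    · exact h2 (by exact_mod_cast hcast)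
    · exact h3 rfl
    · exact h2 (mul_self_eq_zero.1 (by norm_num; exact_mod_cast hcast))
    · have h5 : (5 : F) = 0 := by exact_mod_cast hcast
      have h0 := han i (f + (2 : F) • b) (add_mem hf ((D i).smul_mem _ hb)) (by
        rw [quad_map_add_smul, hfb, hQb]; linear_combination (Q f) * h5)
      have h' := congrArg (polar Q f) h0
      rw [QuadraticMap.polar_add_right, QuadraticMap.polar_smul_right, hfb, polar_self_two, smul_zero,
        add_zero, QuadraticMap.polar_zero_right] at h'
      exact mul_ne_zero h2 hQf h'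
  · obtain ⟨T, hT⟩ : ∃ T : Finset F, T = {0, 1, -1} := ⟨_, rfl⟩
    obtain ⟨R, hR⟩ : ∃ R : Finset F, R = Finset.univ.filter (fun x : F => 1 + x * x = 0) := ⟨_, rfl⟩
    have hRc : R.card ≤ 2 := quadratic_roots 1 0 1 one_ne_zero R fun x hx => by
      rw [hR] at hx
      linear_combination (Finset.mem_filter.1 hx).2
    have hTc : T.card ≤ 3 := hT ▸ Finset.card_le_three
    obtain ⟨s, -, hs⟩ := Finset.exists_mem_notMem_of_card_lt_card (s := T ∪ R) (t := Finset.univ)
      (lt_of_le_of_lt (Finset.card_union_le _ _) (by rw [Finset.card_univ]; omega))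
    rw [hT, hR] at hs
    simp only [Finset.mem_union, Finset.mem_insert, Finset.mem_singleton, Finset.mem_filter,
      Finset.mem_univ, true_and, not_or] at hs
    refine fin s hs.1.1 (fun h => ?_) hs.2
    rcases mul_self_eq_one_iff.1 h with h' | h'
    · exact hs.1.2.1 h'
    · exact hs.1.2.2 h'


/-- an isometry with the image of every vector of one value in pieces maps the piece into a piece -/
theorem frame_perm {i : Fin t} {f : V} (hf : f ∈ D i) (hQf : Q f ≠ 0) (g : quadIsoms Q)
    (hall : ∀ x ∈ D i, Q x = Q f → ∃ j, g.1 x ∈ D j) : ∃ j, ∀ x ∈ D i, g.1 x ∈ D j := by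
  classical
  haveI := Fintype.ofFinite F
  by_contra hno
  push Not at hno
  have hne : ∀ {v : V}, Q v = Q f → v ≠ 0 := fun hv h => hQf (by rw [← hv, h]; exact map_zero Q)
  -- two vectors of this value are proportional or orthogonal
  have hdich : ∀ a ∈ D i, Q a = Q f → ∀ v ∈ D i, Q v = Q f → (∃ r : F, v = r • a) ∨ polar Q a v = 0 := by
    intro a ha hQa v hv hQv
    obtain ⟨j, hj⟩ := hall a ha hQa
    obtain ⟨l, hl⟩ := hall v hv hQv
    by_cases hjl : j = l
    swap
    · right; rw [← polar_map g a v]; exact st.orth j l hjl _ hj _ hl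
    subst hjl
    by_contra hcon
    push Not at hcon
    obtain ⟨hprop, hav⟩ := hcon
    obtain ⟨A, hA⟩ : ∃ A : Submodule F V, A = (D j).comap g.1.toLinearMap := ⟨_, rfl⟩
    have hApro : ¬ D i ≤ A := fun h => by
      obtain ⟨x, hx, hx'⟩ := hno j
      exact hx' (by have := h hx; rw [hA] at this; exact this)
    have hapro : ¬ D i ≤ LinearMap.ker (QuadraticMap.polarBilin Q a) := fun h =>
      hne hQa (st.nd i a ha fun y hy => h hy)
    obtain ⟨u, hu, hQu, huA, hau⟩ := exists_aniso_outside (st.nd i) (st.rich i) hApro hapro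
    rw [LinearMap.mem_ker] at hau
    change polar Q a u ≠ 0 at hau
    -- a vector with image in `D j` not orthogonal to `u` has image determined by `u`
    have key : ∀ u' ∈ D i, Q u' ≠ 0 → g.1 u' ∉ D j → ∀ w ∈ D i, Q w = Q f → g.1 w ∈ D j →
        g.1 w = ((Q u')⁻¹ * polar Q u' w) • p j (g.1 u') ∨ polar Q u' w = 0 := by
      intro u' hu' hQu' hu'A w hw hQw hgw
      by_cases h0 : polar Q u' w = 0
      · exact Or.inr h0
      left
      have hy : (rs Q u').1 w ∈ D i := by
        rw [rs_apply hQu']; exact sub_mem hw ((D i).smul_mem _ hu')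
      obtain ⟨m, hm⟩ := hall _ hy (by rw [(rs Q u').2]; exact hQw)
      rw [rs_apply hQu', map_sub, map_smul] at hm
      have hjm : j ≠ m := by
        rintro rfl
        refine hu'A ((Submodule.smul_mem_iff _ (mul_ne_zero (inv_ne_zero hQu') h0)).1 ?_)
        simpa using sub_mem hgw hm
      have h1 := st.p_other hjm hm
      rw [map_sub, map_smul, st.p_self hgw] at h1
      exact sub_eq_zero.1 h1
    have main : ∀ u' ∈ D i, Q u' ≠ 0 → g.1 u' ∉ D j → polar Q u' a ≠ 0 → polar Q u' v = 0 := by
      intro u' hu' hQu' hu'A h0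
      by_contra h1
      have e1 := (key u' hu' hQu' hu'A a ha hQa hj).resolve_right h0
      have e2 := (key u' hu' hQu' hu'A v hv hQv hl).resolve_right h1
      refine hprop (polar Q u' v / polar Q u' a) (g.1.injective ?_)
      rw [map_smul, e1, e2, smul_smul]
      congr 1
      field_simp
    have huj : g.1 u ∉ D j := fun h => huA (by rw [hA]; exact h)
    have hua : polar Q u a ≠ 0 := by rwa [QuadraticMap.polar_comm]
    have huv := main u hu hQu huj hua
    have hu' : (rs Q a).1 u ∈ D i := by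
      rw [rs_apply (hQa ▸ hQf)]; exact sub_mem hu ((D i).smul_mem _ ha)
    have h2 := main _ hu' (by rw [(rs Q a).2]; exact hQu) (fun h => huj (by
      rw [rs_apply (hQa ▸ hQf), map_sub, map_smul] at h
      simpa using add_mem h ((D j).smul_mem ((Q a)⁻¹ * polar Q a u) hj))) (by
      rw [← polar_map (rs Q a), rs_rs, rs_self (hQa ▸ hQf), QuadraticMap.polar_neg_right, neg_ne_zero]
      exact hua)
    rw [rs_apply (hQa ▸ hQf), QuadraticMap.polar_sub_left, huv, QuadraticMap.polar_smul_left, zero_sub,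
      neg_eq_zero, smul_eq_mul] at h2
    exact mul_ne_zero (mul_ne_zero (inv_ne_zero (hQa ▸ hQf)) (by rwa [QuadraticMap.polar_comm] at hua)) hav h2
  by_cases h2 : (2 : F) = 0
  · refine hne rfl (st.nd i f hf fun y hy => ?_)
    have hspan := st.value_span hf hQf y hy
    clear hy
    induction hspan using Submodule.span_induction with
    | mem v hv =>
      rcases hdich f hf rfl v hv.1 hv.2 with ⟨r, rfl⟩ | h
      · rw [QuadraticMap.polar_smul_right, polar_self_two, h2, zero_mul, smul_zero]
      · exact h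
    | zero => exact QuadraticMap.polar_zero_right Q f
    | add a b _ _ ha hb => rw [QuadraticMap.polar_add_right, ha, hb, add_zero]
    | smul r a _ ha => rw [QuadraticMap.polar_smul_right, ha, smul_zero]
  obtain ⟨hk, -, -⟩ : k = 2 ∧ 5 ≤ t ∧
      (7 ≤ Nat.card F ∨ (Nat.card F ≠ 3 ∧ ∀ i, ∀ z ∈ D i, Q z = 0 → z = 0)) := by
    rcases st.shape with h | ⟨-, -, h, -⟩
    · exact h
    · exact absurd h h2
  obtain ⟨b, hb, hQb, hbf⟩ : ∃ b ∈ D i, Q b = Q f ∧ ∀ r : F, b ≠ r • f := by
    by_contra hh
    push Not at hh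
    have hle : D i ≤ Submodule.span F {f} := fun x hx => by
      refine (Submodule.span_le.2 ?_) (st.value_span hf hQf x hx)
      rintro v ⟨hv, hQv⟩
      obtain ⟨r, rfl⟩ := hh v hv hQv
      exact Submodule.smul_mem _ r (Submodule.mem_span_singleton_self f)
    have h := Submodule.finrank_mono hle
    rw [st.dim, hk, finrank_span_singleton (hne rfl)] at h
    omega
  have hfb : polar Q f b = 0 := (hdich f hf rfl b hb hQb).resolve_left (by push Not; exact hbf)
  obtain ⟨y, hy, hQy, hyp, hyo⟩ := st.exists_mixed hk h2 hf hb hQf hQb hfb hbf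
  rcases hdich f hf rfl y hy hQy with ⟨r, hr⟩ | h
  · exact hyp r hr
  · exact hyo h

/-- some frame vector of any given value is moved out of the frame by an element outside the stabiliser -/
theorem exists_moved {g : quadIsoms Q} (hg : ¬ Stab D g) {i : Fin t} {f : V} (hf : f ∈ D i)
    (hQf : Q f ≠ 0) : ∃ j, ∃ f' ∈ D j, Q f' = Q f ∧ ∀ l, g.1 f' ∉ D l := by
  by_contra hh
  push Not at hh
  refine hg fun j => ?_
  obtain ⟨f', hf', hQ'⟩ := st.value_exists hf j
  exact st.frame_perm hf' (hQ'.symm ▸ hQf) g fun x hx hQx => hh j x hx (hQx.trans hQ')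

end Setting

/-- a class contains a vector outside all pieces -/
def Moved (D : Fin t → Submodule F V) (M : Subgroup (quadIsoms Q)) : Prop :=
  ∃ c : F, c ≠ 0 ∧ ∃ x, InK D M c x ∧ ∀ j, x ∉ D j

/-- a singular vector of small support is linked with another piece -/
def Linked (D : Fin t → Submodule F V) (p : Fin t → V →ₗ[F] V) (k : ℕ) (M : Subgroup (quadIsoms Q)) : Prop :=
  ∃ i j : Fin t, ∃ n w : V, n ≠ 0 ∧ Q n = 0 ∧ n ∈ D i ⊔ D j ∧ (3 ≤ k → i = j) ∧ InW M n w ∧
    ∃ l, l ≠ i ∧ l ≠ j ∧ p l w ≠ 0

namespace Setting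

variable [FiniteDimensional F V] [Finite F] {D : Fin t → Submodule F V} {p : Fin t → V →ₗ[F] V} {k : ℕ}
  {M : Subgroup (quadIsoms Q)} (st : Setting Q D p k M)
include st

/-- an element of `M` outside the stabiliser taking one frame vector into the frame moves a class -/
theorem moved_of_not_stab {e : quadIsoms Q} (he : e ∈ M) (hns : ¬ Stab D e) {i : Fin t} {f : V}
    (hf : f ∈ D i) (hQf : Q f ≠ 0) {j : Fin t} (hef : e.1 f ∈ D j) : Moved D M := by
  obtain ⟨l, f', hf', hQ', hmoved⟩ := st.exists_moved hns hf hQf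
  exact ⟨Q f, hQf, e.1 f', st.inK_map hQf he (st.inK_frame hQf hf rfl)
    (st.inK_frame hQf hef (e.2 f)) (st.inK_frame hQf hf' hQ'), hmoved⟩

end Setting

end CfsgLib.MaxSub.ORefl
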