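import Cfsg.Agent.Lib.MaxSub.ORefl.Tools

/-!
Square classes in isometric planes, and pairs of components that can be displaced by vectors of opposite
values.
-/

set_option autoImplicit false
set_option linter.unusedSectionVars false

namespace CfsgLib.MaxSub.ORefl

open CfsgLib.Classical CfsgLib.Geom CfsgLib.Geom.OrthSub CfsgLib.MaxSub
open CfsgLib.MaxSub.OFrame (Stab InW NdOn)
open QuadraticMap (polar)

variable {F V : Type*} [Field F] [AddCommGroup V] [Module F V] {Q : QuadraticForm F V} {t : ℕ}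

theorem isSquare_of_two [Finite F] (h2 : (2 : F) = 0) (a : F) : IsSquare a := by
  classical
  haveI := Fintype.ofFinite F
  haveI : CharP F 2 := CharTwo.of_one_ne_zero_of_two_eq_zero one_ne_zero h2
  exact FiniteField.isSquare_of_char_two (ringChar.eq F 2) a

theorem isSquare_flip {a b : F} (h : IsSquare (a / b)) : IsSquare (b / a) := by
  obtain ⟨r, hr⟩ := h
  exact ⟨r⁻¹, by rw [← mul_inv, ← hr, inv_div]⟩

/-- a pair of reflections whose displacements of `x` have opposite values -/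
def Good (Q : QuadraticForm F V) (D : Fin t → Submodule F V) (x : V) (a b : Fin t) : Prop :=
  ∃ v ∈ D a, ∃ v' ∈ D b, Q v ≠ 0 ∧ Q v' ≠ 0 ∧ polar Q v x ≠ 0 ∧
    polar Q v x ^ 2 / Q v + polar Q v' x ^ 2 / Q v' = 0

theorem Good.symm {D : Fin t → Submodule F V} {x : V} {a b : Fin t} (h : Good Q D x a b) : Good Q D x b a := by
  obtain ⟨v, hv, v', hv', hQv, hQv', hvx, h0⟩ := h
  refine ⟨v', hv', v, hv, hQv', hQv, fun h' => ?_, by rw [add_comm]; exact h0⟩
  rw [h', zero_pow two_ne_zero, zero_div, add_zero, div_eq_zero_iff] at h0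
  exact h0.elim (pow_ne_zero 2 hvx) hQv

namespace Setting

variable [FiniteDimensional F V] [Finite F] {D : Fin t → Submodule F V} {p : Fin t → V →ₗ[F] V} {k : ℕ}
  {M : Subgroup (quadIsoms Q)} (st : Setting Q D p k M)
include st

/-- isometric planes have the same discriminant class -/
theorem disc_eq (hk : k = 2) {a b : Fin t} {v u v' w : V} (hv : v ∈ D a) (hu : u ∈ D a) (hv' : v' ∈ D b)
    (hw : w ∈ D b) (hQv : Q v ≠ 0) (hQu : Q u ≠ 0) (hQv' : Q v' ≠ 0) (hQw : Q w ≠ 0)
    (hvu : polar Q v u = 0) (hvw : polar Q v' w = 0) : IsSquare ((Q v * Q u) / (Q v' * Q w)) := by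
  by_cases h2 : (2 : F) = 0
  · exact isSquare_of_two h2 _
  obtain ⟨e, he⟩ := st.iso a b
  have hspan : ∀ z ∈ D b, z = (polar Q v' z / (2 * Q v')) • v' + (polar Q w z / (2 * Q w)) • w := by
    intro z hz
    have hli : LinearIndependent F ![v', w] := by
      refine LinearIndependent.pair_iff.2 fun r s hrs => ?_
      have h1 := congrArg (polar Q v') hrs
      have h3 := congrArg (polar Q w) hrs
      rw [QuadraticMap.polar_add_right, QuadraticMap.polar_smul_right, QuadraticMap.polar_smul_right,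
        polar_self_two, hvw, QuadraticMap.polar_zero_right] at h1
      rw [QuadraticMap.polar_add_right, QuadraticMap.polar_smul_right, QuadraticMap.polar_smul_right,
        polar_self_two, QuadraticMap.polar_comm _ w v', hvw, QuadraticMap.polar_zero_right] at h3
      simp only [smul_eq_mul, mul_zero, add_zero, zero_add, mul_eq_zero] at h1 h3
      exact ⟨h1.resolve_right (by simp [h2, hQv']), h3.resolve_right (by simp [h2, hQw])⟩
    have hle : Submodule.span F (Set.range ![v', w]) ≤ D b := by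
      rw [Submodule.span_le]
      rintro y ⟨m, rfl⟩
      fin_cases m
      · exact hv'
      · exact hw
    rw [← Submodule.eq_of_le_of_finrank_le hle (by rw [finrank_span_eq_card hli, st.dim, hk]; simp)] at hz
    induction hz using Submodule.span_induction with
    | mem y hy =>
      obtain ⟨m, rfl⟩ := hy
      fin_cases m
      · show v' = _ • v' + _ • w
        simp only [Fin.zero_eta, Matrix.cons_val_zero, Matrix.cons_val, Fin.isValue]
        rw [polar_self_two, QuadraticMap.polar_comm _ w v', hvw, zero_div, zero_smul, add_zero,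
          div_self (mul_ne_zero h2 hQv'), one_smul]
      · show w = _ • v' + _ • w
        simp only [Fin.mk_one, Matrix.cons_val_one, Matrix.cons_val, Fin.isValue]
        rw [polar_self_two, hvw, zero_div, zero_smul, zero_add, div_self (mul_ne_zero h2 hQw), one_smul]
    | zero => simp
    | add y y' _ _ hy hy' =>
      rw [QuadraticMap.polar_add_right, QuadraticMap.polar_add_right]
      conv_lhs => rw [hy, hy']
      module
    | smul r y _ hy =>
      rw [QuadraticMap.polar_smul_right, QuadraticMap.polar_smul_right, smul_eq_mul, smul_eq_mul]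
      conv_lhs => rw [hy]
      module
  obtain ⟨a₁, b₁, h1⟩ : ∃ a₁ b₁ : F, ((e ⟨v, hv⟩ : D b) : V) = a₁ • v' + b₁ • w :=
    ⟨_, _, hspan _ (Subtype.coe_prop _)⟩
  obtain ⟨a₂, b₂, h3⟩ : ∃ a₂ b₂ : F, ((e ⟨u, hu⟩ : D b) : V) = a₂ • v' + b₂ • w :=
    ⟨_, _, hspan _ (Subtype.coe_prop _)⟩
  have e1 : Q (a₁ • v' + b₁ • w) = Q v := by rw [← h1]; exact he _
  have e2 : Q (a₂ • v' + b₂ • w) = Q u := by rw [← h3]; exact he _
  have e3 : Q (a₁ • v' + b₁ • w + (a₂ • v' + b₂ • w)) = Q (v + u) := by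
    rw [← h1, ← h3, ← Submodule.coe_add, ← map_add]; exact he _
  rw [QuadraticMap.map_add (Q : QuadraticMap F V F) (a₁ • v' + b₁ • w), e1, e2,
    QuadraticMap.map_add (Q : QuadraticMap F V F) v u, hvu] at e3
  have e4 : polar Q (a₁ • v' + b₁ • w) (a₂ • v' + b₂ • w) = 0 := by linear_combination e3
  rw [QuadraticMap.polar_add_left, QuadraticMap.polar_add_right, QuadraticMap.polar_add_right] at e4
  simp only [QuadraticMap.polar_smul_left, QuadraticMap.polar_smul_right, polar_self_two,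
    QuadraticMap.polar_comm _ w v', hvw, smul_eq_mul, mul_zero, add_zero, zero_add] at e4
  have q1 : ∀ r s : F, Q (r • v' + s • w) = r * r * Q v' + s * s * Q w := fun r s => by
    rw [quad_map_add_smul, quad_smul, QuadraticMap.polar_smul_left, hvw, smul_zero, mul_zero, add_zero]
  rw [q1] at e1 e2
  have e5 : a₁ * a₂ * Q v' + b₁ * b₂ * Q w = 0 := by
    refine (mul_eq_zero.1 (?_ : (2 : F) * (a₁ * a₂ * Q v' + b₁ * b₂ * Q w) = 0)).resolve_left h2
    linear_combination e4
  refine ⟨a₁ * b₂ - a₂ * b₁, ?_⟩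
  rw [div_eq_iff (mul_ne_zero hQv' hQw), ← e1, ← e2]
  linear_combination (a₁ * a₂ * Q v' + b₁ * b₂ * Q w) * e5

/-- two orthogonal lines in different square classes leave both classes orthogonal to them -/
theorem free_of_classes (hk : k = 2) {a b : Fin t} {v v' : V} (hv : v ∈ D a) (hv' : v' ∈ D b) (hQv : Q v ≠ 0)
    (hQv' : Q v' ≠ 0) (hcls : ¬ IsSquare (Q v / Q v')) (r : F) (hr : r ≠ 0) :
    (∃ u ∈ D a, Q u ≠ 0 ∧ polar Q v u = 0 ∧ IsSquare (Q u / r)) ∨
      ∃ u ∈ D b, Q u ≠ 0 ∧ polar Q v' u = 0 ∧ IsSquare (Q u / r) := by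
  obtain ⟨u, hu, hQu, hvu⟩ := st.perp_aniso hk hv (Or.inr hQv)
  obtain ⟨w, hw, hQw, hvw⟩ := st.perp_aniso hk hv' (Or.inr hQv')
  rcases two_of_three hQu hr hQw with h | h | h
  · exact Or.inl ⟨u, hu, hQu, hvu, h⟩
  · exact Or.inr ⟨w, hw, hQw, hvw, isSquare_flip h⟩
  · refine absurd ?_ hcls
    have h' := IsSquare.mul (st.disc_eq hk hv hu hv' hw hQv hQu hQv' hQw hvu hvw) (isSquare_flip h)
    rwa [show Q v * Q u / (Q v' * Q w) * (Q w / Q u) = Q v / Q v' by field_simp] at h'

/-- when two square classes occur, every piece has both -/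
theorem class_in_piece {a b : Fin t} {v v' : V} (hv : v ∈ D a) (hv' : v' ∈ D b) (hQv : Q v ≠ 0)
    (hQv' : Q v' ≠ 0) (hcls : ¬ IsSquare (Q v / Q v')) (m : Fin t) (r : F) (hr : r ≠ 0) :
    ∃ u ∈ D m, Q u ≠ 0 ∧ IsSquare (Q u / r) := by
  rcases two_of_three hQv hr hQv' with h | h | h
  · obtain ⟨u, hu, hQ⟩ := st.value_exists hv m
    exact ⟨u, hu, hQ ▸ hQv, hQ ▸ h⟩
  · obtain ⟨u, hu, hQ⟩ := st.value_exists hv' m
    exact ⟨u, hu, hQ ▸ hQv', hQ ▸ isSquare_flip h⟩
  · exact absurd h hcls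

/-- the displacement values at one component -/
theorem exists_values (hk : k = 2) (x : V) {a : Fin t} (hQa : Q (p a x) ≠ 0) :
    ∃ A : Finset F, (0 : F) ∉ A ∧ (∀ α ∈ A, ∃ v ∈ D a, Q v ≠ 0 ∧ polar Q v x ≠ 0 ∧ polar Q v x ^ 2 / Q v = α) ∧
      Nat.card F ≤ 2 * A.card + 2 ∧ ((∀ z ∈ D a, Q z = 0 → z = 0) → Nat.card F ≤ 2 * A.card) := by
  classical
  obtain ⟨R, hRc, hRa, hRv⟩ := exists_ratios (st.nd a) (st.dim_two a) (st.mem a x) hQa
  obtain ⟨A, hA⟩ : ∃ A : Finset F, A = (R.image fun r => Q (p a x) * r).erase 0 := ⟨_, rfl⟩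
  have hcard : R.card ≤ A.card + 1 := by
    rw [hA]
    have := Finset.pred_card_le_card_erase (a := (0 : F)) (s := R.image fun r => Q (p a x) * r)
    rw [Finset.card_image_of_injective _ (mul_right_injective₀ hQa)] at this
    omega
  refine ⟨A, by rw [hA]; exact Finset.notMem_erase 0 _, fun α hα => ?_, by omega, fun h => ?_⟩
  · rw [hA, Finset.mem_erase, Finset.mem_image] at hα
    obtain ⟨h0, r, hr, rfl⟩ := hα
    obtain ⟨v, hv, hQv, rfl⟩ := hRv r hr
    have e : polar Q v (p a x) = polar Q v x := by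
      rw [QuadraticMap.polar_comm, st.polar_p x hv, QuadraticMap.polar_comm]
    rw [e] at h0 ⊢
    refine ⟨v, hv, hQv, fun h => h0 ?_, ?_⟩
    · rw [h, zero_pow two_ne_zero, zero_div, mul_zero]
    · field_simp
  · have := hRa h
    omega

/-- an explicit displacement at a component of a plane with singular vectors -/
theorem exists_displacement (hk : k = 2) (x : V) {a : Fin t} {δ : V} (hδ : δ ∈ D a) (hδ0 : δ ≠ 0)
    (hQδ : Q δ = 0) (hQa : Q (p a x) ≠ 0) {s : F} (hs0 : s ≠ 0) (hs1 : s ≠ 1) :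
    ∃ v ∈ D a, Q v ≠ 0 ∧ polar Q v x ≠ 0 ∧ polar Q v x ^ 2 / Q v = -(Q (p a x) * (s - 1) ^ 2 / s) := by
  obtain ⟨δ', hδ', hQδ', hp⟩ := st.exists_opposite hδ hδ0 hQδ
  obtain ⟨α, hα⟩ : ∃ α, α = polar Q δ' x := ⟨_, rfl⟩
  obtain ⟨β, hβ⟩ : ∃ β, β = polar Q δ x := ⟨_, rfl⟩
  have hli : LinearIndependent F ![δ, δ'] := by
    refine LinearIndependent.pair_iff.2 fun r q hrq => ?_
    have h1 := congrArg (polar Q δ) hrq
    have h3 := congrArg (polar Q δ') hrq
    rw [QuadraticMap.polar_add_right, QuadraticMap.polar_smul_right, QuadraticMap.polar_smul_right,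
      polar_self_two, hQδ, hp, QuadraticMap.polar_zero_right] at h1
    rw [QuadraticMap.polar_add_right, QuadraticMap.polar_smul_right, QuadraticMap.polar_smul_right,
      polar_self_two, hQδ', QuadraticMap.polar_comm _ δ' δ, hp, QuadraticMap.polar_zero_right] at h3
    exact ⟨by simpa using h3, by simpa using h1⟩
  have hle : Submodule.span F (Set.range ![δ, δ']) ≤ D a := by
    rw [Submodule.span_le]
    rintro y ⟨m, rfl⟩
    fin_cases m
    · exact hδ
    · exact hδ'
  have hspan := Submodule.eq_of_le_of_finrank_le hle (by rw [finrank_span_eq_card hli, st.dim, hk]; simp)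
  have hxe : p a x = α • δ + β • δ' := by
    refine sub_eq_zero.1 (st.nd a _ (sub_mem (st.mem a x)
      (add_mem ((D a).smul_mem _ hδ) ((D a).smul_mem _ hδ'))) fun y hy => ?_)
    rw [← hspan] at hy
    induction hy using Submodule.span_induction with
    | mem y hy =>
      obtain ⟨m, rfl⟩ := hy
      fin_cases m
      · show polar Q (p a x - (α • δ + β • δ')) δ = 0
        rw [QuadraticMap.polar_sub_left, st.polar_p x hδ, QuadraticMap.polar_add_left,
          QuadraticMap.polar_smul_left, QuadraticMap.polar_smul_left, polar_self_two, hQδ,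
          QuadraticMap.polar_comm _ δ' δ, hp, QuadraticMap.polar_comm _ x δ, ← hβ]
        simp
      · show polar Q (p a x - (α • δ + β • δ')) δ' = 0
        rw [QuadraticMap.polar_sub_left, st.polar_p x hδ', QuadraticMap.polar_add_left,
          QuadraticMap.polar_smul_left, QuadraticMap.polar_smul_left, polar_self_two, hQδ', hp,
          QuadraticMap.polar_comm _ x δ', ← hα]
        simp
    | zero => exact QuadraticMap.polar_zero_right Q _
    | add y y' _ _ hy hy' => rw [QuadraticMap.polar_add_right, hy, hy', add_zero]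
    | smul r y _ hy => rw [QuadraticMap.polar_smul_right, hy, smul_zero]
  have hQ : Q (p a x) = α * β := by
    rw [hxe, quad_map_add_smul, quad_smul, hQδ, hQδ', QuadraticMap.polar_smul_left, hp, smul_eq_mul]; ring
  rw [hQ] at hQa ⊢
  obtain ⟨hα0, hβ0⟩ := mul_ne_zero_iff.1 hQa
  obtain ⟨μ, hμ⟩ : ∃ μ, μ = -(s * β / α) := ⟨_, rfl⟩
  have hμ0 : μ ≠ 0 := hμ ▸ neg_ne_zero.2 (div_ne_zero (mul_ne_zero hs0 hβ0) hα0)
  have hQv : Q (δ + μ • δ') = μ := by rw [quad_map_add_smul, hQδ, hQδ', hp]; ring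
  have hvx : polar Q (δ + μ • δ') x = β * (1 - s) := by
    rw [QuadraticMap.polar_add_left, QuadraticMap.polar_smul_left, ← hα, ← hβ, smul_eq_mul, hμ]
    field_simp; ring
  refine ⟨δ + μ • δ', add_mem hδ ((D a).smul_mem _ hδ'), hQv.symm ▸ hμ0,
    hvx.symm ▸ mul_ne_zero hβ0 (sub_ne_zero.2 (Ne.symm hs1)), ?_⟩
  rw [hvx, hQv, hμ]
  field_simp
  ring

/-- two of any three anisotropic components form a good pair -/
theorem good_three (hk : k = 2) (x : V) {a b e : Fin t} (ha : Q (p a x) ≠ 0) (hb : Q (p b x) ≠ 0)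
    (he : Q (p e x) ≠ 0) : Good Q D x a b ∨ Good Q D x a e ∨ Good Q D x b e := by
  classical
  haveI := Fintype.ofFinite F
  by_contra hno
  push Not at hno
  obtain ⟨hab, hae, hbe⟩ := hno
  obtain ⟨A, hA0, hAv, hAc, hAa⟩ := st.exists_values hk x ha
  obtain ⟨B, hB0, hBv, hBc, hBa⟩ := st.exists_values hk x hb
  obtain ⟨C, hC0, hCv, hCc, -⟩ := st.exists_values hk x he
  obtain ⟨S, hS⟩ : ∃ S : Finset F, S = Finset.univ.erase 0 := ⟨_, rfl⟩
  have hSc : S.card + 1 = Nat.card F := by
    rw [hS, Finset.card_erase_of_mem (Finset.mem_univ _), Finset.card_univ, Nat.card_eq_fintype_card]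
    have : 0 < Fintype.card F := Fintype.card_pos
    omega
  have dis : ∀ {a b : Fin t} {A B : Finset F}, ¬ Good Q D x a b →
      (∀ α ∈ A, ∃ v ∈ D a, Q v ≠ 0 ∧ polar Q v x ≠ 0 ∧ polar Q v x ^ 2 / Q v = α) →
      (∀ α ∈ B, ∃ v ∈ D b, Q v ≠ 0 ∧ polar Q v x ≠ 0 ∧ polar Q v x ^ 2 / Q v = α) →
      Disjoint A (B.image Neg.neg) := fun {a b A B} hn h1 h2 => Finset.disjoint_left.2 fun α hα hα' => by
    obtain ⟨β, hβ, rfl⟩ := Finset.mem_image.1 hα'
    obtain ⟨v, hv, hQv, hvx, e1⟩ := h1 _ hα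
    obtain ⟨v', hv', hQv', -, e2⟩ := h2 _ hβ
    exact hn ⟨v, hv, v', hv', hQv, hQv', hvx, by rw [e1, e2]; ring⟩
  have sub : ∀ {A : Finset F}, (0 : F) ∉ A → A ⊆ S := fun {A} h α hα => by
    rw [hS, Finset.mem_erase]; exact ⟨fun e => h (e ▸ hα), Finset.mem_univ _⟩
  have negsub : ∀ {A : Finset F}, (0 : F) ∉ A → A.image Neg.neg ⊆ S := fun {A} h => sub fun hh => by
    obtain ⟨β, hβ, e⟩ := Finset.mem_image.1 hh
    exact h (neg_eq_zero.1 e ▸ hβ)
  have negc : ∀ A : Finset F, (A.image Neg.neg).card = A.card :=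
    fun A => Finset.card_image_of_injective _ neg_injective
  have dAB := dis hab hAv hBv
  have h1 := Finset.card_le_card (Finset.union_subset (sub hA0) (negsub hB0))
  rw [Finset.card_union_of_disjoint dAB, negc] at h1
  by_cases han : ∀ i, ∀ z ∈ D i, Q z = 0 → z = 0
  · have := hAa (han a)
    have := hBa (han b)
    omega
  push Not at han
  obtain ⟨i, z, hz, hQz, hz0⟩ := han
  have hq := st.seven_le hk hz hz0 hQz
  by_cases h2 : (2 : F) = 0
  · have hneg : ∀ A : Finset F, A.image Neg.neg = A := fun A => by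
      conv_rhs => rw [← Finset.image_id (s := A)]
      refine Finset.image_congr fun α _ => ?_
      show -α = α
      linear_combination -α * h2
    have dAC := dis hae hAv hCv
    have dBC := dis hbe hBv hCv
    rw [hneg] at dAB dAC dBC
    have h3 := Finset.card_le_card (Finset.union_subset (Finset.union_subset (sub hA0) (sub hB0)) (sub hC0))
    rw [Finset.card_union_of_disjoint (Finset.disjoint_union_left.2 ⟨dAC, dBC⟩),
      Finset.card_union_of_disjoint dAB] at h3
    omega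
  · have hodd : Nat.card F % 2 = 1 := by
      rw [Nat.card_eq_fintype_card]
      refine FiniteField.odd_card_of_char_ne_two fun h => h2 ?_
      haveI := ringChar.of_eq h
      exact CharTwo.two_eq_zero
    have compl : ∀ {B : Finset F}, (0 : F) ∉ B → Nat.card F ≤ 2 * B.card + 2 → Disjoint A (B.image Neg.neg) →
        B.image Neg.neg = S \ A := fun {B} hB hBc hd => by
      refine Finset.eq_of_subset_of_card_le (Finset.subset_sdiff.2 ⟨negsub hB, hd.symm⟩) ?_
      rw [Finset.card_sdiff_of_subset (sub hA0), negc]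
      omega
    have hBC : B = C := Finset.image_injective neg_injective
      ((compl hB0 hBc dAB).trans (compl hC0 hCc (dis hae hAv hCv)).symm)
    have hBnd : S \ B ⊆ B.image Neg.neg := by
      refine ((Finset.eq_of_subset_of_card_le (Finset.subset_sdiff.2 ⟨negsub hB0, ?_⟩) ?_).symm).subset
      · rw [hBC]
        exact (dis hbe hBv hCv).symm.mono_right (hBC ▸ subset_rfl)
      · rw [Finset.card_sdiff_of_subset (sub hB0), negc]
        omega
    -- an explicit displacement value whose negative is one as well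
    obtain ⟨e', he', he'0⟩ : ∃ e' ∈ D b, e' ≠ 0 ∧ Q e' = 0 := by
      obtain ⟨φ, hφ⟩ := st.iso i b
      exact ⟨(φ ⟨z, hz⟩ : D b), Subtype.coe_prop _, fun h => hz0 (congrArg Subtype.val
        (φ.injective (a₁ := ⟨z, hz⟩) (a₂ := 0) (Subtype.ext (by rw [h, map_zero]; rfl)))), (hφ _).trans hQz⟩
    obtain ⟨T, hT⟩ : ∃ T : Finset F, T = {0, 1, -1} := ⟨_, rfl⟩
    obtain ⟨R, hR⟩ : ∃ R : Finset F, R = Finset.univ.filter (fun m : F => 1 + m * m = 0) := ⟨_, rfl⟩
    have hRc : R.card ≤ 2 := quadratic_roots 1 0 1 one_ne_zero R fun m hm => by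
      rw [hR] at hm
      linear_combination (Finset.mem_filter.1 hm).2
    have hTc : T.card ≤ 3 := hT ▸ Finset.card_le_three
    obtain ⟨m, -, hm⟩ := Finset.exists_mem_notMem_of_card_lt_card (s := T ∪ R) (t := Finset.univ)
      (lt_of_le_of_lt (Finset.card_union_le _ _) (by rw [Finset.card_univ, ← Nat.card_eq_fintype_card]; omega))
    rw [hT, hR] at hm
    simp only [Finset.mem_union, Finset.mem_insert, Finset.mem_singleton, Finset.mem_filter,
      Finset.mem_univ, true_and, not_or] at hm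
    obtain ⟨⟨hm0, hm1, hm2⟩, hm3⟩ := hm
    have d1 : m - 1 ≠ 0 := sub_ne_zero.2 hm1
    have d2 : m + 1 ≠ 0 := fun h => hm2 (eq_neg_of_add_eq_zero_left h)
    have hs0 : m * (m + 1) / (m - 1) ≠ 0 := div_ne_zero (mul_ne_zero hm0 d2) d1
    have hr0 : -(m * (m - 1) / (m + 1)) ≠ 0 := neg_ne_zero.2 (div_ne_zero (mul_ne_zero hm0 d1) d2)
    have hs1 : m * (m + 1) / (m - 1) ≠ 1 := fun h => hm3 (by
      rw [div_eq_one_iff_eq d1] at h; linear_combination h)
    have hr1 : -(m * (m - 1) / (m + 1)) ≠ 1 := fun h => hm3 (by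
      rw [neg_eq_iff_eq_neg, div_eq_iff d2] at h; linear_combination h)
    obtain ⟨v, hv, hQv, hvx, hval⟩ := st.exists_displacement hk x he' he'0.1 he'0.2 hb hs0 hs1
    obtain ⟨v₂, hv₂, hQv₂, hv₂x, hval₂⟩ := st.exists_displacement hk x he' he'0.1 he'0.2 hb hr0 hr1
    have hneg : polar Q v x ^ 2 / Q v + polar Q v₂ x ^ 2 / Q v₂ = 0 := by
      rw [hval, hval₂]
      field_simp
      ring
    have hne : ∀ {v : V}, Q v ≠ 0 → polar Q v x ≠ 0 → polar Q v x ^ 2 / Q v ∈ S := fun {v} h1 h2 => by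
      rw [hS, Finset.mem_erase]
      exact ⟨div_ne_zero (pow_ne_zero 2 h2) h1, Finset.mem_univ _⟩
    -- such a value lies in `B` or in `-B`, so it gives a good pair
    have hcase : ∀ {v v₂ : V}, v ∈ D b → Q v ≠ 0 → polar Q v x ≠ 0 → v₂ ∈ D b → Q v₂ ≠ 0 →
        polar Q v x ^ 2 / Q v + polar Q v₂ x ^ 2 / Q v₂ = 0 → polar Q v x ^ 2 / Q v ∈ B → Good Q D x b e := by
      intro v v₂ hv hQv hvx hv₂ hQv₂ hsum hmem
      obtain ⟨v', hv', hQv', hv'x, e1⟩ := hCv _ (hBC ▸ hmem)
      exact Good.symm ⟨v', hv', v₂, hv₂, hQv', hQv₂, hv'x, by rw [e1]; exact hsum⟩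
    by_cases hmem : polar Q v x ^ 2 / Q v ∈ B
    · exact hbe (hcase hv hQv hvx hv₂ hQv₂ hneg hmem)
    · refine hbe (hcase hv₂ hQv₂ hv₂x hv hQv (by rw [add_comm]; exact hneg) ?_)
      have h := hBnd (Finset.mem_sdiff.2 ⟨hne hQv hvx, hmem⟩)
      obtain ⟨β, hβ, e1⟩ := Finset.mem_image.1 h
      have : polar Q v₂ x ^ 2 / Q v₂ = β := by linear_combination hneg + e1
      rw [this]; exact hβ

/-- a vector of a prescribed value in a plane, neither proportional nor orthogonal to another -/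
theorem exists_mixed_value (hk : k = 2) {j : Fin t} {w₀ x : V} (hw₀ : w₀ ∈ D j) (hx : x ∈ D j)
    (hQw : Q w₀ ≠ 0) (hQx : Q x ≠ 0) :
    ∃ w ∈ D j, Q w = Q w₀ ∧ polar Q w x ≠ 0 ∧ ∀ r : F, w ≠ r • x := by
  by_contra hno
  push Not at hno
  have hx0 : x ≠ 0 := fun h => hQx (by rw [h]; exact map_zero Q)
  by_cases h2 : (2 : F) = 0
  · refine hx0 (st.nd j x hx fun y hy => ?_)
    have h := st.value_span hw₀ hQw y hy
    clear hy
    induction h using Submodule.span_induction with
    | mem v hv =>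
      by_contra hvx
      obtain ⟨r, hr⟩ := hno v hv.1 hv.2 (by rwa [QuadraticMap.polar_comm])
      exact hvx (by rw [hr, QuadraticMap.polar_smul_right, polar_self_two, h2, zero_mul, smul_zero])
    | zero => exact QuadraticMap.polar_zero_right Q x
    | add a b _ _ ha hb => rw [QuadraticMap.polar_add_right, ha, hb, add_zero]
    | smul r a _ ha => rw [QuadraticMap.polar_smul_right, ha, smul_zero]
  obtain ⟨f, hf, hQf, hfx⟩ : ∃ f ∈ D j, Q f = Q w₀ ∧ polar Q f x ≠ 0 := by
    by_contra hh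
    push Not at hh
    refine hx0 (st.nd j x hx fun y hy => ?_)
    have h := st.value_span hw₀ hQw y hy
    clear hy
    induction h using Submodule.span_induction with
    | mem v hv => rw [QuadraticMap.polar_comm]; exact hh v hv.1 hv.2
    | zero => exact QuadraticMap.polar_zero_right Q x
    | add a b _ _ ha hb => rw [QuadraticMap.polar_add_right, ha, hb, add_zero]
    | smul r a _ ha => rw [QuadraticMap.polar_smul_right, ha, smul_zero]
  obtain ⟨r, hr⟩ := hno f hf hQf hfx
  obtain ⟨b, hb, hQb, hbn⟩ : ∃ b ∈ D j, Q b = Q w₀ ∧ ∀ s : F, b ≠ s • x := by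
    by_contra hh
    push Not at hh
    have hle : D j ≤ Submodule.span F {x} := fun y hy => by
      refine (Submodule.span_le.2 ?_) (st.value_span hw₀ hQw y hy)
      rintro v ⟨hv, hQv⟩
      obtain ⟨s, rfl⟩ := hh v hv hQv
      exact Submodule.smul_mem _ s (Submodule.mem_span_singleton_self x)
    have h := Submodule.finrank_mono hle
    rw [st.dim, hk, finrank_span_singleton hx0] at h
    omega
  have hbx : polar Q b x = 0 := by
    by_contra hh
    obtain ⟨s, hs⟩ := hno b hb hQb hh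
    exact hbn s hs
  have hr0 : r ≠ 0 := fun h => by rw [hr, h, zero_smul, QuadraticMap.polar_zero_left] at hfx; exact hfx rfl
  have hfb : polar Q f b = 0 := by
    rw [hr, QuadraticMap.polar_smul_left, QuadraticMap.polar_comm, hbx, smul_zero]
  have hbf : ∀ s : F, b ≠ s • f := fun s hs => hbn (s * r) (by rw [hs, hr, smul_smul])
  obtain ⟨y, hy, hQy, hyp, hyo⟩ := st.exists_mixed hk h2 hf hb (hQf.symm ▸ hQw) (hQb.trans hQf.symm) hfb hbf
  have hyx : polar Q y x ≠ 0 := fun h => hyo (by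
    rw [hr, QuadraticMap.polar_smul_left, QuadraticMap.polar_comm, h, smul_zero])
  obtain ⟨s, hs⟩ := hno y hy (hQy.trans hQf) hyx
  exact hyp (s / r) (by rw [hs, hr, smul_smul, div_mul_cancel₀ s hr0])

end Setting

end CfsgLib.MaxSub.ORefl
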