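import Cfsg.Agent.Lib.MaxSub.ORefl.Boot
import Cfsg.Agent.Lib.MaxSub.OFrameCoord

/-!
Maximality in `Ω` of the stabiliser of an orthogonal decomposition into isometric pieces: planes in any
characteristic, and pieces of dimension at least four in characteristic two.
-/

set_option autoImplicit false
set_option linter.unusedSectionVars false

namespace CfsgLib.MaxSub.ORefl

open Cfsg.Geo CfsgLib.Classical CfsgLib.Geom CfsgLib.Geom.OrthSub CfsgLib.MaxSub
open CfsgLib.MaxSub.OFrame (Stab NdOn mem_stab_of_stab stab_of_mem_stab)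
open QuadraticMap (polar)

variable {F V : Type*} [Field F] [AddCommGroup V] [Module F V] {Q : QuadraticForm F V} {t : ℕ}

namespace Setting

variable [FiniteDimensional F V] [Finite F] {D : Fin t → Submodule F V} {p : Fin t → V →ₗ[F] V} {k : ℕ}
  {M : Subgroup (quadIsoms Q)} (st : Setting Q D p k M)
include st

/-- a singular vector with two non-zero components -/
theorem exists_singular_pair {b e : Fin t} (hbe : b ≠ e) :
    ∃ n, Q n = 0 ∧ n ∈ D b ⊔ D e ∧ p b n ≠ 0 ∧ p e n ≠ 0 := by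
  obtain ⟨n₀, hn₀, hn₀0, hQn₀⟩ := exists_singular_in (Q := Q) (W := D b ⊔ D e)
    (by rw [st.sup_finrank hbe]; have := st.kge; omega)
  by_cases h : p b n₀ ≠ 0 ∧ p e n₀ ≠ 0
  · exact ⟨n₀, hQn₀, hn₀, h.1, h.2⟩
  obtain ⟨m, u, hu, hu0, hQu⟩ : ∃ m : Fin t, ∃ u ∈ D m, u ≠ 0 ∧ Q u = 0 := by
    obtain ⟨y, hy, z, hz, rfl⟩ := Submodule.mem_sup.1 hn₀
    rw [map_add, map_add, st.p_self hy, st.p_self hz, st.p_other hbe hz, st.p_other (Ne.symm hbe) hy,
      add_zero, zero_add, not_and_or, not_not, not_not] at h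
    rcases h with rfl | rfl
    · exact ⟨e, z, hz, by simpa using hn₀0, by simpa using hQn₀⟩
    · exact ⟨b, y, hy, by simpa using hn₀0, by simpa using hQn₀⟩
  have img : ∀ i, ∃ v ∈ D i, v ≠ 0 ∧ Q v = 0 := fun i => by
    obtain ⟨φ, hφ⟩ := st.iso m i
    exact ⟨(φ ⟨u, hu⟩ : D i), Subtype.coe_prop _, fun h => hu0 (congrArg Subtype.val
      (φ.injective (a₁ := ⟨u, hu⟩) (a₂ := 0) (Subtype.ext (by rw [h, map_zero]; rfl)))), (hφ _).trans hQu⟩
  obtain ⟨y, hy, hy0, hQy⟩ := img b
  obtain ⟨z, hz, hz0, hQz⟩ := img e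
  refine ⟨y + z, ?_, add_mem (Submodule.mem_sup_left hy) (Submodule.mem_sup_right hz), ?_, ?_⟩
  · rw [QuadraticMap.map_add (Q : QuadraticMap F V F), hQy, hQz, st.orth b e hbe y hy z hz, add_zero, add_zero]
  · rw [map_add, st.p_self hy, st.p_other hbe hz, add_zero]; exact hy0
  · rw [map_add, st.p_self hz, st.p_other (Ne.symm hbe) hy, zero_add]; exact hz0

/-- the commutator subgroup moves the decomposition -/
theorem exists_not_stab : ∃ g ∈ commutator (quadIsoms Q), ¬ Stab D g := by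
  classical
  rcases st.shape with ⟨hk, ht, -⟩ | ⟨hk, ht, h2, -⟩
  · obtain ⟨a, ha⟩ : ∃ a : Fin t, a = ⟨0, by omega⟩ := ⟨_, rfl⟩
    obtain ⟨b, hb⟩ : ∃ b : Fin t, b = ⟨1, by omega⟩ := ⟨_, rfl⟩
    obtain ⟨e, he⟩ : ∃ e : Fin t, e = ⟨2, by omega⟩ := ⟨_, rfl⟩
    have hab : a ≠ b := by rw [ha, hb]; simp
    have hae : a ≠ e := by rw [ha, he]; simp
    have hbe : b ≠ e := by rw [hb, he]; simp
    obtain ⟨f, hf, hQf⟩ := st.exists_aniso a
    obtain ⟨n, hQn, hn, hnb, hne⟩ := st.exists_singular_pair hbe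
    have hfn : polar Q f n = 0 := by
      rw [QuadraticMap.polar_comm, ← st.polar_p n hf, st.p_sup hab hae hn, QuadraticMap.polar_zero_left]
    have hQfn : Q (f + n) = Q f := by
      rw [QuadraticMap.map_add (Q : QuadraticMap F V F), hQn, hfn, add_zero, add_zero]
    have hpb : p b (f + n) = p b n := by rw [map_add, st.p_other (Ne.symm hab) hf, zero_add]
    have hpe : p e (f + n) = p e n := by rw [map_add, st.p_other (Ne.symm hae) hf, zero_add]
    refine ⟨rs Q (f + n) * rs Q f, rs_pair_mem_commutator st.sep (hQfn.symm ▸ hQf) hQfn, fun hs => ?_⟩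
    rcases st.pair_stab hQf hQfn rfl (fun r hr => hnb (by
      rw [← hpb, hr, map_smul, st.p_other (Ne.symm hab) hf, smul_zero])) hs with h | ⟨-, i, l, hi, hi'⟩
    · refine st.not_three hab hae hbe (st.mem a f) (st.mem b n) (st.mem e n) ?_ hnb hne (h a).2 ?_ ?_
      · rw [st.p_self hf]; exact fun h0 => hQf (by rw [h0]; exact map_zero Q)
      · rw [← hpb]; exact (h b).1
      · rw [← hpe]; exact (h e).1
    · have inside : ∀ m, (p m (f + n) ≠ 0 ∨ p m f ≠ 0) → m = i ∨ m = l := fun m h' => by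
        by_contra hcon
        push Not at hcon
        rcases h' with h' | h'
        · exact h' (st.p_sup hcon.1 hcon.2 hi)
        · exact h' (st.p_sup hcon.1 hcon.2 hi')
      rcases inside a (Or.inr (by rw [st.p_self hf]; exact fun h0 => hQf (by rw [h0]; exact map_zero Q)))
          with rfl | rfl <;>
        rcases inside b (Or.inl (by rw [hpb]; exact hnb)) with rfl | rfl <;>
        rcases inside e (Or.inl (by rw [hpe]; exact hne)) with rfl | rfl <;> simp_all
  · obtain ⟨a, ha⟩ : ∃ a : Fin t, a = ⟨0, by omega⟩ := ⟨_, rfl⟩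
    obtain ⟨b, hb⟩ : ∃ b : Fin t, b = ⟨1, by omega⟩ := ⟨_, rfl⟩
    have hab : a ≠ b := by rw [ha, hb]; simp
    obtain ⟨u, hu, hu0, hQu⟩ := exists_singular_in (Q := Q) (W := D a) (by rw [st.dim]; omega)
    obtain ⟨v, hv, hv0, hQv⟩ := exists_singular_in (Q := Q) (W := D b) (by rw [st.dim]; omega)
    obtain ⟨f, hf, hQf, hfu, -⟩ : ∃ f ∈ D a, Q f ≠ 0 ∧ polar Q u f = 0 ∧ True := by
      by_contra hh
      push Not at hh
      obtain ⟨K, hK⟩ : ∃ K : Submodule F V, K = D a ⊓ LinearMap.ker (QuadraticMap.polarBilin Q u) := ⟨_, rfl⟩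
      have hKz : ∀ y ∈ K, Q y = 0 := fun y hy => by
        rw [hK] at hy
        by_contra h0
        exact hh y hy.1 h0 hy.2
      have h1 := isotropic_finrank (st.nd a) (hK ▸ inf_le_left)
        (fun x hx y hy => polar_of_singular (A := K) hKz hx hy)
      have h3 := LinearMap.finrank_range_add_finrank_ker ((QuadraticMap.polarBilin Q u).comp (D a).subtype)
      have h4 := (LinearMap.range ((QuadraticMap.polarBilin Q u).comp (D a).subtype)).finrank_le
      rw [Module.finrank_self] at h4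
      rw [LinearMap.ker_comp, ← Submodule.finrank_map_subtype_eq, Submodule.map_comap_subtype, ← hK, st.dim] at h3
      rw [st.dim] at h1
      omega
    have hfn : polar Q f (u + v) = 0 := by
      rw [QuadraticMap.polar_add_right, QuadraticMap.polar_comm, hfu, st.orth a b hab f hf v hv, add_zero]
    have hQn : Q (u + v) = 0 := by
      rw [QuadraticMap.map_add (Q : QuadraticMap F V F), hQu, hQv, st.orth a b hab u hu v hv, add_zero, add_zero]
    have hQfn : Q (f + (u + v)) = Q f := by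
      rw [QuadraticMap.map_add (Q : QuadraticMap F V F) f, hQn, hfn, add_zero, add_zero]
    have hpb : p b (f + (u + v)) = v := by
      rw [map_add, map_add, st.p_other (Ne.symm hab) hf, st.p_other (Ne.symm hab) hu, st.p_self hv]; abel
    refine ⟨rs Q (f + (u + v)) * rs Q f, rs_pair_mem_commutator st.sep (hQfn.symm ▸ hQf) hQfn, fun hs => ?_⟩
    rcases st.pair_stab hQf hQfn rfl (fun r hr => hv0 (by
      rw [← hpb, hr, map_smul, st.p_other (Ne.symm hab) hf, smul_zero])) hs with h | ⟨h, -⟩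
    · obtain ⟨α, β, hab'⟩ := Submodule.mem_span_pair.1 (h b).1
      rw [hpb] at hab'
      have h1 := congrArg (p a) hab'
      have h3 := congrArg (p b) hab'
      rw [map_add, map_smul, map_smul, map_add, map_add, st.p_self hf, st.p_self hu, st.p_other hab hv,
        add_zero] at h1
      rw [map_add, map_smul, map_smul, hpb, st.p_self hv, st.p_other (Ne.symm hab) hf, smul_zero, add_zero] at h3
      have hα : α = 1 := by
        have h4 : (α - 1) • v = 0 := by rw [sub_smul, one_smul, h3, sub_self]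
        exact sub_eq_zero.1 ((smul_eq_zero.1 h4).resolve_right hv0)
      rw [hα, one_smul] at h1
      have h5 := congrArg (fun y => Q y) (eq_neg_of_add_eq_zero_left
        (show u + (1 + β) • f = 0 by rw [add_smul, one_smul, ← h1]; abel))
      simp only [QuadraticMap.map_neg, quad_smul, hQu] at h5
      rcases mul_eq_zero.1 h5.symm with h6 | h6
      · have h7 : (1 : F) + β = 0 := mul_self_eq_zero.1 h6
        refine hu0 ?_
        rw [eq_neg_of_add_eq_zero_right h7, neg_smul, one_smul] at h1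
        rw [← h1]
        abel
      · exact hQf h6
    · omega

end Setting

variable {ι : Type} [Fintype ι] [DecidableEq ι] {F : Type*} [Field F] [Fintype F]

theorem exists_setting (Q : QuadraticForm F (ι → F)) (hsep : ∀ x, (∀ y, polar Q x y = 0) → x = 0)
    (h5 : 5 ≤ Module.finrank F (ι → F)) {t k : ℕ} {D : Fin t → Submodule F (ι → F)}
    (hD : IsOrthogonalMDecomposition Q k D)
    (hshape : (k = 2 ∧ 5 ≤ t ∧ (7 ≤ Fintype.card F ∨
        (Fintype.card F ≠ 3 ∧ ∀ i, ∀ z ∈ D i, Q z = 0 → z = 0))) ∨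
      (4 ≤ k ∧ (2 : F) = 0 ∧ (5 ≤ k ∨ 4 ≤ Fintype.card F))) : ∃ p : Fin t → (ι → F) →ₗ[F] (ι → F),
      ∀ M : Subgroup (quadIsoms Q), (∀ g ∈ commutator (quadIsoms Q), Stab D g → g ∈ M) → Setting Q D p k M := by
  classical
  obtain ⟨ψ, hψ⟩ := Decomp.exists_coord hD.decomp.decomp
  refine ⟨fun i => ψ.symm.toLinearMap ∘ₗ
    (LinearMap.single F (fun _ : Fin t => Fin k → F) i ∘ₗ LinearMap.proj i) ∘ₗ ψ.toLinearMap,
    fun M hM => ⟨hsep, h5, ?_, hD.decomp.decomp.finrank_eq,
      fun i j hij x hx y hy => hD.decomp.orthogonal i j hij x hx y hy, fun i x hx h => ?_,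
      fun i x => Decomp.single_of_coord ψ hψ i _, fun x => ?_, fun i j => ?_, hM, ?_⟩⟩
  · rcases hshape with ⟨h, -⟩ | ⟨h, -⟩ <;> omega
  · by_contra hne
    obtain ⟨-, y, hy, hxy⟩ := hD.decomp.nondegenerate i x hx hne
    exact hxy (h y hy)
  · show ∑ i, ψ.symm (Pi.single i (ψ x i)) = x
    rw [← map_sum, Finset.univ_sum_single, ψ.symm_apply_apply]
  · exact hD.isometric i j
  · rw [Nat.card_eq_fintype_card]
    rcases hshape with h | ⟨h, h2, h'⟩
    · exact Or.inl h
    · exact Or.inr ⟨h, hD.decomp.decomp.two_le, h2, h'⟩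

/-- The stabiliser of an orthogonal isometric decomposition is maximal in `Ω`: planes (at least five; seven or
more scalars, or no singular vectors and not three scalars), and pieces of dimension at least four in
characteristic two (dimension at least five or four scalars). -/
theorem isMaximalIn_decomposition (Q : QuadraticForm F (ι → F)) {f : (ι → F) → F} (hf : ⇑Q = f)
    (hsep : ∀ x, (∀ y, polar Q x y = 0) → x = 0) (h5 : 5 ≤ Module.finrank F (ι → F)) {t k : ℕ}
    {D : Fin t → Submodule F (ι → F)} (hD : IsOrthogonalMDecomposition f k D)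
    (hshape : (k = 2 ∧ 5 ≤ t ∧ (7 ≤ Fintype.card F ∨
        (Fintype.card F ≠ 3 ∧ ∀ i, ∀ z ∈ D i, f z = 0 → z = 0))) ∨
      (4 ≤ k ∧ (2 : F) = 0 ∧ (5 ≤ k ∨ 4 ≤ Fintype.card F))) :
    Cfsg.Geo.IsMaximalIn (omegaGL f) (decompositionStabilizer D ⊓ omegaGL f) := by
  subst hf
  obtain ⟨p, hp⟩ := exists_setting Q hsep h5 hD hshape
  refine omega_isMaximalIn_of Q rfl (decompositionStabilizer D) ?_ fun M hM g hg _ hgH =>
    (hp M fun h hh hs => hM h hh (mem_stab_of_stab hD.decomp.decomp hs)).dichotomy hg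
      fun hs => hgH (mem_stab_of_stab hD.decomp.decomp hs)
  obtain ⟨g, hg, hns⟩ := (hp ⊤ fun _ _ _ => trivial).exists_not_stab
  exact ⟨g, hg, fun hH => hns (stab_of_mem_stab hH)⟩

end CfsgLib.MaxSub.ORefl
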