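import Cfsg.Agent.Lib.MaxSub.ORefl.Tools

/-!
An element outside the stabiliser gives either a class vector outside the pieces or a linked singular vector.
-/

set_option autoImplicit false
set_option linter.unusedSectionVars false

namespace CfsgLib.MaxSub.ORefl

open CfsgLib.Classical CfsgLib.Geom CfsgLib.Geom.OrthSub CfsgLib.MaxSub
open CfsgLib.MaxSub.OFrame (Stab InW NdOn)
open QuadraticMap (polar)

variable {F V : Type*} [Field F] [AddCommGroup V] [Module F V] {Q : QuadraticForm F V} {t : ℕ}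

namespace Setting

variable [FiniteDimensional F V] [Finite F] {D : Fin t → Submodule F V} {p : Fin t → V →ₗ[F] V} {k : ℕ}
  {M : Subgroup (quadIsoms Q)} (st : Setting Q D p k M)
include st

/-- planes: a pair with large support and proportional components at one piece -/
theorem pair_entry (hk : k = 2) {a b : V} {c : F} (hc : c ≠ 0) (hQa : Q a = c) (hQb : Q b = c)
    (hM : rs Q a * rs Q b ∈ M) (hab : ∀ r : F, a ≠ r • b)
    (h3 : ∃ i j l, i ≠ j ∧ i ≠ l ∧ j ≠ l ∧ (p i a ≠ 0 ∨ p i b ≠ 0) ∧ (p j a ≠ 0 ∨ p j b ≠ 0) ∧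
      (p l a ≠ 0 ∨ p l b ≠ 0))
    {m : Fin t} {ε : F} (hε : ε = 0 ∨ ε = 1) (hm : p m a = ε • p m b) : Moved D M ∨ Linked D p k M := by
  have hns : ¬ Stab D (rs Q a * rs Q b) := by
    intro hs
    obtain ⟨i, j, l, hij, hil, hjl, hi, hj, hl⟩ := h3
    rcases st.pair_stab hc hQa hQb hab hs with h | ⟨-, i', l', hai, hbi⟩
    · have pick : ∀ m, (p m a ≠ 0 ∨ p m b ≠ 0) →
          ∃ x ∈ D m, x ≠ 0 ∧ x ∈ Submodule.span F {a, b} := by
        rintro m (h' | h')
        · exact ⟨_, st.mem m a, h', (h m).1⟩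
        · exact ⟨_, st.mem m b, h', (h m).2⟩
      obtain ⟨x, hx, hx0, hxs⟩ := pick i hi
      obtain ⟨y, hy, hy0, hys⟩ := pick j hj
      obtain ⟨z, hz, hz0, hzs⟩ := pick l hl
      exact st.not_three hij hil hjl hx hy hz hx0 hy0 hz0 hxs hys hzs
    · have inside : ∀ m, (p m a ≠ 0 ∨ p m b ≠ 0) → m = i' ∨ m = l' := by
        intro m h'
        by_contra hcon
        push Not at hcon
        rcases h' with h' | h'
        · exact h' (st.p_sup hcon.1 hcon.2 hai)
        · exact h' (st.p_sup hcon.1 hcon.2 hbi)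
      rcases inside i hi with rfl | rfl <;> rcases inside j hj with rfl | rfl <;>
        rcases inside l hl with rfl | rfl <;> simp_all
  by_cases hd : p m b = 0 ∨ Q (p m b) ≠ 0
  · obtain ⟨f, hf, hQf, hdf⟩ := st.perp_aniso hk (st.mem m b) hd
    left
    refine st.moved_of_not_stab hM hns hf hQf (j := m) ?_
    have haf : polar Q a f = 0 := by
      rw [← st.polar_p a hf, hm, QuadraticMap.polar_smul_left, hdf, smul_zero]
    have hbf : polar Q b f = 0 := by rw [← st.polar_p b hf]; exact hdf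
    show (rs Q a).1 ((rs Q b).1 f) ∈ D m
    rw [rs_fix hbf, rs_fix haf]
    exact hf
  push Not at hd
  obtain ⟨hd0, hQd⟩ := hd
  right
  obtain ⟨h, hh, r, hr, hact⟩ := st.exists_scale (by have := st.seven_le hk (st.mem m b) hd0 hQd; omega) (st.mem m b) hd0 hQd
  obtain ⟨δ, hδ⟩ : ∃ δ, δ = p m b := ⟨_, rfl⟩
  rw [← hδ] at hd0 hQd hm hact
  have hδm : δ ∈ D m := hδ ▸ st.mem m b
  have haδ : polar Q a δ = 0 := by
    rw [← st.polar_p a hδm, hm, QuadraticMap.polar_smul_left, polar_self_two, hQd, mul_zero, smul_zero]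
  have hbδ : polar Q b δ = 0 := by rw [← st.polar_p b hδm, ← hδ, polar_self_two, hQd, mul_zero]
  have ha' : h.1 a = a + ((r - 1) * ε) • δ := hact a ε hm
  have hb' : h.1 b = b + (r - 1) • δ := by rw [hact b 1 (by rw [one_smul, hδ]), mul_one]
  have hconj := mul_mem (mul_mem hh hM) (inv_mem hh)
  rw [rs_conj_pair, ha', hb', rs_shift (hQa ▸ hc) (hQa.trans hQb.symm) hQd haδ hbδ] at hconj
  have hsieg := (Subgroup.mul_mem_cancel_left M hM).1 hconj
  obtain ⟨w, hw⟩ : ∃ w, w = ε • (rs Q b).1 a + b := ⟨_, rfl⟩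
  have hwe : (Q a)⁻¹ • (((r - 1) * ε) • (rs Q b).1 a + (r - 1) • b) = ((Q a)⁻¹ * (r - 1)) • w := by
    rw [hw]; module
  rw [hwe] at hsieg
  have hrb : (rs Q b).1 a = a - (c⁻¹ * polar Q b a) • b := by rw [rs_apply (hQb ▸ hc), hQb]
  refine ⟨m, m, δ, ((Q a)⁻¹ * (r - 1)) • w, hd0, hQd, Submodule.mem_sup_left hδm, fun _ => rfl, ⟨?_, hsieg⟩, ?_⟩
  · rw [QuadraticMap.polar_smul_right, hw, QuadraticMap.polar_add_right, QuadraticMap.polar_smul_right, hrb,
      QuadraticMap.polar_sub_right, QuadraticMap.polar_smul_right, QuadraticMap.polar_comm _ δ a, haδ,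
      QuadraticMap.polar_comm _ δ b, hbδ]
    simp
  by_contra hout
  push Not at hout
  have hwm : w = p m w := by
    conv_lhs => rw [← st.sum w]
    refine Finset.sum_eq_single m (fun l _ hl => ?_) (by simp)
    have h0 := hout l hl hl
    rw [map_smul, smul_eq_zero] at h0
    exact h0.resolve_left (mul_ne_zero (inv_ne_zero (hQa ▸ hc)) (sub_ne_zero.2 hr))
  rcases hε with rfl | rfl
  · rw [hw, zero_smul, zero_add, ← hδ] at hwm
    exact hc (by rw [← hQb, hwm, hQd])
  rw [one_smul] at hm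
  rw [hw, one_smul, hrb, map_add, map_sub, map_smul, hm, ← hδ] at hwm
  obtain ⟨μ, hμ⟩ : ∃ μ : F, μ = c⁻¹ * polar Q b a - 1 := ⟨_, rfl⟩
  have hae : a = μ • b + (1 - μ) • δ := by
    rw [hμ]
    linear_combination (norm := module) hwm
  have hμ2 : μ * μ = 1 := by
    have h1 : Q a = μ * μ * Q b := by
      conv_lhs => rw [hae, QuadraticMap.map_add (Q : QuadraticMap F V F), quad_smul, quad_smul, hQd,
        QuadraticMap.polar_smul_left, QuadraticMap.polar_smul_right, hbδ]
      simp
    rw [hQa, hQb] at h1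
    exact mul_right_cancel₀ hc (by rw [one_mul]; exact h1.symm)
  rcases mul_self_eq_one_iff.1 hμ2 with h1 | h1
  · exact hab 1 (by rw [hae, h1]; module)
  · have hB : polar Q b a = -(2 * c) := by
      rw [hae, QuadraticMap.polar_add_right, QuadraticMap.polar_smul_right, QuadraticMap.polar_smul_right, hbδ,
        polar_self_two, hQb, h1]
      simp
    rw [hB, h1] at hμ
    have h2 : (2 : F) = 0 := by field_simp at hμ; linear_combination hμ
    exact hab 1 (by rw [hae, h1, show (-1 : F) = 1 by linear_combination -h2]; module)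

/-- pieces of dimension at least four: a vector outside the pieces and a partner outside its components -/
theorem pair_entry_four (hk : 4 ≤ k) {a x : V} {c : F} (hc : c ≠ 0) (hQa : Q a = c) (hQx : Q x = c)
    (hM : rs Q a * rs Q x ∈ M) (ha : a ∉ Submodule.span F (Set.range fun i => p i x))
    (hx : ∀ j, x ∉ D j) : Moved D M ∨ Linked D p k M := by
  classical
  have hxs : x ∈ Submodule.span F (Set.range fun i => p i x) := by
    have h : ∑ i, p i x ∈ Submodule.span F (Set.range fun i => p i x) :=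
      sum_mem fun i _ => Submodule.subset_span ⟨i, rfl⟩
    rwa [st.sum x] at h
  have hind : ∀ r : F, a ≠ r • x := fun r h => ha (h ▸ Submodule.smul_mem _ r hxs)
  have hout : ∀ m, ∃ l, l ≠ m ∧ p l x ≠ 0 := by
    intro m
    by_contra hh
    push Not at hh
    refine hx m ?_
    rw [← st.sum x, Finset.sum_eq_single m (fun l _ hl => hh l hl) (by simp)]
    exact st.mem m x
  have hns : ¬ Stab D (rs Q a * rs Q x) := by
    intro hs
    rcases st.pair_stab hc hQa hQx hind hs with h | ⟨h, -⟩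
    swap
    · omega
    obtain ⟨i, -, hi⟩ := hout (⟨0, by have := st.two_t; omega⟩ : Fin t)
    obtain ⟨j, hji, hj⟩ := hout i
    have hli : LinearIndependent F ![p i x, p j x] := by
      refine LinearIndependent.pair_iff.2 fun r s hrs => ?_
      have h1 := congrArg (p i) hrs
      have h2 := congrArg (p j) hrs
      rw [map_add, map_smul, map_smul, st.p_self (st.mem i x), st.p_other (Ne.symm hji) (st.mem j x), smul_zero,
        add_zero, map_zero, smul_eq_zero] at h1
      rw [map_add, map_smul, map_smul, st.p_self (st.mem j x), st.p_other hji (st.mem i x), smul_zero,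
        zero_add, map_zero, smul_eq_zero] at h2
      exact ⟨h1.resolve_right hi, h2.resolve_right hj⟩
    have hle : Submodule.span F (Set.range ![p i x, p j x]) ≤ Submodule.span F {a, x} := by
      rw [Submodule.span_le]
      rintro v ⟨m, rfl⟩
      fin_cases m
      · exact (h i).2
      · exact (h j).2
    have h2 := finrank_span_finset_le_card ({a, x} : Finset V) (R := F)
    rw [Finset.coe_pair, Set.finrank] at h2
    have heq := Submodule.eq_of_le_of_finrank_le hle
      (by rw [finrank_span_eq_card hli, Fintype.card_fin]; exact le_trans h2 Finset.card_le_two)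
    refine ha (Submodule.span_mono ?_ (heq.symm ▸ Submodule.subset_span (by simp) :
      a ∈ Submodule.span F (Set.range ![p i x, p j x])))
    rintro v ⟨m, rfl⟩
    fin_cases m
    · exact ⟨i, rfl⟩
    · exact ⟨j, rfl⟩
  obtain ⟨m, hm⟩ : ∃ m : Fin t, m = ⟨0, by have := st.two_t; omega⟩ := ⟨_, rfl⟩
  obtain ⟨K, hK⟩ : ∃ K : Submodule F V, K =
      D m ⊓ LinearMap.ker ((QuadraticMap.polarBilin Q a).prod (QuadraticMap.polarBilin Q x)) := ⟨_, rfl⟩
  have hKmem : ∀ v, v ∈ K ↔ v ∈ D m ∧ polar Q a v = 0 ∧ polar Q x v = 0 := fun v => by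
    rw [hK, Submodule.mem_inf, LinearMap.mem_ker]
    exact and_congr_right fun _ => Prod.mk_eq_zero
  by_cases hf : ∃ f ∈ K, Q f ≠ 0
  · obtain ⟨f, hfK, hQf⟩ := hf
    obtain ⟨hfm, haf, hxf⟩ := (hKmem f).1 hfK
    left
    refine st.moved_of_not_stab hM hns hfm hQf (j := m) ?_
    show (rs Q a).1 ((rs Q x).1 f) ∈ D m
    rw [rs_fix hxf, rs_fix haf]
    exact hfm
  push Not at hf
  right
  have h2 : (2 : F) = 0 := by
    rcases st.shape with ⟨h, -⟩ | ⟨-, -, h, -⟩
    · omega
    · exact h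
  have hiso : ∀ u ∈ K, ∀ v ∈ K, polar Q u v = 0 := fun u hu v hv => polar_of_singular (A := K) hf hu hv
  have hdimle : ∀ L : Submodule F V, L ≤ D m → (∀ u ∈ L, ∀ v ∈ L, polar Q u v = 0) →
      2 * Module.finrank F L ≤ k := fun L hL hLi => by
    rw [← st.dim m]; exact isotropic_finrank (st.nd m) hL hLi
  have hKm : K ≤ D m := fun v hv => ((hKmem v).1 hv).1
  have hK2 : k ≤ Module.finrank F K + 2 := by
    have h3 := LinearMap.finrank_range_add_finrank_ker
      (((QuadraticMap.polarBilin Q a).prod (QuadraticMap.polarBilin Q x)).comp (D m).subtype)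
    have h4 := (LinearMap.range
      (((QuadraticMap.polarBilin Q a).prod (QuadraticMap.polarBilin Q x)).comp (D m).subtype)).finrank_le
    rw [Module.finrank_prod, Module.finrank_self] at h4
    rw [LinearMap.ker_comp, ← Submodule.finrank_map_subtype_eq, Submodule.map_comap_subtype, ← hK, st.dim] at h3
    omega
  obtain ⟨δ, hδ⟩ : ∃ δ, δ = p m a := ⟨_, rfl⟩
  have hδm : δ ∈ D m := hδ ▸ st.mem m a
  have hdist : δ ∈ K := by
    by_contra hnot
    have hlt : K < K ⊔ Submodule.span F {δ} := by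
      refine lt_of_le_of_ne le_sup_left fun h => hnot ?_
      rw [h]; exact Submodule.mem_sup_right (Submodule.mem_span_singleton_self δ)
    have h3 := Submodule.finrank_lt_finrank_of_lt hlt
    have h4 := hdimle (K ⊔ Submodule.span F {δ}) (sup_le hKm (by simpa using hδm)) (by
      intro u hu v hv
      obtain ⟨u₁, hu₁, u₂, hu₂, rfl⟩ := Submodule.mem_sup.1 hu
      obtain ⟨v₁, hv₁, v₂, hv₂, rfl⟩ := Submodule.mem_sup.1 hv
      obtain ⟨r, rfl⟩ := Submodule.mem_span_singleton.1 hu₂
      obtain ⟨s, rfl⟩ := Submodule.mem_span_singleton.1 hv₂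
      have e1 : ∀ w ∈ K, polar Q δ w = 0 := fun w hw => by
        rw [hδ, st.polar_p a (hKm hw)]; exact ((hKmem w).1 hw).2.1
      rw [QuadraticMap.polar_add_left, QuadraticMap.polar_add_right, QuadraticMap.polar_add_right,
        QuadraticMap.polar_smul_left, QuadraticMap.polar_smul_left, QuadraticMap.polar_smul_right,
        QuadraticMap.polar_smul_right, hiso _ hu₁ _ hv₁, e1 _ hv₁, QuadraticMap.polar_comm _ u₁ δ, e1 _ hu₁,
        polar_self_two, h2]
      simp)
    omega
  have hQδ := hf δ hdist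
  obtain ⟨-, haδ, hxδ⟩ := (hKmem δ).1 hdist
  -- a vector of the piece orthogonal to `δ` and not to `x`
  obtain ⟨w₀, hw₀, hw₀a, hw₀x⟩ : ∃ w₀ ∈ D m, polar Q a w₀ = 0 ∧ polar Q x w₀ ≠ 0 := by
    by_contra hh
    push Not at hh
    have h3 := LinearMap.finrank_range_add_finrank_ker ((QuadraticMap.polarBilin Q a).comp (D m).subtype)
    have h4 := (LinearMap.range ((QuadraticMap.polarBilin Q a).comp (D m).subtype)).finrank_le
    rw [Module.finrank_self] at h4
    rw [LinearMap.ker_comp, ← Submodule.finrank_map_subtype_eq, Submodule.map_comap_subtype, st.dim] at h3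
    have hle : D m ⊓ LinearMap.ker (QuadraticMap.polarBilin Q a) ≤ K := fun v hv =>
      (hKmem v).2 ⟨hv.1, hv.2, hh v hv.1 hv.2⟩
    have h5 := Submodule.finrank_mono hle
    have h6 := hdimle K hKm hiso
    omega
  obtain ⟨w, hw⟩ : ∃ w, w = (-(polar Q x w₀)⁻¹) • w₀ := ⟨_, rfl⟩
  have hwm : w ∈ D m := hw ▸ (D m).smul_mem _ hw₀
  have hwa : polar Q w a = 0 := by
    rw [hw, QuadraticMap.polar_smul_left, QuadraticMap.polar_comm _ w₀ a, hw₀a, smul_zero]
  have hwx : polar Q w x = -1 := by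
    rw [hw, QuadraticMap.polar_smul_left, QuadraticMap.polar_comm _ w₀ x, smul_eq_mul, neg_mul,
      inv_mul_cancel₀ hw₀x]
  have hδw : polar Q δ w = 0 := by
    rw [hδ, st.polar_p a hwm, QuadraticMap.polar_comm, hwa]
  have hh := st.siegel_mem hδm hQδ hwm hδw
  have ha' : (siegel Q δ w).1 a = a := by
    rw [siegel_apply Q hQδ hδw, QuadraticMap.polar_comm _ δ a, haδ, hwa]; simp
  have hx' : (siegel Q δ w).1 x = x + (1 : F) • δ := by
    rw [siegel_apply Q hQδ hδw, QuadraticMap.polar_comm _ δ x, hxδ, hwx]; simp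
  have hconj := mul_mem (mul_mem hh hM) (inv_mem hh)
  rw [rs_conj_pair, ha', hx'] at hconj
  have e := rs_shift (Q := Q) (hQa ▸ hc) (hQa.trans hQx.symm) hQδ haδ hxδ 0 1
  rw [zero_smul, add_zero] at e
  rw [e, zero_smul, zero_add, one_smul] at hconj
  have hsieg := (Subgroup.mul_mem_cancel_left M hM).1 hconj
  obtain ⟨l, hl, hlx⟩ := hout m
  have hδ0 : δ ≠ 0 := by
    intro h0
    refine hw₀x (hw₀a ▸ ?_)
    have hle : D m ⊓ LinearMap.ker (QuadraticMap.polarBilin Q x) ≤ K := fun v hv =>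
      (hKmem v).2 ⟨hv.1, by rw [← st.polar_p a hv.1, ← hδ, h0, QuadraticMap.polar_zero_left], hv.2⟩
    have h3 := LinearMap.finrank_range_add_finrank_ker ((QuadraticMap.polarBilin Q x).comp (D m).subtype)
    have h4 := (LinearMap.range ((QuadraticMap.polarBilin Q x).comp (D m).subtype)).finrank_le
    rw [Module.finrank_self] at h4
    rw [LinearMap.ker_comp, ← Submodule.finrank_map_subtype_eq, Submodule.map_comap_subtype, st.dim] at h3
    have h5 := Submodule.finrank_mono hle
    have h6 := hdimle K hKm hiso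
    omega
  refine ⟨m, m, δ, (Q a)⁻¹ • x, hδ0, hQδ, Submodule.mem_sup_left hδm, fun _ => rfl, ⟨?_, hsieg⟩,
    l, hl, hl, ?_⟩
  · rw [QuadraticMap.polar_smul_right, QuadraticMap.polar_comm _ δ x, hxδ, smul_zero]
  · rw [map_smul]; exact smul_ne_zero (inv_ne_zero (hQa ▸ hc)) hlx

/-- planes: an element of `M` fixing a vector of full support and one piece, but not the identity -/
theorem exists_fixer (hk : k = 2) {x : V} (hfull : ∀ i, p i x ≠ 0) :
    ∃ h ∈ M, h.1 x = x ∧ ∃ m, (∀ y ∈ D m, h.1 y = y) ∧ ∃ z, h.1 z ≠ z := by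
  classical
  have ht := st.five_t hk
  have outside : ∀ s : Finset (Fin t), s.card ≤ 4 → ∃ m, m ∉ s := fun s hs => by
    obtain ⟨m, -, hm⟩ := Finset.exists_mem_notMem_of_card_lt_card (s := s) (t := Finset.univ)
      (lt_of_le_of_lt hs (by rw [Finset.card_univ, Fintype.card_fin]; omega))
    exact ⟨m, hm⟩
  obtain ⟨A, hA⟩ : ∃ A : Finset (Fin t), A = Finset.univ.filter (fun i => Q (p i x) ≠ 0) := ⟨_, rfl⟩
  by_cases hA3 : 2 < A.card
  · obtain ⟨i, j, l, hi, hj, hl, hij, hil, hjl⟩ := Finset.two_lt_card_iff.1 hA3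
    simp only [hA, Finset.mem_filter, Finset.mem_univ, true_and] at hi hj hl
    obtain ⟨u, hu, hQu, hxu⟩ := st.perp_aniso hk (st.mem i x) (Or.inr hi)
    obtain ⟨v, hv, hQv, hxv⟩ := st.perp_aniso hk (st.mem j x) (Or.inr hj)
    obtain ⟨w, hw, hQw, hxw⟩ := st.perp_aniso hk (st.mem l x) (Or.inr hl)
    have fin : ∀ (i j : Fin t) (u v : V), i ≠ j → u ∈ D i → v ∈ D j → Q u ≠ 0 → Q v ≠ 0 →
        polar Q (p i x) u = 0 → polar Q (p j x) v = 0 → IsSquare (Q u / Q v) →
        ∃ h ∈ M, h.1 x = x ∧ ∃ m, (∀ y ∈ D m, h.1 y = y) ∧ ∃ z, h.1 z ≠ z := by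
      intro i j u v hij hu hv hQu hQv hxu hxv hsq
      obtain ⟨r, hr⟩ := hsq
      have hr0 : r ≠ 0 := fun h => by rw [h, mul_zero, div_eq_zero_iff] at hr; exact hr.elim hQu hQv
      have hQ' : Q u = Q (r • v) := by rw [quad_smul, ← hr, div_mul_cancel₀ _ hQv]
      obtain ⟨m, hm⟩ := outside {i, j} (le_trans Finset.card_le_two (by omega))
      simp only [Finset.mem_insert, Finset.mem_singleton, not_or] at hm
      refine ⟨rs Q u * rs Q (r • v), st.frame_pair hu ((D j).smul_mem _ hv) hQu hQ', ?_, m, fun y hy => ?_, ?_⟩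
      · show (rs Q u).1 ((rs Q (r • v)).1 x) = x
        rw [rs_fix (v := r • v)
          (by rw [QuadraticMap.polar_smul_left, QuadraticMap.polar_comm, ← st.polar_p x hv, hxv, smul_zero]),
          rs_fix (by rw [QuadraticMap.polar_comm, ← st.polar_p x hu, hxu])]
      · show (rs Q u).1 ((rs Q (r • v)).1 y) = y
        rw [rs_fix (st.orth j m (Ne.symm hm.2) _ ((D j).smul_mem _ hv) y hy),
          rs_fix (st.orth i m (Ne.symm hm.1) u hu y hy)]
      · obtain ⟨z, hz, huz⟩ := (st.nd i).exists_partner hu fun h => hQu (by rw [h]; exact map_zero Q)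
        refine ⟨z, fun h => ?_⟩
        change (rs Q u).1 ((rs Q (r • v)).1 z) = z at h
        rw [rs_fix (st.orth j i (Ne.symm hij) _ ((D j).smul_mem _ hv) z hz), rs_apply hQu, huz, mul_one,
          sub_eq_self, smul_eq_zero] at h
        rcases h with h | h
        · exact hQu (inv_eq_zero.1 h)
        · exact hQu (by rw [h]; exact map_zero Q)
    rcases two_of_three hQu hQv hQw with h | h | h
    · exact fin i j u v hij hu hv hQu hQv hxu hxv h
    · exact fin j l v w hjl hv hw hQv hQw hxv hxw h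
    · exact fin i l u w hil hu hw hQu hQw hxu hxw h
  · have hS : 2 < (Finset.univ \ A).card := by
      rw [Finset.card_sdiff_of_subset (Finset.subset_univ _), Finset.card_univ, Fintype.card_fin]; omega
    obtain ⟨i, j, l, hi, hj, hl, hij, hil, hjl⟩ := Finset.two_lt_card_iff.1 hS
    simp only [hA, Finset.mem_sdiff, Finset.mem_filter, Finset.mem_univ, true_and, not_not] at hi hj hl
    obtain ⟨e₁, he₁, he₁'⟩ := st.exists_iso_singular hk (st.mem i x) (st.mem j x) (hfull i) (hfull j) hi hj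
    obtain ⟨e₂, he₂, he₂'⟩ := st.exists_iso_singular hk (st.mem j x) (st.mem l x) (hfull j) (hfull l) hj hl
    obtain ⟨h, hh, -, -, hha, hhl, hhj, hho⟩ := st.exists_cycle' hij hil hjl e₁ he₁ e₂ he₂
    obtain ⟨m, hm⟩ := outside {i, j, l} (le_trans Finset.card_le_three (by omega))
    simp only [Finset.mem_insert, Finset.mem_singleton, not_or] at hm
    have h1 : h.1 (p i x) = p l x := by
      rw [hha ⟨_, st.mem i x⟩, show e₁ ⟨p i x, st.mem i x⟩ = ⟨p j x, st.mem j x⟩ from Subtype.ext he₁']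
      exact he₂'
    have h2 : h.1 (p j x) = p i x := by
      rw [hhl ⟨_, st.mem j x⟩, show (⟨p j x, st.mem j x⟩ : D j) = e₁ ⟨p i x, st.mem i x⟩ from
        (Subtype.ext he₁').symm, LinearEquiv.symm_apply_apply]
    have h3 : h.1 (p l x) = p j x := by
      rw [hhj ⟨_, st.mem l x⟩, show (⟨p l x, st.mem l x⟩ : D l) = e₂ ⟨p j x, st.mem j x⟩ from
        (Subtype.ext he₂').symm, LinearEquiv.symm_apply_apply]
    refine ⟨h, hh, ?_, m, fun y hy => hho m hm.1 hm.2.1 hm.2.2 y hy, p i x, fun e => hfull i ?_⟩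
    · obtain ⟨y, hy⟩ : ∃ y, y = x - p i x - p j x - p l x := ⟨_, rfl⟩
      have hzero : p i y = 0 ∧ p j y = 0 ∧ p l y = 0 := by
        refine ⟨?_, ?_, ?_⟩
        · rw [hy, map_sub, map_sub, map_sub, st.p_self (st.mem i x), st.p_other hij (st.mem j x),
            st.p_other hil (st.mem l x)]
          abel
        · rw [hy, map_sub, map_sub, map_sub, st.p_self (st.mem j x), st.p_other (Ne.symm hij) (st.mem i x),
            st.p_other hjl (st.mem l x)]
          abel
        · rw [hy, map_sub, map_sub, map_sub, st.p_self (st.mem l x), st.p_other (Ne.symm hil) (st.mem i x),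
            st.p_other (Ne.symm hjl) (st.mem j x)]
          abel
      have hfy : h.1 y = y := by
        conv_lhs => rw [← st.sum y, map_sum]
        conv_rhs => rw [← st.sum y]
        refine Finset.sum_congr rfl fun n _ => ?_
        rcases eq_or_ne n i with rfl | hni
        · rw [hzero.1, map_zero]
        rcases eq_or_ne n j with rfl | hnj
        · rw [hzero.2.1, map_zero]
        rcases eq_or_ne n l with rfl | hnl
        · rw [hzero.2.2, map_zero]
        exact hho n hni hnj hnl _ (st.mem n y)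
      have hxe : x = y + p i x + p j x + p l x := by rw [hy]; abel
      conv_lhs => rw [hxe, map_add, map_add, map_add, h1, h2, h3, hfy]
      conv_rhs => rw [hxe]
      abel
    · rw [h1] at e
      exact st.disjoint hil (st.mem i x) (e ▸ st.mem l x)

/-- first step: a class leaves the pieces or a link appears -/
theorem start {g : quadIsoms Q} (hg : g ∈ M) (hns : ¬ Stab D g) : Moved D M ∨ Linked D p k M := by
  classical
  obtain ⟨i₀, hi₀⟩ : ∃ i₀ : Fin t, i₀ = ⟨0, by have := st.two_t; omega⟩ := ⟨_, rfl⟩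
  obtain ⟨f₀, hf₀, hQf₀⟩ := st.exists_aniso i₀
  obtain ⟨j₀, f, hf, hQf, hmoved⟩ := st.exists_moved hns hf₀ hQf₀
  obtain ⟨c, hc, hQfc⟩ : ∃ c, c ≠ 0 ∧ Q f = c := ⟨_, by rw [hQf]; exact hQf₀, rfl⟩
  obtain ⟨x, hx⟩ : ∃ x, x = g.1 f := ⟨_, rfl⟩
  rw [← hx] at hmoved
  obtain ⟨K, hK⟩ : ∃ K : Set V, K = {y | InK D M c ((g⁻¹ : quadIsoms Q).1 y)} := ⟨_, rfl⟩
  have gg : ∀ y, g.1 ((g⁻¹ : quadIsoms Q).1 y) = y := fun y =>
    congrArg (fun h : quadIsoms Q => h.1 y) (mul_inv_cancel g)
  have gg' : ∀ y, (g⁻¹ : quadIsoms Q).1 (g.1 y) = y := fun y =>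
    congrArg (fun h : quadIsoms Q => h.1 y) (inv_mul_cancel g)
  have hKv : ∀ y ∈ K, Q y = c := fun y hy => by
    rw [hK] at hy
    rw [← gg y, g.2]; exact hy.1
  have hKpair : ∀ a ∈ K, ∀ b ∈ K, rs Q a * rs Q b ∈ M := fun a ha b hb => by
    rw [hK] at ha hb
    have h := mul_mem (mul_mem hg (st.inK_pair hc ha hb)) (inv_mem hg)
    rwa [rs_conj_pair, gg, gg] at h
  have hxK : x ∈ K := by
    rw [hK, hx]
    show InK D M c ((g⁻¹ : quadIsoms Q).1 (g.1 f))
    rw [gg']; exact st.inK_frame hc hf hQfc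
  have hKspan : ∀ W : Submodule F V, (∀ y ∈ K, y ∈ W) → ∀ v, v ∈ W := by
    intro W hW v
    have hle : Submodule.span F {u : V | (∃ j, u ∈ D j) ∧ Q u = Q f} ≤ W.comap g.1.toLinearMap := by
      rw [Submodule.span_le]
      rintro u ⟨⟨j, hu⟩, hQu⟩
      refine hW _ ?_
      rw [hK]
      show InK D M c ((g⁻¹ : quadIsoms Q).1 (g.1 u))
      rw [gg']; exact st.inK_frame hc hu (hQu.trans hQfc)
    rw [st.frame_span hf (hQfc ▸ hc)] at hle
    have h := hle (Submodule.mem_top (x := (g⁻¹ : quadIsoms Q).1 v))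
    rw [Submodule.mem_comap] at h
    change g.1 _ ∈ W at h
    rwa [gg] at h
  rcases eq_or_lt_of_le st.kge with hk2 | hk3
  · have hk : k = 2 := hk2.symm
    have hx0 : x ≠ 0 := fun h => hmoved j₀ (h ▸ zero_mem _)
    by_cases hfull : ∀ i, p i x ≠ 0
    · have ht := st.five_t hk
      have h3 : ∀ a : V, ∃ i j l : Fin t, i ≠ j ∧ i ≠ l ∧ j ≠ l ∧ (p i a ≠ 0 ∨ p i x ≠ 0) ∧
          (p j a ≠ 0 ∨ p j x ≠ 0) ∧ (p l a ≠ 0 ∨ p l x ≠ 0) := fun a =>
        ⟨⟨0, by omega⟩, ⟨1, by omega⟩, ⟨2, by omega⟩, by simp, by simp, by simp, Or.inr (hfull _),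
          Or.inr (hfull _), Or.inr (hfull _)⟩
      by_cases hA : ∃ a ∈ K, ∃ m, p m a = 0
      · obtain ⟨a, ha, m, hm⟩ := hA
        refine st.pair_entry hk hc (hKv a ha) (hKv x hxK) (hKpair a ha x hxK) (fun r hr => ?_) (h3 a)
          (Or.inl rfl) (m := m) (by rw [hm, zero_smul])
        rw [hr, map_smul, smul_eq_zero, or_iff_left (hfull m)] at hm
        exact hc (by rw [← hKv a ha, hr, hm, zero_smul]; exact map_zero Q)
      push Not at hA
      obtain ⟨h, hh, hhx, m, hfix, z, hz⟩ := st.exists_fixer hk hfull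
      obtain ⟨a, ha, hmv⟩ : ∃ a ∈ K, h.1 a ≠ a := by
        by_contra hh'
        push Not at hh'
        refine hz ?_
        have := hKspan (LinearMap.ker (h.1.toLinearMap - LinearMap.id)) (fun y hy => by
          rw [LinearMap.mem_ker, LinearMap.sub_apply]; exact sub_eq_zero.2 (hh' y hy)) z
        rw [LinearMap.mem_ker, LinearMap.sub_apply] at this
        exact sub_eq_zero.1 this
      have hM : rs Q a * rs Q (h.1 a) ∈ M := by
        have h1 := mul_mem (hKpair a ha x hxK)
          (inv_mem (mul_mem (mul_mem hh (hKpair a ha x hxK)) (inv_mem hh)))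
        rwa [rs_conj_pair, hhx, mul_inv_rev, rs_inv, rs_inv, show rs Q a * rs Q x * (rs Q x * rs Q (h.1 a)) =
          rs Q a * (rs Q x * rs Q x) * rs Q (h.1 a) by group, rs_mul_self, mul_one] at h1
      refine st.pair_entry hk hc (hKv a ha) (by rw [h.2]; exact hKv a ha) hM (fun r hr => ?_)
        ⟨⟨0, by omega⟩, ⟨1, by omega⟩, ⟨2, by omega⟩, by simp, by simp, by simp, Or.inl (hA a ha _),
          Or.inl (hA a ha _), Or.inl (hA a ha _)⟩ (Or.inr rfl) (m := m) (by rw [st.p_fix hfix, one_smul])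
      have h1 := congrArg (p m) hr
      rw [map_smul, st.p_fix hfix] at h1
      have hr1 : r = 1 := by
        have h2 : (r - 1) • p m a = 0 := by rw [sub_smul, one_smul, ← h1, sub_self]
        exact sub_eq_zero.1 ((smul_eq_zero.1 h2).resolve_right (hA a ha m))
      rw [hr1, one_smul] at hr
      exact hmv hr.symm
    · push Not at hfull
      obtain ⟨m, hm⟩ := hfull
      obtain ⟨b, hb, hbm⟩ : ∃ b ∈ K, p m b ≠ 0 := by
        by_contra hh'
        push Not at hh'
        obtain ⟨u, hu, hQu⟩ := st.exists_aniso m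
        have := hKspan (LinearMap.ker (p m)) (fun y hy => hh' y hy) u
        rw [LinearMap.mem_ker, st.p_self hu] at this
        exact hQu (by rw [this]; exact map_zero Q)
      obtain ⟨i, hi⟩ : ∃ i, p i x ≠ 0 := by
        by_contra hh'
        push Not at hh'
        exact hx0 (by rw [← st.sum x]; exact Finset.sum_eq_zero fun i _ => hh' i)
      obtain ⟨j, hji, hj⟩ : ∃ j, j ≠ i ∧ p j x ≠ 0 := by
        by_contra hh'
        push Not at hh'
        refine hmoved i ?_
        rw [← st.sum x, Finset.sum_eq_single i (fun l _ hl => hh' l hl) (by simp)]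
        exact st.mem i x
      refine st.pair_entry hk hc (hKv x hxK) (hKv b hb) (hKpair x hxK b hb) (fun r hr => ?_)
        ⟨i, j, m, Ne.symm hji, fun h => hi (h ▸ hm), fun h => hj (h ▸ hm), Or.inl hi, Or.inl hj,
          Or.inr hbm⟩ (Or.inl rfl) (m := m) (by rw [hm, zero_smul])
      rw [hr, map_smul, smul_eq_zero, or_iff_left hbm] at hm
      exact hx0 (by rw [hr, hm, zero_smul])
  · have hk : 4 ≤ k := by
      rcases st.shape with ⟨h, -⟩ | ⟨h, -⟩ <;> omega
    obtain ⟨a, ha, has⟩ : ∃ a ∈ K, a ∉ Submodule.span F (Set.range fun i => p i x) := by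
      by_contra hh'
      push Not at hh'
      have hall := hKspan _ hh'
      have hle : D i₀ ≤ Submodule.span F {p i₀ x} := fun v hv => by
        have h1 := Submodule.mem_map_of_mem (f := p i₀) (hall v)
        rw [Submodule.map_span, st.p_self hv] at h1
        refine Submodule.span_le.2 ?_ h1
        rintro _ ⟨_, ⟨j, rfl⟩, rfl⟩
        show p i₀ (p j x) ∈ Submodule.span F {p i₀ x}
        rcases eq_or_ne i₀ j with rfl | hne
        · rw [st.p_self (st.mem i₀ x)]; exact Submodule.mem_span_singleton_self _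
        · rw [st.p_other hne (st.mem j x)]; exact zero_mem _
      have h1 := Submodule.finrank_mono hle
      have h2 := finrank_span_finset_le_card ({p i₀ x} : Finset V) (R := F)
      rw [Finset.coe_singleton, Set.finrank] at h2
      rw [Finset.card_singleton] at h2
      rw [st.dim] at h1
      omega
    exact st.pair_entry_four hk hc (hKv a ha) (hKv x hxK) (hKpair a ha x hxK) has hmoved

end Setting

end CfsgLib.MaxSub.ORefl
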