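import Cfsg.Agent.Lib.MaxSub.ORefl.Good
import Cfsg.Agent.Lib.MaxSub.ORefl.Start

/-!
A class vector outside the pieces gives a linked singular vector of small support.
-/

set_option autoImplicit false
set_option linter.unusedSectionVars false

namespace CfsgLib.MaxSub.ORefl

open CfsgLib.Classical CfsgLib.Geom CfsgLib.Geom.OrthSub CfsgLib.MaxSub
open CfsgLib.MaxSub.OFrame (Stab InW NdOn wSub mem_wSub)
open QuadraticMap (polar)

variable {F V : Type*} [Field F] [AddCommGroup V] [Module F V] {Q : QuadraticForm F V} {t : ℕ}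

namespace Setting

variable [FiniteDimensional F V] [Finite F] {D : Fin t → Submodule F V} {p : Fin t → V →ₗ[F] V} {k : ℕ}
  {M : Subgroup (quadIsoms Q)} (st : Setting Q D p k M)
include st

/-- an element of `M` fixing one piece preserves every class -/
theorem inK_move {c : F} (hc : c ≠ 0) {h : quadIsoms Q} (hh : h ∈ M) {m : Fin t}
    (hfix : ∀ y ∈ D m, h.1 y = y) {x : V} (hx : InK D M c x) : InK D M c (h.1 x) := by
  obtain ⟨-, i, f, hf, hQf, -⟩ := id hx
  obtain ⟨f', hf', hQ'⟩ := st.value_exists hf m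
  have hf'' := st.inK_frame (M := M) hc hf' (hQ'.trans hQf)
  exact st.inK_map hc hh hf'' (by rw [hfix f' hf']; exact hf'') hx

/-- two class members with small singular difference and an outer component -/
theorem linked_sub {c : F} (hc : c ≠ 0) {x y : V} (hx : InK D M c x) (hy : InK D M c y) (hn0 : y - x ≠ 0)
    (hn : Q (y - x) = 0) {i j : Fin t} (hmem : y - x ∈ D i ⊔ D j) (hij : 3 ≤ k → i = j)
    (hout : ∃ l, l ≠ i ∧ l ≠ j ∧ p l x ≠ 0) : Linked D p k M := by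
  obtain ⟨l, hli, hlj, hl⟩ := hout
  exact ⟨i, j, y - x, c⁻¹ • x, hn0, hn, hmem, hij, st.inW_of_sub hc hx hy hn, l, hli, hlj,
    by rw [map_smul]; exact smul_ne_zero (inv_ne_zero hc) hl⟩

/-- a singular component can be scaled -/
theorem linked_singular (hq : 4 ≤ Nat.card F) {c : F} (hc : c ≠ 0) {x : V} (hx : InK D M c x) {i : Fin t}
    (hi : p i x ≠ 0) (hQi : Q (p i x) = 0) (hout : ∃ l, l ≠ i ∧ p l x ≠ 0) : Linked D p k M := by
  obtain ⟨h, hh, r, hr, hact⟩ := st.exists_scale hq (st.mem i x) hi hQi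
  obtain ⟨l, hl, hlx⟩ := hout
  have hfix : ∀ y ∈ D l, h.1 y = y := fun y hy => by
    rw [hact y 0 (by rw [zero_smul]; exact st.p_other (Ne.symm hl) hy), mul_zero, zero_smul, add_zero]
  have e : h.1 x - x = (r - 1) • p i x := by
    rw [hact x 1 (by rw [one_smul]), mul_one]; abel
  refine st.linked_sub hc hx (st.inK_move hc hh hfix hx) ?_ ?_ (i := i) (j := i) ?_ (fun _ => rfl)
    ⟨l, hl, hl, hlx⟩
  · rw [e]; exact smul_ne_zero (sub_ne_zero.2 hr) hi
  · rw [e, quad_smul, hQi, mul_zero]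
  · rw [e]; exact Submodule.mem_sup_left ((D i).smul_mem _ (st.mem i x))

/-- two reflections at vectors of one square class preserve each class -/
theorem inK_rs_scaled {c : F} (hc : c ≠ 0) {i j : Fin t} {v v' : V} (hv : v ∈ D i) (hv' : v' ∈ D j)
    (hQv : Q v ≠ 0) (hQv' : Q v' ≠ 0) (h : IsSquare (Q v / Q v')) {x : V} (hx : InK D M c x) :
    InK D M c ((rs Q v).1 ((rs Q v').1 x)) := by
  obtain ⟨r, hr⟩ := h
  have hr0 : r ≠ 0 := fun h => by rw [h, mul_zero, div_eq_zero_iff] at hr; exact hr.elim hQv hQv'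
  rw [← rs_smul (Q := Q) (v := v') hr0]
  exact st.inK_rs_rs hc hv ((D j).smul_mem r hv') hQv
    (by rw [quad_smul, ← hr, div_mul_cancel₀ _ hQv']) hx

/-- a reflection at a vector in the square class of the value preserves the class -/
theorem inK_rs_class {c : F} (hc : c ≠ 0) {i : Fin t} {v : V} (hv : v ∈ D i) (hQv : Q v ≠ 0)
    (h : IsSquare (c / Q v)) {x : V} (hx : InK D M c x) : InK D M c ((rs Q v).1 x) := by
  obtain ⟨r, hr⟩ := h
  have hr0 : r ≠ 0 := fun h => by rw [h, mul_zero, div_eq_zero_iff] at hr; exact hr.elim hc hQv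
  rw [← rs_smul (Q := Q) (v := v) hr0]
  exact st.inK_refl hc (st.inK_frame hc ((D i).smul_mem r hv)
    (by rw [quad_smul, ← hr, div_mul_cancel₀ _ hQv])) hx

/-- a good pair displaces `x` inside its class, given a free reflection or matching square classes -/
theorem linked_pair (hk : k = 2) {c : F} (hc : c ≠ 0) {x : V} (hx : InK D M c x) {a b : Fin t} (hab : a ≠ b)
    {v v' : V} (hv : v ∈ D a) (hv' : v' ∈ D b) (hQv : Q v ≠ 0) (hQv' : Q v' ≠ 0) (hvx : polar Q v x ≠ 0)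
    (hsum : polar Q v x ^ 2 / Q v + polar Q v' x ^ 2 / Q v' = 0)
    (hfree : IsSquare (Q v / Q v') ∨
      ∀ r : F, r ≠ 0 → ∃ m, ∃ u ∈ D m, Q u ≠ 0 ∧ polar Q u x = 0 ∧ IsSquare (Q u / r))
    (hout : ∃ l, l ≠ a ∧ l ≠ b ∧ p l x ≠ 0) : Linked D p k M := by
  obtain ⟨y, hy⟩ : ∃ y, y = x - ((Q v)⁻¹ * polar Q v x) • v - ((Q v')⁻¹ * polar Q v' x) • v' := ⟨_, rfl⟩
  have e1 : (rs Q v).1 ((rs Q v').1 x) = y := by
    rw [rs_apply hQv', map_sub, map_smul, rs_fix (st.orth a b hab v hv v' hv'), rs_apply hQv, hy]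
  have e2 : (rs Q v').1 ((rs Q v).1 x) = y := by
    rw [rs_apply hQv, map_sub, map_smul, rs_fix (st.orth b a (Ne.symm hab) v' hv' v hv), rs_apply hQv', hy]
    abel
  have hyK : InK D M c y := by
    by_cases hsq : IsSquare (Q v / Q v')
    · exact e1 ▸ st.inK_rs_scaled hc hv hv' hQv hQv' hsq hx
    have hfree' := hfree.resolve_left hsq
    rcases two_of_three hQv hc hQv' with h | h | h
    · obtain ⟨m, u, hu, hQu, hux, hus⟩ := hfree' (Q v') hQv'
      have h1 := st.inK_rs_scaled hc hv' hu hQv' hQu (isSquare_flip hus) hx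
      rw [rs_fix hux] at h1
      exact e1 ▸ st.inK_rs_class hc hv hQv (isSquare_flip h) h1
    · obtain ⟨m, u, hu, hQu, hux, hus⟩ := hfree' (Q v) hQv
      have h1 := st.inK_rs_scaled hc hv hu hQv hQu (isSquare_flip hus) hx
      rw [rs_fix hux] at h1
      exact e2 ▸ st.inK_rs_class hc hv' hQv' h h1
    · exact absurd h hsq
  have en : y - x = -(((Q v)⁻¹ * polar Q v x) • v + ((Q v')⁻¹ * polar Q v' x) • v') := by rw [hy]; abel
  refine st.linked_sub hc hx hyK (fun h0 => ?_) ?_ (i := a) (j := b) ?_ (by omega) hout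
  · rw [en, neg_eq_zero] at h0
    have h1 := congrArg (p a) h0
    rw [map_add, map_smul, map_smul, st.p_self hv, st.p_other hab hv', smul_zero, add_zero, map_zero,
      smul_eq_zero] at h1
    rcases h1 with h1 | h1
    · exact mul_ne_zero (inv_ne_zero hQv) hvx h1
    · exact hQv (by rw [h1]; exact map_zero Q)
  · rw [en, QuadraticMap.map_neg, QuadraticMap.map_add (Q : QuadraticMap F V F), quad_smul, quad_smul,
      QuadraticMap.polar_smul_left, QuadraticMap.polar_smul_right, st.orth a b hab v hv v' hv', smul_zero,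
      smul_zero, add_zero, ← hsum]
    field_simp
  · rw [en]
    exact neg_mem (add_mem (Submodule.mem_sup_left ((D a).smul_mem _ hv))
      (Submodule.mem_sup_right ((D b).smul_mem _ hv')))

/-- a piece met by the parameters of a singular vector lies in them -/
theorem inW_piece {n w : V} (hn : Q n = 0) (hw : InW M n w) {e : Fin t} (hne : p e n = 0) (hwe : p e w ≠ 0)
    (hpartner : ∀ u ∈ D e, Q u ≠ 0 → ∃ m, m ≠ e ∧ ∃ u' ∈ D m, Q u' = Q u ∧ polar Q u' n = 0) :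
    ∀ d ∈ D e, InW M n d := by
  have hnorth : ∀ u ∈ D e, polar Q u n = 0 := fun u hu => by
    rw [QuadraticMap.polar_comm, ← st.polar_p n hu, hne, QuadraticMap.polar_zero_left]
  have move : ∀ u ∈ D e, Q u ≠ 0 → ∀ m, m ≠ e → ∀ u' ∈ D m, Q u' = Q u → polar Q u' n = 0 → ∀ d, InW M n d →
      InW M n ((rs Q u).1 ((rs Q u').1 d)) := by
    intro u hu hQu m hm u' hu' hQ' hu'n d hd
    have h := hd.conj (st.frame_pair hu hu' hQu hQ'.symm)
    have e1 : (rs Q u * rs Q u').1 n = n := by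
      show (rs Q u).1 ((rs Q u').1 n) = n
      rw [rs_fix hu'n, rs_fix (hnorth u hu)]
    rw [e1] at h
    exact h
  -- a non-zero parameter in the piece
  obtain ⟨u, hu, hQu, huw, -⟩ := exists_aniso_outside (st.nd e) (st.rich e)
    (A := LinearMap.ker (QuadraticMap.polarBilin Q (p e w))) (B := LinearMap.ker (QuadraticMap.polarBilin Q (p e w)))
    (fun h => hwe (st.nd e _ (st.mem e w) fun y hy => h hy))
    (fun h => hwe (st.nd e _ (st.mem e w) fun y hy => h hy))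
  rw [LinearMap.mem_ker] at huw
  change polar Q (p e w) u ≠ 0 at huw
  obtain ⟨u₂, hu₂, hQu₂, hu₂n⟩ : ∃ u₂ ∈ D e, Q u₂ = Q u ∧ ∀ r : F, u₂ ≠ r • u := by
    by_contra hh
    push Not at hh
    have hle : D e ≤ Submodule.span F {u} := fun y hy => by
      refine (Submodule.span_le.2 ?_) (st.value_span hu hQu y hy)
      rintro v ⟨hv, hQv⟩
      obtain ⟨s, rfl⟩ := hh v hv hQv
      exact Submodule.smul_mem _ s (Submodule.mem_span_singleton_self u)
    have h := Submodule.finrank_mono hle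
    rw [st.dim, finrank_span_singleton (fun h => hQu (by rw [h]; exact map_zero Q))] at h
    have := st.kge
    omega
  obtain ⟨m, hm, u', hu', hQ', hu'n⟩ := hpartner u hu hQu
  have h1 := move u hu hQu m hm u' hu' hQ' hu'n w hw
  have h2 := move u₂ hu₂ (hQu₂ ▸ hQu) m hm u' hu' (hQ'.trans hQu₂.symm) hu'n w hw
  obtain ⟨δ, hδ⟩ : ∃ δ, δ = (rs Q u).1 ((rs Q u').1 w) - (rs Q u₂).1 ((rs Q u').1 w) := ⟨_, rfl⟩
  have hδW : δ ∈ wSub M hn := hδ ▸ sub_mem (mem_wSub.2 h1) (mem_wSub.2 h2)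
  have hval : ∀ v ∈ D e, polar Q v ((rs Q u').1 w) = polar Q v w := fun v hv => by
    conv_lhs => rw [← rs_fix (Q := Q) (v := u') (z := v) (st.orth m e hm u' hu' v hv)]
    exact polar_map _ _ _
  have hδe : δ = ((Q u₂)⁻¹ * polar Q u₂ w) • u₂ - ((Q u)⁻¹ * polar Q u w) • u := by
    rw [hδ, rs_apply hQu, rs_apply (hQu₂ ▸ hQu : Q u₂ ≠ 0), hval u hu, hval u₂ hu₂]; abel
  have hδm : δ ∈ D e := hδe ▸ sub_mem ((D e).smul_mem _ hu₂) ((D e).smul_mem _ hu)
  have huw' : polar Q u w ≠ 0 := by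
    rwa [st.polar_p w hu, QuadraticMap.polar_comm] at huw
  have hδ0 : δ ≠ 0 := fun h => by
    rw [hδe, sub_eq_zero] at h
    rcases eq_or_ne ((Q u₂)⁻¹ * polar Q u₂ w) 0 with h0 | h0
    · rw [h0, zero_smul, eq_comm, smul_eq_zero] at h
      exact h.elim (mul_ne_zero (inv_ne_zero hQu) huw') (fun h => hQu (by rw [h]; exact map_zero Q))
    · refine hu₂n (((Q u₂)⁻¹ * polar Q u₂ w)⁻¹ * ((Q u)⁻¹ * polar Q u w)) ?_
      rw [← smul_smul, ← h, smul_smul, inv_mul_cancel₀ h0, one_smul]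
  intro d hd
  refine mem_wSub.1 (le_of_refl_invariant (st.nd e) (st.rich e) (st.dim_two e) (wSub M hn)
    (fun v hv hQv z hz hzW => ?_) hδm hδW hδ0 d hd)
  obtain ⟨m', hm', v', hv', hQ'', hv'n⟩ := hpartner v hv hQv
  have h := move v hv hQv m' hm' v' hv' hQ'' hv'n z (mem_wSub.1 hzW)
  rw [rs_fix (st.orth m' e hm' v' hv' z hz)] at h
  exact mem_wSub.2 h

omit st in
/-- two non-squares differ by a square -/
theorem square_of_not {a b : F} {c : F} (ha : a ≠ 0) (hb : b ≠ 0) (hc : c ≠ 0)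
    (h1 : ¬ IsSquare (a / c)) (h2 : ¬ IsSquare (b / c)) : IsSquare (a / b) := by
  rcases two_of_three ha hc hb with h | h | h
  · exact absurd h h1
  · exact absurd (isSquare_flip h) h2
  · exact h

/-- three anisotropic components and free reflections -/
theorem linked_free (hk : k = 2) {c : F} (hc : c ≠ 0) {x : V} (hx : InK D M c x) {i j l : Fin t} (hij : i ≠ j)
    (hil : i ≠ l) (hjl : j ≠ l) (hi : Q (p i x) ≠ 0) (hj : Q (p j x) ≠ 0) (hl : Q (p l x) ≠ 0)
    (hfree : ∀ r : F, r ≠ 0 → ∃ m, ∃ u ∈ D m, Q u ≠ 0 ∧ polar Q u x = 0 ∧ IsSquare (Q u / r)) :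
    Linked D p k M := by
  have hne : ∀ {m}, Q (p m x) ≠ 0 → p m x ≠ 0 := fun {m} h h0 => h (by rw [h0]; exact map_zero Q)
  rcases st.good_three hk x hi hj hl with h | h | h
  · obtain ⟨v, hv, v', hv', hQv, hQv', hvx, h0⟩ := h
    exact st.linked_pair hk hc hx hij hv hv' hQv hQv' hvx h0 (Or.inr hfree) ⟨l, Ne.symm hil, Ne.symm hjl, hne hl⟩
  · obtain ⟨v, hv, v', hv', hQv, hQv', hvx, h0⟩ := h
    exact st.linked_pair hk hc hx hil hv hv' hQv hQv' hvx h0 (Or.inr hfree) ⟨j, Ne.symm hij, hjl, hne hj⟩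
  · obtain ⟨v, hv, v', hv', hQv, hQv', hvx, h0⟩ := h
    exact st.linked_pair hk hc hx hjl hv hv' hQv hQv' hvx h0 (Or.inr hfree) ⟨i, hij, hil, hne hi⟩

/-- two disjoint good pairs and a fifth component -/
theorem linked_four (hk : k = 2) {c : F} (hc : c ≠ 0) {x : V} (hx : InK D M c x) {a b a' b' e : Fin t}
    (hab : a ≠ b) (haa : a ≠ a') (hab' : a ≠ b') (hba : b ≠ a') (hbb : b ≠ b') (ha'b' : a' ≠ b')
    (hea : e ≠ a) (heb : e ≠ b) (hea' : e ≠ a') (heb' : e ≠ b') (hxe : p e x ≠ 0)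
    {v₁ v₂ v₃ v₄ : V} (h₁ : v₁ ∈ D a) (h₂ : v₂ ∈ D b) (h₃ : v₃ ∈ D a') (h₄ : v₄ ∈ D b')
    (n₁ : Q v₁ ≠ 0) (n₂ : Q v₂ ≠ 0) (n₃ : Q v₃ ≠ 0) (n₄ : Q v₄ ≠ 0)
    (b₁ : polar Q v₁ x ≠ 0) (b₃ : polar Q v₃ x ≠ 0)
    (s₁ : polar Q v₁ x ^ 2 / Q v₁ + polar Q v₂ x ^ 2 / Q v₂ = 0)
    (s₃ : polar Q v₃ x ^ 2 / Q v₃ + polar Q v₄ x ^ 2 / Q v₄ = 0)
    (c₁ : IsSquare (c / Q v₁)) (c₃ : IsSquare (c / Q v₃)) (d₁₂ : ¬ IsSquare (Q v₁ / Q v₂))
    (d₃₄ : ¬ IsSquare (Q v₃ / Q v₄)) : Linked D p k M := by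
  obtain ⟨l₁, hl₁⟩ : ∃ l, l = (Q v₁)⁻¹ * polar Q v₁ x := ⟨_, rfl⟩
  obtain ⟨l₂, hl₂⟩ : ∃ l, l = (Q v₂)⁻¹ * polar Q v₂ x := ⟨_, rfl⟩
  obtain ⟨l₃, hl₃⟩ : ∃ l, l = (Q v₃)⁻¹ * polar Q v₃ x := ⟨_, rfl⟩
  obtain ⟨l₄, hl₄⟩ : ∃ l, l = (Q v₄)⁻¹ * polar Q v₄ x := ⟨_, rfl⟩
  obtain ⟨n, hn⟩ : ∃ n, n = -(l₁ • v₁ + l₂ • v₂ + l₃ • v₃ + l₄ • v₄) := ⟨_, rfl⟩
  have hd : ∀ {v v' : V}, Q v ≠ 0 → Q v' ≠ 0 → IsSquare (c / Q v) → ¬ IsSquare (Q v / Q v') →
      ¬ IsSquare (Q v' / c) := fun {v v'} hQv hQv' h1 h2 h3 => h2 (by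
    have h' := IsSquare.mul (isSquare_flip h1) (isSquare_flip h3)
    rwa [show Q v / c * (c / Q v') = Q v / Q v' by field_simp] at h')
  have h24 := square_of_not n₂ n₄ hc (hd n₁ n₂ c₁ d₁₂) (hd n₃ n₄ c₃ d₃₄)
  have hyK : InK D M c (x + n) := by
    have h1 := st.inK_rs_class hc h₃ n₃ c₃ (st.inK_rs_class hc h₁ n₁ c₁
      (st.inK_rs_scaled hc h₂ h₄ n₂ n₄ h24 hx))
    have hstep : ∀ (v y : V), Q v ≠ 0 → polar Q v y = polar Q v x →
        (rs Q v).1 y = y - ((Q v)⁻¹ * polar Q v x) • v := fun v y hv h => by rw [rs_apply hv, h]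
    rw [hstep v₄ x n₄ rfl, ← hl₄, hstep v₂ _ n₂ (by
        rw [QuadraticMap.polar_sub_right, QuadraticMap.polar_smul_right, st.orth b b' hbb v₂ h₂ v₄ h₄, smul_zero,
          sub_zero]), ← hl₂, hstep v₁ _ n₁ (by
        rw [QuadraticMap.polar_sub_right, QuadraticMap.polar_sub_right, QuadraticMap.polar_smul_right,
          QuadraticMap.polar_smul_right, st.orth a b hab v₁ h₁ v₂ h₂, st.orth a b' hab' v₁ h₁ v₄ h₄, smul_zero,
          smul_zero, sub_zero, sub_zero]), ← hl₁, hstep v₃ _ n₃ (by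
        rw [QuadraticMap.polar_sub_right, QuadraticMap.polar_sub_right, QuadraticMap.polar_sub_right,
          QuadraticMap.polar_smul_right, QuadraticMap.polar_smul_right, QuadraticMap.polar_smul_right,
          st.orth a' a (Ne.symm haa) v₃ h₃ v₁ h₁, st.orth a' b (Ne.symm hba) v₃ h₃ v₂ h₂,
          st.orth a' b' ha'b' v₃ h₃ v₄ h₄, smul_zero, smul_zero, smul_zero, sub_zero, sub_zero, sub_zero]),
      ← hl₃] at h1
    convert h1 using 1
    rw [hn]
    abel
  have hQn : Q n = 0 := by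
    rw [hn, QuadraticMap.map_neg, QuadraticMap.map_add (Q : QuadraticMap F V F),
      QuadraticMap.map_add (Q : QuadraticMap F V F), QuadraticMap.map_add (Q : QuadraticMap F V F)]
    simp only [QuadraticMap.polar_add_left, QuadraticMap.polar_smul_left, QuadraticMap.polar_smul_right,
      quad_smul, st.orth a b hab v₁ h₁ v₂ h₂, st.orth a a' haa v₁ h₁ v₃ h₃, st.orth a b' hab' v₁ h₁ v₄ h₄,
      st.orth b a' hba v₂ h₂ v₃ h₃, st.orth b b' hbb v₂ h₂ v₄ h₄, st.orth a' b' ha'b' v₃ h₃ v₄ h₄,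
      smul_zero, add_zero, hl₁, hl₂, hl₃, hl₄]
    have e1 : ∀ (r s : F), r ≠ 0 → r⁻¹ * s * (r⁻¹ * s) * r = s ^ 2 / r := fun r s hr => by field_simp
    rw [e1 _ _ n₁, e1 _ _ n₂, e1 _ _ n₃, e1 _ _ n₄]
    linear_combination s₁ + s₃
  have hne : p e n = 0 := by
    rw [hn, map_neg, map_add, map_add, map_add, map_smul, map_smul, map_smul, map_smul, st.p_other hea h₁,
      st.p_other heb h₂, st.p_other hea' h₃, st.p_other heb' h₄]
    simp
  have hnK : InW M n (c⁻¹ • x) := by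
    have h := st.inW_of_sub hc hx hyK (by rwa [add_sub_cancel_left])
    rwa [add_sub_cancel_left] at h
  have hnv : ∀ {m : Fin t} {u : V}, u ∈ D m → polar Q u n = -(l₁ * polar Q u v₁ + l₂ * polar Q u v₂ +
      l₃ * polar Q u v₃ + l₄ * polar Q u v₄) := fun {m u} hu => by
    rw [hn, QuadraticMap.polar_neg_right, QuadraticMap.polar_add_right, QuadraticMap.polar_add_right,
      QuadraticMap.polar_add_right, QuadraticMap.polar_smul_right, QuadraticMap.polar_smul_right,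
      QuadraticMap.polar_smul_right, QuadraticMap.polar_smul_right]
    rfl
  have hperp : ∀ r : F, r ≠ 0 → ∃ m, m ≠ e ∧ ∃ u ∈ D m, Q u ≠ 0 ∧ polar Q u n = 0 ∧ IsSquare (Q u / r) := by
    intro r hr
    rcases st.free_of_classes hk h₁ h₂ n₁ n₂ d₁₂ r hr with ⟨u, hu, hQu, hvu, hs⟩ | ⟨u, hu, hQu, hvu, hs⟩
    · refine ⟨a, Ne.symm hea, u, hu, hQu, ?_, hs⟩
      rw [hnv hu, QuadraticMap.polar_comm _ u v₁, hvu, st.orth a b hab u hu v₂ h₂,
        st.orth a a' haa u hu v₃ h₃, st.orth a b' hab' u hu v₄ h₄]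
      simp
    · refine ⟨b, Ne.symm heb, u, hu, hQu, ?_, hs⟩
      rw [hnv hu, QuadraticMap.polar_comm _ u v₂, hvu, st.orth b a (Ne.symm hab) u hu v₁ h₁,
        st.orth b a' hba u hu v₃ h₃, st.orth b b' hbb u hu v₄ h₄]
      simp
  have hD := st.inW_piece hQn hnK hne (by rw [map_smul]; exact smul_ne_zero (inv_ne_zero hc) hxe)
    (fun u hu hQu => by
      obtain ⟨m, hm, u', hu', hQu', hu'n, ⟨s, hs⟩⟩ := hperp (Q u) hQu
      have hs0 : s ≠ 0 := fun h => by rw [h, mul_zero, div_eq_zero_iff] at hs; exact hs.elim hQu' hQu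
      refine ⟨m, hm, s⁻¹ • u', (D m).smul_mem _ hu', ?_, ?_⟩
      · rw [quad_smul, (div_eq_iff hQu).1 hs]; field_simp
      · rw [QuadraticMap.polar_smul_left, hu'n, smul_zero])
  obtain ⟨-, i₀, f, hf, hQf, -⟩ := id hx
  obtain ⟨d, hd, hQd⟩ := st.value_exists hf e
  rw [hQf] at hQd
  have hdn : polar Q d n = 0 := by
    rw [QuadraticMap.polar_comm, ← st.polar_p n hd, hne, QuadraticMap.polar_zero_left]
  have hy : InK D M c (d + n) := by
    refine ⟨by rw [QuadraticMap.map_add (Q : QuadraticMap F V F), hQd, hQn, hdn, add_zero, add_zero],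
      e, d, hd, hQd, ?_⟩
    have h := hD _ ((D e).smul_mem c⁻¹ hd)
    have h' := inv_mem h.2
    rw [← hQd, ← rs_mul_rs (hQd.symm ▸ hc) hQn hdn, mul_inv_rev, rs_inv, rs_inv] at h'
    exact h'
  have comp : ∀ {m : Fin t}, m ≠ e → p m (d + n) = p m n := fun {m} hm => by
    rw [map_add, st.p_other hm hd, zero_add]
  have pa : p a n = -(l₁ • v₁) := by
    rw [hn, map_neg, map_add, map_add, map_add, map_smul, map_smul, map_smul, map_smul, st.p_self h₁,
      st.p_other hab h₂, st.p_other haa h₃, st.p_other hab' h₄]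
    simp
  have pa' : p a' n = -(l₃ • v₃) := by
    rw [hn, map_neg, map_add, map_add, map_add, map_smul, map_smul, map_smul, map_smul, st.p_self h₃,
      st.p_other (Ne.symm haa) h₁, st.p_other (Ne.symm hba) h₂, st.p_other ha'b' h₄]
    simp
  have qne : ∀ {l : F} {v : V}, l ≠ 0 → Q v ≠ 0 → Q (-(l • v)) ≠ 0 := fun {l v} hl hv => by
    rw [QuadraticMap.map_neg, quad_smul]; exact mul_ne_zero (mul_ne_zero hl hl) hv
  refine st.linked_free hk hc hy haa (Ne.symm hea) (Ne.symm hea') ?_ ?_ ?_ fun r hr => ?_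
  · rw [comp (Ne.symm hea), pa]; exact qne (hl₁ ▸ mul_ne_zero (inv_ne_zero n₁) b₁) n₁
  · rw [comp (Ne.symm hea'), pa']; exact qne (hl₃ ▸ mul_ne_zero (inv_ne_zero n₃) b₃) n₃
  · rw [map_add, st.p_self hd, hne, add_zero, hQd]; exact hc
  · obtain ⟨m, hm, u, hu, hQu, hun, hs⟩ := hperp r hr
    exact ⟨m, u, hu, hQu, by rw [QuadraticMap.polar_add_right, st.orth m e hm u hu d hd, hun, add_zero], hs⟩

/-- planes: three components -/
theorem linked_three (hk : k = 2) {c : F} (hc : c ≠ 0) {x : V} (hx : InK D M c x) {i j l : Fin t} (hij : i ≠ j)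
    (hil : i ≠ l) (hjl : j ≠ l) (hi : p i x ≠ 0) (hj : p j x ≠ 0) (hl : p l x ≠ 0) : Linked D p k M := by
  classical
  by_cases hsing : ∃ m, p m x ≠ 0 ∧ Q (p m x) = 0
  · obtain ⟨m, hm, hQm⟩ := hsing
    have hq := st.seven_le hk (st.mem m x) hm hQm
    refine st.linked_singular (by omega) hc hx hm hQm ?_
    rcases eq_or_ne i m with rfl | h
    · exact ⟨j, Ne.symm hij, hj⟩
    · exact ⟨i, h, hi⟩
  push Not at hsing
  by_contra hno
  -- with a good pair in different classes the vector is free unless all its components are non-zero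
  have step : ∀ {a b : Fin t}, a ≠ b → Good Q D x a b → (∃ m, m ≠ a ∧ m ≠ b ∧ p m x ≠ 0) →
      (∀ m, p m x ≠ 0) ∧ ∃ a' b', ((a' = a ∧ b' = b) ∨ (a' = b ∧ b' = a)) ∧ ∃ v ∈ D a', ∃ v' ∈ D b',
        Q v ≠ 0 ∧ Q v' ≠ 0 ∧ polar Q v x ≠ 0 ∧ polar Q v x ^ 2 / Q v + polar Q v' x ^ 2 / Q v' = 0 ∧
        IsSquare (c / Q v) ∧ ¬ IsSquare (Q v / Q v') := by
    intro a b hab hg hout
    obtain ⟨v, hv, v', hv', hQv, hQv', hvx, h0⟩ := hg
    have hcls : ¬ IsSquare (Q v / Q v') := fun h =>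
      hno (st.linked_pair hk hc hx hab hv hv' hQv hQv' hvx h0 (Or.inl h) hout)
    refine ⟨fun m hm => hno (st.linked_pair hk hc hx hab hv hv' hQv hQv' hvx h0 (Or.inr fun r hr => ?_) hout), ?_⟩
    · obtain ⟨u, hu, hQu, hs⟩ := st.class_in_piece hv hv' hQv hQv' hcls m r hr
      refine ⟨m, u, hu, hQu, ?_, hs⟩
      rw [QuadraticMap.polar_comm, ← st.polar_p x hu, hm, QuadraticMap.polar_zero_left]
    rcases two_of_three hQv hc hQv' with h | h | h
    · exact ⟨a, b, Or.inl ⟨rfl, rfl⟩, v, hv, v', hv', hQv, hQv', hvx, h0, isSquare_flip h, hcls⟩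
    · refine ⟨b, a, Or.inr ⟨rfl, rfl⟩, v', hv', v, hv, hQv', hQv, fun h' => ?_, by rw [add_comm]; exact h0, h,
        fun h' => hcls (isSquare_flip h')⟩
      rw [h', zero_pow two_ne_zero, zero_div, add_zero, div_eq_zero_iff] at h0
      exact h0.elim (pow_ne_zero 2 hvx) hQv
    · exact absurd h hcls
  have fin : ∀ {a b r : Fin t}, a ≠ b → a ≠ r → b ≠ r → Good Q D x a b → p r x ≠ 0 → False := by
    intro a b r hab har hbr hg hr
    obtain ⟨hfull, a₁, b₁, hp₁, v₁, h₁, v₂, h₂, n₁, n₂, x₁, s₁, c₁, d₁⟩ :=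
      step hab hg ⟨r, Ne.symm har, Ne.symm hbr, hr⟩
    have ht := st.five_t hk
    obtain ⟨T, hT⟩ : ∃ T : Finset (Fin t), T = Finset.univ \ {a, b} := ⟨_, rfl⟩
    have hTc : 2 < T.card := by
      rw [hT, Finset.card_sdiff_of_subset (Finset.subset_univ _), Finset.card_univ, Fintype.card_fin]
      have := Finset.card_le_two (a := a) (b := b)
      omega
    obtain ⟨i₁, i₂, i₃, m₁, m₂, m₃, e₁₂, e₁₃, e₂₃⟩ := Finset.two_lt_card_iff.1 hTc
    simp only [hT, Finset.mem_sdiff, Finset.mem_univ, true_and, Finset.mem_insert, Finset.mem_singleton,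
      not_or] at m₁ m₂ m₃
    have hQ : ∀ m, Q (p m x) ≠ 0 := fun m => hsing m (hfull m)
    have done : ∀ {a' b' e : Fin t}, a' ≠ b' → a' ≠ e → b' ≠ e → a' ≠ a → a' ≠ b → b' ≠ a → b' ≠ b →
        e ≠ a → e ≠ b → Good Q D x a' b' → False := by
      intro a' b' e hab' hae hbe h1 h2 h3 h4 h5 h6 hg'
      obtain ⟨-, a₂, b₂, hp₂, v₃, h₃, v₄, h₄, n₃, n₄, x₃, s₃, c₃, d₃⟩ :=
        step hab' hg' ⟨e, Ne.symm hae, Ne.symm hbe, hfull e⟩
      rcases hp₁ with ⟨rfl, rfl⟩ | ⟨rfl, rfl⟩ <;> rcases hp₂ with ⟨rfl, rfl⟩ | ⟨rfl, rfl⟩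
      · exact hno (st.linked_four hk hc hx hab (Ne.symm h1) (Ne.symm h3) (Ne.symm h2) (Ne.symm h4) hab' h5 h6
          (Ne.symm hae) (Ne.symm hbe) (hfull e) h₁ h₂ h₃ h₄ n₁ n₂ n₃ n₄ x₁ x₃ s₁ s₃ c₁ c₃ d₁ d₃)
      · exact hno (st.linked_four hk hc hx hab (Ne.symm h3) (Ne.symm h1) (Ne.symm h4) (Ne.symm h2)
          (Ne.symm hab') h5 h6 (Ne.symm hbe) (Ne.symm hae) (hfull e) h₁ h₂ h₃ h₄ n₁ n₂ n₃ n₄ x₁ x₃ s₁ s₃ c₁
          c₃ d₁ d₃)
      · exact hno (st.linked_four hk hc hx (Ne.symm hab) (Ne.symm h2) (Ne.symm h4) (Ne.symm h1) (Ne.symm h3)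
          hab' h6 h5 (Ne.symm hae) (Ne.symm hbe) (hfull e) h₁ h₂ h₃ h₄ n₁ n₂ n₃ n₄ x₁ x₃ s₁ s₃ c₁ c₃ d₁ d₃)
      · exact hno (st.linked_four hk hc hx (Ne.symm hab) (Ne.symm h4) (Ne.symm h2) (Ne.symm h3) (Ne.symm h1)
          (Ne.symm hab') h6 h5 (Ne.symm hbe) (Ne.symm hae) (hfull e) h₁ h₂ h₃ h₄ n₁ n₂ n₃ n₄ x₁ x₃ s₁ s₃ c₁
          c₃ d₁ d₃)
    rcases st.good_three hk x (hQ i₁) (hQ i₂) (hQ i₃) with h | h | h
    · exact done e₁₂ e₁₃ e₂₃ m₁.1 m₁.2 m₂.1 m₂.2 m₃.1 m₃.2 h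
    · exact done e₁₃ e₁₂ (Ne.symm e₂₃) m₁.1 m₁.2 m₃.1 m₃.2 m₂.1 m₂.2 h
    · exact done e₂₃ (Ne.symm e₁₂) (Ne.symm e₁₃) m₂.1 m₂.2 m₃.1 m₃.2 m₁.1 m₁.2 h
  rcases st.good_three hk x (hsing i hi) (hsing j hj) (hsing l hl) with h | h | h
  · exact fin hij hil hjl h hl
  · exact fin hil hij (Ne.symm hjl) h hj
  · exact fin hjl (Ne.symm hij) (Ne.symm hil) h hi

/-- an isometry between planes with a prescribed image of an anisotropic vector -/
theorem exists_iso_value {a b : Fin t} {y w : V} (hy : y ∈ D a) (hw : w ∈ D b) (h : Q w = Q y) (h0 : Q y ≠ 0) :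
    ∃ e : D a ≃ₗ[F] D b, (∀ z : D a, Q ((e z : D b) : V) = Q (z : V)) ∧ (e ⟨y, hy⟩ : V) = w := by
  obtain ⟨e, he⟩ := st.iso a b
  obtain ⟨g, hg, hgw⟩ := exists_isom_vector (Q.comp (D b).subtype)
    (fun x hx => Subtype.ext (st.nd b x x.2 fun z hz => hx ⟨z, hz⟩)) (x := e ⟨y, hy⟩) (y := ⟨w, hw⟩)
    (fun h' => h0 (by
      have := he ⟨y, hy⟩
      rw [h', Submodule.coe_zero, map_zero] at this
      exact this.symm))
    (fun h' => h0 (by rw [← h, show w = 0 from congrArg Subtype.val h']; exact map_zero Q))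
    ((he ⟨y, hy⟩).trans h.symm)
  refine ⟨e.trans g, fun z => ?_, ?_⟩
  · exact (mem_quadIsoms.1 hg (e z)).trans (he z)
  · simp only [LinearEquiv.trans_apply, hgw]

/-- second step: a class vector outside the pieces gives a link -/
theorem second (hmv : Moved D M) : Linked D p k M := by
  classical
  obtain ⟨c, hc, x, hx, hout⟩ := hmv
  have hx0 : x ≠ 0 := fun h => by
    have := st.two_t
    exact hout ⟨0, by omega⟩ (h ▸ zero_mem _)
  obtain ⟨i, hi⟩ : ∃ i, p i x ≠ 0 := by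
    by_contra hh
    push Not at hh
    exact hx0 (by rw [← st.sum x]; exact Finset.sum_eq_zero fun i _ => hh i)
  have other : ∀ i, ∃ j, j ≠ i ∧ p j x ≠ 0 := fun i => by
    by_contra hh
    push Not at hh
    refine hout i ?_
    rw [← st.sum x, Finset.sum_eq_single i (fun l _ hl => hh l hl) (by simp)]
    exact st.mem i x
  rcases eq_or_lt_of_le st.kge with hk2 | hk3
  · have hk : k = 2 := hk2.symm
    obtain ⟨j, hji, hj⟩ := other i
    by_cases hthree : ∃ l, l ≠ i ∧ l ≠ j ∧ p l x ≠ 0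
    · obtain ⟨l, hli, hlj, hl⟩ := hthree
      exact st.linked_three hk hc hx (Ne.symm hji) (Ne.symm hli) (Ne.symm hlj) hi hj hl
    push Not at hthree
    by_cases hQi : Q (p i x) = 0
    · exact st.linked_singular (by have := st.seven_le hk (st.mem i x) hi hQi; omega) hc hx hi hQi ⟨j, hji, hj⟩
    by_cases hQj : Q (p j x) = 0
    · exact st.linked_singular (by have := st.seven_le hk (st.mem j x) hj hQj; omega) hc hx hj hQj
        ⟨i, Ne.symm hji, hi⟩
    have ht := st.five_t hk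
    obtain ⟨l, -, hl⟩ := Finset.exists_mem_notMem_of_card_lt_card (s := ({i, j} : Finset (Fin t)))
      (t := Finset.univ) (lt_of_le_of_lt Finset.card_le_two (by rw [Finset.card_univ, Fintype.card_fin]; omega))
    simp only [Finset.mem_insert, Finset.mem_singleton, not_or] at hl
    obtain ⟨w₀, hw₀, hQw₀⟩ := st.value_exists (st.mem i x) j
    obtain ⟨w, hw, hQw, hwx, hwn⟩ := st.exists_mixed_value hk hw₀ (st.mem j x) (hQw₀.symm ▸ hQi) hQj
    obtain ⟨e₁, he₁, he₁'⟩ := st.exists_iso_value (st.mem i x) hw (hQw.trans hQw₀) hQi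
    obtain ⟨e₂, he₂⟩ := st.iso j l
    -- the cycle is built on the pair `(l, j)` reversed, so that `D i` goes to `D j` and `D j` to `D l`
    obtain ⟨σ, -, hσc, hσs, hσa, hσl, hσj, -⟩ := st.exists_cycle' (a := j) (l := i) (j := l)
      hji (Ne.symm hl.2) (Ne.symm hl.1) e₁.symm
      (fun z => by
        have := he₁ (e₁.symm z)
        rwa [LinearEquiv.apply_symm_apply, eq_comm] at this)
      (e₁.trans e₂) (fun z => by rw [LinearEquiv.trans_apply]; exact (he₂ _).trans (he₁ z))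
    have h1 : σ.1 (p i x) = w := by
      rw [hσl ⟨_, st.mem i x⟩, LinearEquiv.symm_symm]; exact he₁'
    have h2 : σ.1 (p j x) = (e₂ ⟨p j x, st.mem j x⟩ : D l) := by
      rw [hσa ⟨_, st.mem j x⟩, LinearEquiv.trans_apply, LinearEquiv.apply_symm_apply]
    have hxe : x = p i x + p j x := by
      conv_lhs => rw [← st.sum x]
      refine (Finset.sum_eq_add i j (Ne.symm hji) (fun m _ hm => hthree m hm.1 hm.2) (by simp) (by simp))
    obtain ⟨z, hz⟩ : ∃ z : V, z = (e₂ ⟨p j x, st.mem j x⟩ : D l) := ⟨_, rfl⟩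
    have hzm : z ∈ D l := hz ▸ Subtype.coe_prop _
    have hz0 : z ≠ 0 := fun h => hj (congrArg Subtype.val (e₂.injective (a₁ := ⟨p j x, st.mem j x⟩) (a₂ := 0)
      (Subtype.ext (by rw [← hz, h, map_zero]; rfl))))
    have hσx : σ.1 x = w + z := by rw [hxe, map_add, h1, h2, hz]
    have hK := st.inK_stab hc hσc hσs hx
    have hy := st.inK_refl hc hK hx
    rw [rs_apply (hK.1.symm ▸ hc), hσx] at hy
    obtain ⟨β, hβ⟩ : ∃ β, β = (Q (w + z))⁻¹ * polar Q (w + z) x := ⟨_, rfl⟩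
    rw [← hβ] at hy
    have hβ0 : β ≠ 0 := by
      rw [hβ, QuadraticMap.polar_add_left]
      refine mul_ne_zero (inv_ne_zero ?_) ?_
      · rw [← hσx, σ.2, hx.1]; exact hc
      · rw [QuadraticMap.polar_comm _ z x, ← st.polar_p x hzm, hthree l hl.1 hl.2, QuadraticMap.polar_zero_left,
          add_zero, QuadraticMap.polar_comm, ← st.polar_p x hw, QuadraticMap.polar_comm]
        exact hwx
    refine st.linked_three hk hc hy (Ne.symm hji) (Ne.symm hl.1) (Ne.symm hl.2) ?_ ?_ ?_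
    · rw [map_sub, map_smul, map_add, st.p_other (Ne.symm hji) hw, st.p_other (Ne.symm hl.1) hzm, add_zero,
        smul_zero, sub_zero]
      exact hi
    · rw [map_sub, map_smul, map_add, st.p_self hw, st.p_other (Ne.symm hl.2) hzm, add_zero]
      intro h
      rw [sub_eq_zero] at h
      exact hwn β⁻¹ (by rw [h, smul_smul, inv_mul_cancel₀ hβ0, one_smul])
    · rw [map_sub, map_smul, map_add, st.p_other hl.2 hw, st.p_self hzm, zero_add, hthree l hl.1 hl.2, zero_sub,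
        neg_ne_zero]
      exact smul_ne_zero hβ0 hz0
  · obtain ⟨hk, h2, hq⟩ : 4 ≤ k ∧ (2 : F) = 0 ∧ (5 ≤ k ∨ 4 ≤ Nat.card F) := by
      rcases st.shape with ⟨h, -⟩ | ⟨h, -, h', h''⟩
      · omega
      · exact ⟨h, h', h''⟩
    by_cases hscale : Q (p i x) = 0 ∧ 4 ≤ Nat.card F
    · exact st.linked_singular hscale.2 hc hx hi hscale.1 (other i)
    obtain ⟨b, hb⟩ : ∃ b, b = p i x := ⟨_, rfl⟩
    have hbD : b ∈ D i := hb ▸ st.mem i x
    have hbb : polar Q b b = 0 := by rw [polar_self_two, h2, zero_mul]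
    -- a singular vector of the piece orthogonal to `x` and not proportional to its component
    obtain ⟨u, hu, hQu, hub, hun⟩ : ∃ u ∈ D i, Q u = 0 ∧ polar Q b u = 0 ∧ ∀ r : F, u ≠ r • b := by
      have hb0 : b ≠ 0 := hb ▸ hi
      obtain ⟨φ, hφb, -⟩ := Submodule.exists_le_ker_of_notMem (p := (⊥ : Submodule F V))
        (show b ∉ (⊥ : Submodule F V) from fun h => hb0 (by simpa using h))
      obtain ⟨R, hR⟩ : ∃ R : Submodule F V, R =
          D i ⊓ LinearMap.ker ((QuadraticMap.polarBilin Q b).prod φ) := ⟨_, rfl⟩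
      have hRk : k ≤ Module.finrank F R + 2 := by
        have h3 := LinearMap.finrank_range_add_finrank_ker
          (((QuadraticMap.polarBilin Q b).prod φ).comp (D i).subtype)
        have h4 := (LinearMap.range (((QuadraticMap.polarBilin Q b).prod φ).comp (D i).subtype)).finrank_le
        rw [Module.finrank_prod, Module.finrank_self] at h4
        rw [LinearMap.ker_comp, ← Submodule.finrank_map_subtype_eq, Submodule.map_comap_subtype, ← hR,
          st.dim] at h3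
        omega
      have hRmem : ∀ v ∈ R, v ∈ D i ∧ polar Q b v = 0 ∧ φ v = 0 := fun v hv => by
        rw [hR, Submodule.mem_inf, LinearMap.mem_ker] at hv
        exact ⟨hv.1, congrArg Prod.fst hv.2, congrArg Prod.snd hv.2⟩
      by_cases hQb : Q b = 0
      · obtain ⟨u, hu, hu0, hQu⟩ := exists_singular_in (Q := Q) (W := R) (by
          rcases hq with h | h
          · omega
          · exact absurd ⟨hb ▸ hQb, h⟩ hscale)
        obtain ⟨h1, h3, h4⟩ := hRmem u hu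
        refine ⟨u, h1, hQu, h3, fun r hr => hu0 ?_⟩
        rw [hr, map_smul, smul_eq_mul] at h4
        rw [hr, (mul_eq_zero.1 h4).resolve_right hφb, zero_smul]
      · obtain ⟨r, hr, hr0⟩ := Submodule.exists_mem_ne_zero_of_ne_bot (p := R) (fun h => by
          rw [h, finrank_bot] at hRk; omega)
        obtain ⟨h1, h3, h4⟩ := hRmem r hr
        obtain ⟨s, hs⟩ := isSquare_of_two h2 (-(Q r) / Q b)
        refine ⟨r + s • b, add_mem h1 ((D i).smul_mem _ hbD), ?_, ?_, fun a ha => hr0 ?_⟩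
        · rw [quad_map_add_smul, QuadraticMap.polar_comm _ r b, h3, ← hs]
          field_simp; ring
        · rw [QuadraticMap.polar_add_right, QuadraticMap.polar_smul_right, h3, hbb, smul_zero, add_zero]
        · have e : r = (a - s) • b := by rw [sub_smul, ← ha]; abel
          rw [e, map_smul, smul_eq_mul] at h4
          rw [e, (mul_eq_zero.1 h4).resolve_right hφb, zero_smul]
    obtain ⟨w, hw, huw, hbw⟩ : ∃ w ∈ D i, polar Q u w = 0 ∧ polar Q b w ≠ 0 := by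
      by_contra hh
      push Not at hh
      obtain ⟨w₀, hw₀, hu1⟩ := (st.nd i).exists_partner hu (fun h => hun 0 (by rw [h, zero_smul]))
      rcases eq_or_ne (polar Q b w₀) 0 with h0 | h0
      · refine hi (hb ▸ st.nd i b hbD fun y hy => ?_)
        have h := hh (y - polar Q u y • w₀) (sub_mem hy ((D i).smul_mem _ hw₀))
          (by rw [QuadraticMap.polar_sub_right, QuadraticMap.polar_smul_right, hu1]; simp)
        rwa [QuadraticMap.polar_sub_right, QuadraticMap.polar_smul_right, h0, smul_zero, sub_zero] at h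
      · refine hun (polar Q b w₀)⁻¹ (sub_eq_zero.1 (st.nd i _ (sub_mem hu ((D i).smul_mem _ hbD)) fun y hy => ?_))
        have h := hh (y - polar Q u y • w₀) (sub_mem hy ((D i).smul_mem _ hw₀))
          (by rw [QuadraticMap.polar_sub_right, QuadraticMap.polar_smul_right, hu1]; simp)
        rw [QuadraticMap.polar_sub_right, QuadraticMap.polar_smul_right, smul_eq_mul, sub_eq_zero] at h
        rw [QuadraticMap.polar_sub_left, QuadraticMap.polar_smul_left, h, smul_eq_mul]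
        field_simp
        simp
    have hσ := st.inK_stab hc (siegel_mem_commutator st.sep st.five u w) (st.siegel_stab hu hQu hw huw) hx
    rw [siegel_apply Q hQu huw] at hσ
    have hux : polar Q u x = 0 := by
      rw [QuadraticMap.polar_comm, ← st.polar_p x hu, ← hb, hub]
    have hwx : polar Q w x ≠ 0 := by
      rwa [QuadraticMap.polar_comm, ← st.polar_p x hw, ← hb]
    obtain ⟨l, hl, hlx⟩ := other i
    rw [hux, mul_zero, add_zero, zero_smul, add_zero] at hσ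
    refine st.linked_sub hc hx hσ ?_ ?_ (i := i) (j := i) ?_ (fun _ => rfl) ⟨l, hl, hl, hlx⟩
    · rw [sub_sub_cancel_left, neg_ne_zero]
      exact smul_ne_zero hwx fun h => hun 0 (by rw [h, zero_smul])
    · rw [sub_sub_cancel_left, QuadraticMap.map_neg, quad_smul, hQu, mul_zero]
    · rw [sub_sub_cancel_left]
      exact Submodule.mem_sup_left (neg_mem ((D i).smul_mem _ hu))

end Setting

end CfsgLib.MaxSub.ORefl
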