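import Cfsg.Agent.Lib.MaxSub.ORefl.Frame
import Mathlib.NumberTheory.LegendreSymbol.QuadraticChar.Basic

/-!
Elements of the stabiliser of the decomposition with prescribed effect, and the stabiliser criterion for a
product of two reflections.
-/

set_option autoImplicit false
set_option linter.unusedSectionVars false

namespace CfsgLib.MaxSub.ORefl

open CfsgLib.Classical CfsgLib.Geom CfsgLib.Geom.OrthSub CfsgLib.MaxSub
open CfsgLib.MaxSub.OFrame (Stab InW NdOn)
open QuadraticMap (polar)

variable {F V : Type*} [Field F] [AddCommGroup V] [Module F V] {Q : QuadraticForm F V} {t : ℕ}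

/-- the reflection at a vector of a subspace, on that subspace -/
theorem exists_rsEquiv {E : Submodule F V} {u : V} (hu : u ∈ E) :
    ∃ φ : E ≃ₗ[F] E, ∀ x : E, ((φ x : E) : V) = (rs Q u).1 (x : V) := by
  have hmap : ∀ x ∈ E, (rs Q u).1.toLinearMap x ∈ E := fun x hx => by
    show (rs Q u).1 x ∈ E
    by_cases hQ : Q u = 0
    · rw [rs_zero hQ]; exact hx
    · rw [rs_apply hQ]; exact sub_mem hx (E.smul_mem _ hu)
  exact ⟨LinearEquiv.ofInvolutive ((rs Q u).1.toLinearMap.restrict hmap)
    (fun x => Subtype.ext (rs_rs u (x : V))), fun x => rfl⟩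

/-- among three non-zero scalars two differ by a square factor -/
theorem two_of_three [Finite F] {a b c : F} (ha : a ≠ 0) (hb : b ≠ 0) (hc : c ≠ 0) :
    IsSquare (a / b) ∨ IsSquare (b / c) ∨ IsSquare (a / c) := by
  classical
  haveI := Fintype.ofFinite F
  by_contra h
  push Not at h
  obtain ⟨h1, h2, h3⟩ := h
  rw [← quadraticChar_neg_one_iff_not_isSquare] at h1 h2 h3
  have e : quadraticChar F (a / c) = quadraticChar F (a / b) * quadraticChar F (b / c) := by
    rw [← map_mul]; congr 1; field_simp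
  rw [h1, h2, h3] at e
  norm_num at e

namespace Setting

variable [FiniteDimensional F V] [Finite F] {D : Fin t → Submodule F V} {p : Fin t → V →ₗ[F] V} {k : ℕ}
  {M : Subgroup (quadIsoms Q)} (st : Setting Q D p k M)
include st

theorem five_t (hk : k = 2) : 5 ≤ t := by
  rcases st.shape with ⟨-, h, -⟩ | ⟨h, -⟩
  · exact h
  · omega

theorem two_t : 2 ≤ t := by
  rcases st.shape with ⟨-, h, -⟩ | ⟨-, h, -⟩ <;> omega

/-- a piece contains an anisotropic vector -/
theorem exists_aniso (i : Fin t) : ∃ f ∈ D i, Q f ≠ 0 := by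
  have h : ¬ D i ≤ ⊥ := fun h => by
    have := Submodule.finrank_mono h; rw [finrank_bot, st.dim] at this; have := st.kge; omega
  obtain ⟨u, hu, hQu, -⟩ := exists_aniso_outside (st.nd i) (st.rich i) h h
  exact ⟨u, hu, hQu⟩

/-- in a plane the orthogonal of an anisotropic vector is anisotropic -/
theorem perp_aniso (hk : k = 2) {i : Fin t} {d : V} (hd : d ∈ D i) (hQd : d = 0 ∨ Q d ≠ 0) :
    ∃ f ∈ D i, Q f ≠ 0 ∧ polar Q d f = 0 := by
  rcases hQd with rfl | hQd
  · obtain ⟨f, hf, hQf⟩ := st.exists_aniso i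
    exact ⟨f, hf, hQf, QuadraticMap.polar_zero_left Q f⟩
  have h3 := LinearMap.finrank_range_add_finrank_ker ((QuadraticMap.polarBilin Q d).comp (D i).subtype)
  have h4 := (LinearMap.range ((QuadraticMap.polarBilin Q d).comp (D i).subtype)).finrank_le
  rw [Module.finrank_self] at h4
  rw [st.dim, hk] at h3
  have h5 : LinearMap.ker ((QuadraticMap.polarBilin Q d).comp (D i).subtype) ≠ ⊥ := by
    intro e; rw [e, finrank_bot] at h3; omega
  obtain ⟨f, hf, hf0⟩ := Submodule.exists_mem_ne_zero_of_ne_bot h5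
  have hdf : polar Q d (f : V) = 0 := hf
  refine ⟨f, f.2, fun hQf => hf0 (Subtype.ext (st.nd i f f.2 fun y hy => ?_)), hdf⟩
  have hli : LinearIndependent F ![d, (f : V)] := by
    refine LinearIndependent.pair_iff.2 fun r s hrs => ?_
    have h0 : Q (r • d) = 0 := by
      rw [eq_neg_of_add_eq_zero_left hrs, QuadraticMap.map_neg, quad_smul, hQf, mul_zero]
    rw [quad_smul, mul_eq_zero, or_iff_left hQd, mul_self_eq_zero] at h0
    rw [h0, zero_smul, zero_add, smul_eq_zero] at hrs
    exact ⟨h0, hrs.resolve_right fun h => hf0 (Subtype.ext h)⟩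
  have hle : Submodule.span F (Set.range ![d, (f : V)]) ≤ D i := by
    rw [Submodule.span_le]
    rintro v ⟨m, rfl⟩
    fin_cases m
    · exact hd
    · exact f.2
  have hspan := Submodule.eq_of_le_of_finrank_le hle (by
    rw [finrank_span_eq_card hli, st.dim, hk]; simp)
  rw [← hspan] at hy
  induction hy using Submodule.span_induction with
  | mem v hv =>
    obtain ⟨m, rfl⟩ := hv
    fin_cases m
    · show polar Q (f : V) d = 0
      rw [QuadraticMap.polar_comm]; exact hdf
    · show polar Q (f : V) f = 0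
      rw [polar_self_two, hQf, mul_zero]
  | zero => exact QuadraticMap.polar_zero_right Q _
  | add a b _ _ ha hb => rw [QuadraticMap.polar_add_right, ha, hb, add_zero]
  | smul r a _ ha => rw [QuadraticMap.polar_smul_right, ha, smul_zero]

/-- an opposite singular vector in a piece -/
theorem exists_opposite {i : Fin t} {x : V} (hx : x ∈ D i) (hx0 : x ≠ 0) (hQx : Q x = 0) :
    ∃ z ∈ D i, Q z = 0 ∧ polar Q x z = 1 := by
  obtain ⟨z, hz, hxz⟩ := (st.nd i).exists_partner hx hx0
  refine ⟨z + (-(Q z)) • x, add_mem hz ((D i).smul_mem _ hx), ?_, ?_⟩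
  · rw [quad_map_add_smul, hQx, QuadraticMap.polar_comm _ z x, hxz]; ring
  · rw [QuadraticMap.polar_add_right, QuadraticMap.polar_smul_right, polar_self_two, hQx, hxz]; simp

/-- an isometry between two planes with a prescribed image of a singular vector -/
theorem exists_iso_singular (hk : k = 2) {i j : Fin t} {x y : V} (hx : x ∈ D i) (hy : y ∈ D j)
    (hx0 : x ≠ 0) (hy0 : y ≠ 0) (hQx : Q x = 0) (hQy : Q y = 0) :
    ∃ e : D i ≃ₗ[F] D j, (∀ z : D i, Q ((e z : D j) : V) = Q (z : V)) ∧ (e ⟨x, hx⟩ : V) = y := by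
  obtain ⟨e, he⟩ := st.iso i j
  -- one reflection moves a singular vector to a non-orthogonal one
  have step : ∀ a b : V, a ∈ D j → b ∈ D j → Q a = 0 → Q b = 0 → polar Q a b ≠ 0 →
      ∃ φ : D j ≃ₗ[F] D j, (∀ z : D j, Q ((φ z : D j) : V) = Q (z : V)) ∧
        ∀ h : a ∈ D j, (φ ⟨a, h⟩ : V) = b := by
    intro a b ha hb hQa hQb hab
    obtain ⟨φ, hφ⟩ := exists_rsEquiv (Q := Q) (sub_mem ha hb)
    refine ⟨φ, fun z => by rw [hφ]; exact (rs Q (a - b)).2 _, fun h => ?_⟩
    have hQ' : Q (a - b) = -polar Q a b := by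
      rw [sub_eq_add_neg, QuadraticMap.map_add (Q : QuadraticMap F V F), QuadraticMap.map_neg, hQa, hQb,
        QuadraticMap.polar_neg_right]
      ring
    rw [hφ, rs_apply (hQ' ▸ neg_ne_zero.2 hab), hQ', QuadraticMap.polar_sub_left, polar_self_two, hQa,
      QuadraticMap.polar_comm _ b a, mul_zero, zero_sub, inv_mul_cancel₀ (neg_ne_zero.2 hab), one_smul,
      sub_sub_cancel]
  obtain ⟨x', hx'⟩ : ∃ x' : V, x' = (e ⟨x, hx⟩ : D j) := ⟨_, rfl⟩
  have hx'm : x' ∈ D j := hx' ▸ Subtype.coe_prop _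
  have hx'Q : Q x' = 0 := by rw [hx', he]; exact hQx
  have hx'0 : x' ≠ 0 := fun h => hx0 (congrArg Subtype.val
    (e.injective (a₁ := ⟨x, hx⟩) (a₂ := 0) (Subtype.ext (by rw [← hx', h, map_zero]; rfl))))
  by_cases hp : polar Q x' y = 0
  · obtain ⟨z, hz, hQz, hxz⟩ := st.exists_opposite hx'm hx'0 hx'Q
    have hzy : polar Q z y ≠ 0 := by
      intro hzy
      refine hy0 (st.nd j y hy fun w hw => ?_)
      have hli : LinearIndependent F ![x', z] := by
        refine LinearIndependent.pair_iff.2 fun r s hrs => ?_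
        have h1 := congrArg (polar Q x') hrs
        rw [QuadraticMap.polar_add_right, QuadraticMap.polar_smul_right, QuadraticMap.polar_smul_right,
          polar_self_two, hx'Q, hxz, QuadraticMap.polar_zero_right] at h1
        have hs : s = 0 := by simpa using h1
        rw [hs, zero_smul, add_zero, smul_eq_zero] at hrs
        exact ⟨hrs.resolve_right hx'0, hs⟩
      have hle : Submodule.span F (Set.range ![x', z]) ≤ D j := by
        rw [Submodule.span_le]
        rintro v ⟨m, rfl⟩
        fin_cases m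
        · exact hx'm
        · exact hz
      rw [← Submodule.eq_of_le_of_finrank_le hle (by rw [finrank_span_eq_card hli, st.dim, hk]; simp)] at hw
      induction hw using Submodule.span_induction with
      | mem v hv =>
        obtain ⟨m, rfl⟩ := hv
        fin_cases m
        · show polar Q y x' = 0
          rw [QuadraticMap.polar_comm]; exact hp
        · show polar Q y z = 0
          rw [QuadraticMap.polar_comm]; exact hzy
      | zero => exact QuadraticMap.polar_zero_right Q _
      | add a b _ _ ha hb => rw [QuadraticMap.polar_add_right, ha, hb, add_zero]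
      | smul r a _ ha => rw [QuadraticMap.polar_smul_right, ha, smul_zero]
    obtain ⟨φ₁, hφ₁, hφ₁'⟩ := step x' z hx'm hz hx'Q hQz (by rw [hxz]; exact one_ne_zero)
    obtain ⟨φ₂, hφ₂, hφ₂'⟩ := step z y hz hy hQz hQy hzy
    refine ⟨e.trans (φ₁.trans φ₂), fun w => ?_, ?_⟩
    · simp only [LinearEquiv.trans_apply]; rw [hφ₂, hφ₁, he]
    · simp only [LinearEquiv.trans_apply]
      rw [show φ₁ (e ⟨x, hx⟩) = ⟨z, hz⟩ from Subtype.ext (by
        rw [show e ⟨x, hx⟩ = ⟨x', hx'm⟩ from Subtype.ext hx'.symm]; exact hφ₁' hx'm)]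
      exact hφ₂' hz
  · obtain ⟨φ, hφ, hφ'⟩ := step x' y hx'm hy hx'Q hQy hp
    refine ⟨e.trans φ, fun w => ?_, ?_⟩
    · simp only [LinearEquiv.trans_apply]; rw [hφ, he]
    · simp only [LinearEquiv.trans_apply]
      rw [show e ⟨x, hx⟩ = ⟨x', hx'm⟩ from Subtype.ext hx'.symm]
      exact hφ' hx'm

/-- the difference between a vector and its component is orthogonal to the piece -/
theorem polar_rest (m : Fin t) (x : V) {y : V} (hy : y ∈ D m) : polar Q y (x - p m x) = 0 := by
  rw [QuadraticMap.polar_comm, QuadraticMap.polar_sub_left, st.polar_p x hy, sub_self]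

/-- a plane with a singular vector has many scalars -/
theorem seven_le (hk : k = 2) {m : Fin t} {δ : V} (hδ : δ ∈ D m) (hδ0 : δ ≠ 0) (hQδ : Q δ = 0) :
    7 ≤ Nat.card F := by
  rcases st.shape with ⟨-, -, h | ⟨-, h⟩⟩ | ⟨h, -⟩
  · exact h
  · exact absurd (h m δ hδ hQδ) hδ0
  · omega

/-- a singular vector of a piece can be scaled by an element of the stabiliser -/
theorem exists_scale (hq : 4 ≤ Nat.card F) {m : Fin t} {δ : V} (hδ : δ ∈ D m) (hδ0 : δ ≠ 0) (hQδ : Q δ = 0) :
    ∃ h ∈ M, ∃ r : F, r ≠ 1 ∧ ∀ x : V, ∀ s : F, p m x = s • δ → h.1 x = x + ((r - 1) * s) • δ := by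
  obtain ⟨s, hs0, hs1, hs2⟩ := exists_param (F := F) hq 0 1 (-1)
  obtain ⟨δ', hδ', hQδ', hp⟩ := st.exists_opposite hδ hδ0 hQδ
  obtain ⟨u, hu⟩ : ∃ u, u = δ + (1 : F) • δ' := ⟨_, rfl⟩
  obtain ⟨v, hv⟩ : ∃ v, v = s • δ + s⁻¹ • δ' := ⟨_, rfl⟩
  have hum : u ∈ D m := hu ▸ add_mem hδ ((D m).smul_mem _ hδ')
  have hvm : v ∈ D m := hv ▸ add_mem ((D m).smul_mem _ hδ) ((D m).smul_mem _ hδ')
  have hQu : Q u = 1 := by rw [hu, quad_map_add_smul, hQδ, hQδ', hp]; ring
  have hQv : Q v = 1 := by
    rw [hv, quad_map_add_smul, quad_smul, hQδ, hQδ', QuadraticMap.polar_smul_left, hp, smul_eq_mul]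
    field_simp; ring
  refine ⟨rs Q v * rs Q u, st.frame_pair hvm hum (by rw [hQv]; exact one_ne_zero) (hQv.trans hQu.symm),
    s * s, fun h => ?_, fun x r hx => ?_⟩
  · rcases mul_self_eq_one_iff.1 h with h | h
    · exact hs1 h
    · exact hs2 h
  have hfix : ∀ y : V, polar Q u y = 0 → polar Q v y = 0 → (rs Q v * rs Q u).1 y = y := fun y h1 h2 => by
    show (rs Q v).1 ((rs Q u).1 y) = y
    rw [rs_fix h1, rs_fix h2]
  have hδu : polar Q u δ = 1 := by
    rw [hu, QuadraticMap.polar_add_left, QuadraticMap.polar_smul_left, polar_self_two, hQδ,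
      QuadraticMap.polar_comm _ δ', hp]
    simp
  have hvd : polar Q v δ' = s := by
    rw [hv, QuadraticMap.polar_add_left, QuadraticMap.polar_smul_left, QuadraticMap.polar_smul_left, hp,
      polar_self_two, hQδ']
    simp
  have himg : (rs Q v * rs Q u).1 δ = (s * s) • δ := by
    show (rs Q v).1 ((rs Q u).1 δ) = _
    rw [rs_apply (v := u) (by rw [hQu]; exact one_ne_zero), hQu, hδu, inv_one, one_mul, one_smul, hu,
      one_smul, show δ - (δ + δ') = -δ' by abel, map_neg, rs_apply (by rw [hQv]; exact one_ne_zero), hQv, hvd,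
      hv, inv_one, one_mul, smul_add, smul_smul, smul_smul, mul_inv_cancel₀ hs0, one_smul]
    abel
  conv_lhs => rw [← add_sub_cancel (p m x) x, map_add,
    hfix _ (st.polar_rest m x hum) (st.polar_rest m x hvm), hx, map_smul, himg]
  module

/-- the component at a piece fixed pointwise is kept -/
theorem p_fix {h : quadIsoms Q} {m : Fin t} (hfix : ∀ y ∈ D m, h.1 y = y) (x : V) :
    p m (h.1 x) = p m x := by
  refine sub_eq_zero.1 (st.nd m _ (sub_mem (st.mem m _) (st.mem m x)) fun y hy => ?_)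
  rw [QuadraticMap.polar_sub_left, st.polar_p _ hy, st.polar_p _ hy]
  conv_lhs => lhs; rw [← hfix y hy]
  rw [polar_map, sub_self]

theorem p_sup {i j l : Fin t} (hli : l ≠ i) (hlj : l ≠ j) {x : V} (hx : x ∈ D i ⊔ D j) : p l x = 0 := by
  obtain ⟨a, ha, b, hb, rfl⟩ := Submodule.mem_sup.1 hx
  rw [map_add, st.p_other hli ha, st.p_other hlj hb, add_zero]

/-- non-zero vectors of three different pieces do not lie in the span of two vectors -/
theorem not_three {a b x y z : V} {i j l : Fin t} (hij : i ≠ j) (hil : i ≠ l) (hjl : j ≠ l)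
    (hx : x ∈ D i) (hy : y ∈ D j) (hz : z ∈ D l) (hx0 : x ≠ 0) (hy0 : y ≠ 0) (hz0 : z ≠ 0)
    (hxs : x ∈ Submodule.span F {a, b}) (hys : y ∈ Submodule.span F {a, b})
    (hzs : z ∈ Submodule.span F {a, b}) : False := by
  classical
  have hli : LinearIndependent F ![x, y, z] := by
    rw [Fintype.linearIndependent_iff]
    intro g hg
    simp only [Fin.sum_univ_three] at hg
    have key : ∀ m, p m (g 0 • x + g 1 • y + g 2 • z) = 0 := fun m => by
      show p m (g 0 • ![x, y, z] 0 + g 1 • ![x, y, z] 1 + g 2 • ![x, y, z] 2) = 0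
      rw [hg, map_zero]
    intro m
    fin_cases m
    · have h := key i
      rw [map_add, map_add, map_smul, map_smul, map_smul, st.p_self hx, st.p_other hij hy,
        st.p_other hil hz] at h
      simpa [hx0] using h
    · have h := key j
      rw [map_add, map_add, map_smul, map_smul, map_smul, st.p_self hy, st.p_other (Ne.symm hij) hx,
        st.p_other hjl hz] at h
      simpa [hy0] using h
    · have h := key l
      rw [map_add, map_add, map_smul, map_smul, map_smul, st.p_self hz, st.p_other (Ne.symm hil) hx,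
        st.p_other (Ne.symm hjl) hy] at h
      simpa [hz0] using h
  have hle : Submodule.span F (Set.range ![x, y, z]) ≤ Submodule.span F {a, b} := by
    rw [Submodule.span_le]
    rintro v ⟨m, rfl⟩
    fin_cases m
    · exact hxs
    · exact hys
    · exact hzs
  have h1 := Submodule.finrank_mono hle
  have h2 := finrank_span_finset_le_card ({a, b} : Finset V) (R := F)
  rw [Finset.coe_pair] at h2
  rw [finrank_span_eq_card hli, Fintype.card_fin] at h1
  exact absurd (le_trans h1 (le_trans h2 Finset.card_le_two)) (by norm_num)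

/-- when the product of two reflections stabilises the frame, the vectors have small support -/
theorem pair_stab {a b : V} {c : F} (hc : c ≠ 0) (hQa : Q a = c) (hQb : Q b = c)
    (hab : ∀ r : F, a ≠ r • b) (hs : Stab D (rs Q a * rs Q b)) :
    (∀ j, p j a ∈ Submodule.span F {a, b} ∧ p j b ∈ Submodule.span F {a, b}) ∨
      (k ≤ 2 ∧ ∃ i l, a ∈ D i ⊔ D l ∧ b ∈ D i ⊔ D l) := by
  obtain ⟨S, hS⟩ : ∃ S : Submodule F V, S = Submodule.span F {a, b} := ⟨_, rfl⟩
  have haS : a ∈ S := hS ▸ Submodule.subset_span (by simp)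
  have hbS : b ∈ S := hS ▸ Submodule.subset_span (by simp)
  obtain ⟨e, he⟩ : ∃ e : quadIsoms Q, e = rs Q a * rs Q b := ⟨_, rfl⟩
  rw [← he] at hs
  have hev : ∀ z, e.1 z = (rs Q a).1 ((rs Q b).1 z) := fun z => by rw [he]; rfl
  have hdiff : ∀ z, e.1 z - z ∈ S := fun z => by
    rw [hev, rs_apply (hQa ▸ hc), rs_apply (hQb ▸ hc)]
    rw [show z - ((Q b)⁻¹ * polar Q b z) • b - ((Q a)⁻¹ * polar Q a (z - ((Q b)⁻¹ * polar Q b z) • b)) • a - z =
      -(((Q b)⁻¹ * polar Q b z) • b + ((Q a)⁻¹ * polar Q a (z - ((Q b)⁻¹ * polar Q b z) • b)) • a) by abel]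
    exact neg_mem (add_mem (S.smul_mem _ hbS) (S.smul_mem _ haS))
  rw [← hS]
  by_cases hall : ∀ j, ∀ z ∈ D j, e.1 z ∈ D j
  · left
    have himg : ∀ z j, p j (e.1 z - z) ∈ S := fun z j => by
      have h : p j (e.1 z) = e.1 (p j z) := by
        conv_lhs => rw [← st.sum z, map_sum, map_sum]
        rw [Finset.sum_eq_single j (fun l _ hl => st.p_other (Ne.symm hl) (hall l _ (st.mem l z))) (by simp),
          st.p_self (hall j _ (st.mem j z))]
      rw [map_sub, h]; exact hdiff _
    have hfunc : ∀ a' b' : V, Q b' = c → (∀ r : F, a' ≠ r • b') →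
        ∃ z, polar Q b' z = 0 ∧ polar Q a' z ≠ 0 := by
      intro a' b' hQ' hne
      by_contra hh
      push Not at hh
      obtain ⟨w, hw⟩ : ∃ w, polar Q b' w ≠ 0 := by
        by_contra h'
        push Not at h'
        exact hc (by rw [← hQ', st.sep b' h']; exact map_zero Q)
      refine hne (polar Q a' w / polar Q b' w) (sub_eq_zero.1 (st.sep _ fun y => ?_))
      have h0 := hh (y - (polar Q b' y / polar Q b' w) • w) (by
        rw [QuadraticMap.polar_sub_right, QuadraticMap.polar_smul_right, smul_eq_mul,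
          div_mul_cancel₀ _ hw, sub_self])
      rw [QuadraticMap.polar_sub_right, QuadraticMap.polar_smul_right, smul_eq_mul] at h0
      rw [QuadraticMap.polar_sub_left, QuadraticMap.polar_smul_left, smul_eq_mul, ← h0]
      field_simp
    have hba : ∀ r : F, b ≠ r • a := fun r h => by
      rcases eq_or_ne r 0 with rfl | hr
      · exact hc (by rw [← hQb, h, zero_smul]; exact map_zero Q)
      · exact hab r⁻¹ (by rw [h, smul_smul, inv_mul_cancel₀ hr, one_smul])
    intro j
    constructor
    · obtain ⟨z, hbz, haz⟩ := hfunc a b hQb hab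
      have h := himg z j
      rw [hev, rs_fix hbz, rs_apply (hQa ▸ hc), sub_sub_cancel_left, map_neg, map_smul,
        Submodule.neg_mem_iff] at h
      exact (Submodule.smul_mem_iff _ (mul_ne_zero (inv_ne_zero (hQa ▸ hc)) haz)).1 h
    · obtain ⟨z, haz, hbz⟩ := hfunc b a hQa hba
      have h := himg ((rs Q b).1 z) j
      rw [hev, rs_rs, rs_fix haz, rs_apply (hQb ▸ hc), sub_sub_cancel, map_smul] at h
      exact (Submodule.smul_mem_iff _ (mul_ne_zero (inv_ne_zero (hQb ▸ hc)) hbz)).1 h
  · right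
    push Not at hall
    obtain ⟨j, z₀, hz₀, hz₀'⟩ := hall
    obtain ⟨l, hl⟩ := hs j
    have hjl : j ≠ l := fun h => hz₀' (by rw [h]; exact hl z₀ hz₀)
    obtain ⟨L, hL⟩ : ∃ L : D j →ₗ[F] V, ∀ z : D j, L z = e.1 (z : V) - (z : V) :=
      ⟨e.1.toLinearMap ∘ₗ (D j).subtype - (D j).subtype, fun z => rfl⟩
    have hinj : Function.Injective L := by
      rw [← LinearMap.ker_eq_bot, LinearMap.ker_eq_bot']
      intro z hz
      rw [hL, sub_eq_zero] at hz
      exact Subtype.ext (st.disjoint hjl z.2 (hz ▸ hl z z.2))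
    have hrange : LinearMap.range L ≤ S := by
      rintro v ⟨z, rfl⟩; rw [hL]; exact hdiff _
    have hr2 : LinearMap.range L ≤ D j ⊔ D l := by
      rintro v ⟨z, rfl⟩
      rw [hL]
      exact sub_mem (Submodule.mem_sup_right (hl z z.2)) (Submodule.mem_sup_left z.2)
    have h1 : Module.finrank F (LinearMap.range L) = k := by
      rw [LinearMap.finrank_range_of_inj hinj, st.dim]
    have h2 : Module.finrank F S ≤ 2 := by
      classical
      have h2 := finrank_span_finset_le_card ({a, b} : Finset V) (R := F)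
      rw [Finset.coe_pair, Set.finrank, ← hS] at h2
      exact le_trans h2 Finset.card_le_two
    have h3 := Submodule.finrank_mono hrange
    have heq := Submodule.eq_of_le_of_finrank_le hrange (by have := st.kge; omega)
    exact ⟨by omega, j, l, hr2 (heq ▸ haS), hr2 (heq ▸ hbS)⟩

end Setting

end CfsgLib.MaxSub.ORefl
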